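import Cfsg.Agent.Lib.ThreePrime.Comp.Simple
import Cfsg.Agent.Lib.LocalEven.Generation

/-!
Owner: helper13. Exactly two parts: their simple groups commute.
-/

set_option autoImplicit false
set_option linter.style.haveILetI false
set_option linter.unusedSectionVars false

namespace CfsgLib.ThreePrime.Comp

open Subgroup
open CfsgLib.Components
open scoped commutatorElement

universe u

variable {G : Type u} [Group G] [Finite G] {S : Sylow 2 G} {A : Subgroup G}

/-- Two parts, and no other. -/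
structure Two (S : Sylow 2 G) (A Z1 X1 Z2 X2 : Subgroup G) : Prop where
  hs : Setting S A
  hW : W0 A = ⊥
  p1 : IsPart A Z1 Z2
  x1 : HasX Z1 Z2 X1
  p2 : IsPart A Z2 Z1
  x2 : HasX Z2 Z1 X2
  only : ∀ Z B : Subgroup G, IsPart A Z B → Z = Z1 ∨ Z = Z2

namespace Two

variable {Z1 X1 Z2 X2 : Subgroup G} (h : Two S A Z1 X1 Z2 X2)

include h

theorem ne : Z1 ≠ Z2 := by
  intro e
  obtain ⟨z, hz, hz1⟩ := h.p1.split.exists_ne_one
  exact hz1 (h.p1.split.eq_one hz (e ▸ hz))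

theorem swap : Two S A Z2 X2 Z1 X1 :=
  ⟨h.hs, h.hW, h.p2, h.x2, h.p1, h.x1, fun Z B hp => (h.only Z B hp).symm⟩

/-- An element of `N(A)` centralising an element of `Z₁` fixes both parts and the group of the second. -/
theorem fix_of_centralizes {g z : G} (hg : g ∈ normalizer (A : Set G)) (hz : z ∈ Z1) (hz1 : z ≠ 1)
    (hgz : g ∈ centralizer ({z} : Set G)) :
    g ∈ normalizer (Z1 : Set G) ∧ g ∈ normalizer (Z2 : Set G) ∧
      g ∈ normalizer (X1 : Set G) ∧ g ∈ normalizer (X2 : Set G) := by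
  set c := (MulAut.conj g).toMonoidHom with hc
  have hgz' : g * z * g⁻¹ = z := by
    rw [mem_centralizer_singleton_iff.mp hgz, mul_inv_cancel_right]
  have e1 : Z1.map c = Z1 :=
    h.p1.split.eq_of_mem (h.p1.conj hg).split hz ⟨z, hz, hgz'⟩ hz1
  have e2 : Z2.map c = Z2 := by
    rcases h.only _ _ (h.p2.conj hg) with e | e
    · exact absurd (map_injective (MulAut.conj g).injective (e.trans e1.symm)) h.ne.symm
    · exact e
  have hX1 := h.x1.map g
  rw [← hc, e1, e2] at hX1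
  have hX2 := h.x2.map g
  rw [← hc, e1, e2] at hX2
  obtain ⟨w, hw, hw1⟩ := h.p2.split.exists_ne_one
  exact ⟨mem_normalizer_iff_map_conj_eq.2 e1, mem_normalizer_iff_map_conj_eq.2 e2,
    mem_normalizer_iff_map_conj_eq.2 (X_unique h.hs h.hW h.p1 h.x1 hX1 hw hw1),
    mem_normalizer_iff_map_conj_eq.2 (X_unique h.hs h.hW h.p2 h.x2 hX2 hz hz1)⟩

theorem centralizer_le_normalizer {z : G} (hz : z ∈ Z1) (hz1 : z ≠ 1) :
    centralizer ({z} : Set G) ≤ normalizer (X2 : Set G) ⊓ normalizer (Z1 : Set G) := by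
  have hzA : z ∈ A := h.p1.split.Z_le hz
  have hN : ∀ g ∈ normalizer (A : Set G), g ∈ centralizer ({z} : Set G) →
      g ∈ normalizer (X2 : Set G) ⊓ normalizer (Z1 : Set G) := fun g hg hgz =>
    ⟨(h.fix_of_centralizes hg hz hz1 hgz).2.2.2, (h.fix_of_centralizes hg hz hz1 hgz).1⟩
  refine cent_le_of h.hs hzA hz1 ?_ hN fun Y hY => ?_
  · rw [core_eq_bot h.hW hzA hz1]; exact bot_le
  by_cases hm : AK A z ≤ centralizer (Y : Set (Kq z))
  · intro y hy
    exact hN y ((Subgroup.centralizer_le_normalizer _)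
      (low_le_centralizer_of_unmoved h.hs h.hW hzA hz1 hm hy)) (mem_low.mp hy).1
  obtain ⟨hp, hzB, hx⟩ := isPart_of_moved h.hs hzA hz1 hY hm
  rcases h.only _ _ hp with e | e
  · exact absurd (hp.split.eq_one (e.symm ▸ hz) hzB) hz1
  · have hB := B_unique h.hs h.p2 (e ▸ hp)
    have hxe := hx h.hW
    rw [e, hB] at hxe
    rw [X_unique h.hs h.hW h.p2 h.x2 hxe hz hz1]
    exact le_inf le_normalizer (h.x2.cent.trans (Subgroup.centralizer_le_normalizer _))

/-- An element normalising `X₁` and centralising `Z₁` acts as an element of the Sylow subgroup. -/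
theorem exists_eq_conj {g : G} (hg : g ∈ normalizer (X1 : Set G)) (hgZ : g ∈ centralizer (Z1 : Set G)) :
    ∃ p : X1, (∃ k : ℕ, p ^ 2 ^ k = 1) ∧ X1.normalizerMonoidHom ⟨g, hg⟩ = MulAut.conj p := by
  obtain ⟨w, hw, hw1⟩ := h.p2.split.exists_ne_one
  obtain ⟨P, hsz, hcen, -, -⟩ := exists_frame h.hs h.hW h.p1 h.x1 hw hw1
  obtain ⟨p, hp, he⟩ := hsz.fix (X1.normalizerMonoidHom ⟨g, hg⟩) fun z hz => Subtype.ext (by
    show g * (z : G) * g⁻¹ = z
    rw [← mem_centralizer_iff.mp hgZ z ((hcen z).mp hz), mul_inv_cancel_right])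
  obtain ⟨k, hk⟩ := P.isPGroup' ⟨p, hp⟩
  exact ⟨p, ⟨k, congrArg Subtype.val hk⟩, he⟩

theorem mem_centralizer_of_odd {g : G} (hg : g ∈ normalizer (X1 : Set G))
    (hgZ : g ∈ centralizer (Z1 : Set G)) (ho : Odd (orderOf g)) : g ∈ centralizer (X1 : Set G) := by
  obtain ⟨p, ⟨k, hk⟩, he⟩ := h.exists_eq_conj hg hgZ
  have h1 : X1.normalizerMonoidHom ⟨g, hg⟩ = 1 := by
    refine orderOf_eq_one_of_two_of_odd (k := k) (by rw [he, ← map_pow, hk, map_one]) ?_
    exact ho.of_dvd_nat ((orderOf_map_dvd _ _).trans (dvd_of_eq (Subgroup.orderOf_mk g hg)))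
  refine mem_centralizer_iff.mpr fun x hx => ?_
  have h2 : g * x * g⁻¹ = x := congrArg Subtype.val (DFunLike.congr_fun h1 (⟨x, hx⟩ : X1))
  exact (mul_inv_eq_iff_eq_mul.mp h2).symm

theorem commute : X2 ≤ centralizer (X1 : Set G) := by
  classical
  haveI : Fact (Nat.Prime 2) := ⟨Nat.prime_two⟩
  have hA := h.hs.elem
  have hZ1A : Z1 ≤ A := h.p1.split.Z_le
  obtain ⟨z, hz, hz1⟩ := h.p1.split.exists_ne_one
  obtain ⟨z2, hz2, hz21⟩ := h.p2.split.exists_ne_one
  obtain ⟨P2, hsz2, hcen2, hP2A, hN2⟩ := exists_frame h.hs h.hW h.p2 h.x2 hz hz1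
  haveI := h.x1.simple
  have hc1 := center_eq_bot_of_card h.p1.split.eight h.x1.card
  obtain ⟨t, htN, w, hwN, htodd, hwt, htr⟩ := hsz2.torus
  have hX2z : ∀ x : X2, (x : G) ∈ centralizer ({z} : Set G) := fun x =>
    mem_centralizer_singleton_iff.mpr (mem_centralizer_iff.mp (h.x2.cent x.2) z hz).symm
  -- `t` centralises `X₁`
  have htodd' : Odd (orderOf (t : G)) := (Subgroup.orderOf_coe t).symm ▸ htodd
  have htX : (t : G) ∈ centralizer (X1 : Set G) :=
    h.mem_centralizer_of_odd (h.fix_of_centralizes (hN2 t htN) hz hz1 (hX2z t)).2.2.1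
      (h.x2.cent t.2) htodd'
  -- `P₂` centralises `X₁`
  have hPN : ∀ p : X2, p ∈ (P2 : Subgroup X2) → (p : G) ∈ normalizer (X1 : Set G) := fun p hp =>
    (h.fix_of_centralizes ((Subgroup.centralizer_le_normalizer _) (hP2A p hp)) hz hz1 (hX2z p)).2.2.1
  let f : (P2 : Subgroup X2) →* MulAut X1 :=
    MonoidHom.mk' (fun p => X1.normalizerMonoidHom ⟨((p : X2) : G), hPN p p.2⟩)
      fun p q => by rw [← map_mul]; rfl
  have hker : ∀ p : (P2 : Subgroup X2), f p = 1 ↔ ((p : X2) : G) ∈ centralizer (X1 : Set G) := by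
    intro p
    constructor
    · intro h1
      refine mem_centralizer_iff.mpr fun x hx => ?_
      have h2 : ((p : X2) : G) * x * ((p : X2) : G)⁻¹ = x :=
        congrArg Subtype.val (DFunLike.congr_fun h1 (⟨x, hx⟩ : X1))
      exact (mul_inv_eq_iff_eq_mul.mp h2).symm
    · intro h1
      refine MulEquiv.ext fun x => Subtype.ext ?_
      show ((p : X2) : G) * (x : G) * ((p : X2) : G)⁻¹ = x
      rw [← mem_centralizer_iff.mp h1 x x.2, mul_inv_cancel_right]
  have hfcen : ∀ p : (P2 : Subgroup X2), (p : X2) ∈ cen (P2 : Subgroup X2) → f p = 1 := fun p hp =>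
    (hker p).mpr (mem_centralizer_iff.mpr fun x hx =>
      (mem_centralizer_iff.mp (h.x1.cent hx) _ ((hcen2 p).mp hp)).symm)
  have htpow : ∀ i : ℕ, ((t ^ i : X2) : G) ∈ centralizer (X1 : Set G) := fun i => by
    rw [SubmonoidClass.coe_pow]; exact pow_mem htX i
  have hconst : ∀ p q : (P2 : Subgroup X2), (p : X2) ∉ cen (P2 : Subgroup X2) →
      (q : X2) ∉ cen (P2 : Subgroup X2) → f p = f q := by
    intro p q hp hq
    obtain ⟨i, hi⟩ := htr p p.2 hp q q.2 hq
    have hmem : t ^ i * (p : X2) * (t ^ i)⁻¹ ∈ (P2 : Subgroup X2) :=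
      (mem_normalizer_iff.mp (pow_mem htN i) _).mp p.2
    have e1 : f ⟨_, hmem⟩ = f p := by
      refine MulEquiv.ext fun x => Subtype.ext ?_
      show ((t ^ i * (p : X2) * (t ^ i)⁻¹ : X2) : G) * (x : G) *
        ((t ^ i * (p : X2) * (t ^ i)⁻¹ : X2) : G)⁻¹ = ((p : X2) : G) * (x : G) * ((p : X2) : G)⁻¹
      set s : G := ((t ^ i : X2) : G) with hs
      have hs' : ∀ y ∈ X1, y * s = s * y := fun y hy => mem_centralizer_iff.mp (htpow i) y hy
      have hy : ((p : X2) : G) * (x : G) * ((p : X2) : G)⁻¹ ∈ X1 :=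
        (mem_normalizer_iff.mp (hPN p p.2) _).mp x.2
      have h1 : s⁻¹ * (x : G) * s = x := by rw [mul_assoc, hs' x x.2, inv_mul_cancel_left]
      calc ((t ^ i * (p : X2) * (t ^ i)⁻¹ : X2) : G) * (x : G) *
            ((t ^ i * (p : X2) * (t ^ i)⁻¹ : X2) : G)⁻¹
          = s * ((p : X2) : G) * (s⁻¹ * (x : G) * s) * ((p : X2) : G)⁻¹ * s⁻¹ := by
            rw [hs]; push_cast; group
        _ = s * (((p : X2) : G) * (x : G) * ((p : X2) : G)⁻¹) * s⁻¹ := by rw [h1]; group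
        _ = _ := by rw [← hs' _ hy, mul_inv_cancel_right]
    have e2 : f (⟨_, hmem⟩ * q⁻¹) = 1 := hfcen _ hi
    rw [map_mul, map_inv, mul_inv_eq_one, e1] at e2
    exact e2
  have hout : ∃ x y : (P2 : Subgroup X2), (x : X2) ∉ cen (P2 : Subgroup X2) ∧
      (y : X2) ∉ cen (P2 : Subgroup X2) ∧ (x : X2) * y ∉ cen (P2 : Subgroup X2) := by
    have hcard := hsz2.card
    have h8 := hsz2.eight
    obtain ⟨x, hx⟩ : ∃ x : (P2 : Subgroup X2), (x : X2) ∉ cen (P2 : Subgroup X2) := by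
      by_contra hcon
      push Not at hcon
      have h1 := Subgroup.card_le_of_le (show (P2 : Subgroup X2) ≤ cen (P2 : Subgroup X2) from
        fun p hp => hcon ⟨p, hp⟩)
      nlinarith
    refine ⟨x, ?_⟩
    by_contra hcon
    push Not at hcon
    let g : ↥(P2 : Subgroup X2) → (cen (P2 : Subgroup X2)) ⊕ (cen (P2 : Subgroup X2)) := fun y =>
      if hy : (y : X2) ∈ cen (P2 : Subgroup X2) then Sum.inl ⟨y, hy⟩
      else Sum.inr ⟨(x : X2) * y, hcon y hx hy⟩
    have hg : Function.Injective g := by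
      intro a b e
      by_cases ha : (a : X2) ∈ cen (P2 : Subgroup X2) <;>
        by_cases hb : (b : X2) ∈ cen (P2 : Subgroup X2) <;>
          simp only [g, ha, hb, ↓reduceDIte, Sum.inl.injEq, Sum.inr.injEq, Subtype.mk.injEq, mul_right_inj,
            reduceCtorEq] at e <;>
          exact Subtype.ext e
    have h1 := Nat.card_le_card_of_injective g hg
    rw [Nat.card_sum] at h1
    nlinarith
  have hPX : ∀ p : X2, p ∈ (P2 : Subgroup X2) → (p : G) ∈ centralizer (X1 : Set G) := by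
    obtain ⟨x, y, hx, hy, hxy⟩ := hout
    have hfx : f x = 1 := by
      have h1 := hconst (x * y) x hxy hx
      rw [map_mul, mul_eq_left] at h1
      rw [← hconst y x hy hx, h1]
    intro p hp
    refine (hker ⟨p, hp⟩).mp ?_
    by_cases hpc : p ∈ cen (P2 : Subgroup X2)
    · exact hfcen ⟨p, hp⟩ hpc
    · rw [hconst ⟨p, hp⟩ x hpc hx, hfx]
  have ht1 : (t : G) ≠ 1 := by
    intro e
    obtain ⟨x, y, hx, hy, hxy⟩ := hout
    have ht' : t = 1 := Subtype.ext e
    obtain ⟨i, hi⟩ := htr x x.2 hx (y : X2)⁻¹ (inv_mem y.2) (fun h' => hy (by simpa using inv_mem h'))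
    rw [ht', one_pow, one_mul, inv_one, mul_one, inv_inv] at hi
    exact hxy hi
  -- the centraliser `H` of `t`
  set H := centralizer ({(t : G)} : Set G) with hH
  have hX1H : X1 ≤ H := fun x hx => mem_centralizer_singleton_iff.mpr (mem_centralizer_iff.mp htX x hx)
  have hHtop : H ≠ ⊤ := by
    intro e
    have hcz : (t : G) ∈ center G := Subgroup.mem_center_iff.mpr fun g =>
      mem_centralizer_singleton_iff.mp (hH ▸ e ▸ mem_top g)
    haveI := h.hs.hyp.simple
    rcases IsSimpleGroup.eq_bot_or_eq_top_of_normal (center G) inferInstance with h1 | h1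
    · rw [h1, mem_bot] at hcz; exact ht1 hcz
    · exact h.hs.hyp.nonab ⟨⟨fun x y => Subgroup.mem_center_iff.mp (h1 ▸ mem_top y) x⟩⟩
  have hZ1H : Z1 ≤ H := h.x1.le.trans hX1H
  set D : Subgroup H := Z1.subgroupOf H with hD
  have hDel : Cfsg.IsElementaryAbelian 2 D :=
    ⟨⟨⟨fun x y => Subtype.ext (Subtype.ext (elem_comm hA (hZ1A x.2) (hZ1A y.2)))⟩⟩,
      fun x hx => Subtype.ext (hA.2 _ (hZ1A hx))⟩
  obtain ⟨TH, hTH⟩ := (isPGroup_elem hDel).exists_le_sylow
  -- `Z₁` is strongly closed in a Sylow subgroup of `H`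
  have hcl : Cfsg.IsStronglyClosed D (TH : Subgroup H) := by
    refine ⟨hTH, fun x hx g hg => ?_⟩
    obtain ⟨P, hP⟩ := (TH.isPGroup'.map H.subtype).exists_le_sylow
    obtain ⟨k, hk⟩ := MulAction.exists_smul_eq G P S
    have hmem : ∀ c : H, c ∈ (TH : Subgroup H) → k * (c : G) * k⁻¹ ∈ (S : Subgroup G) := by
      intro c hc
      rw [← hk, Sylow.coe_subgroup_smul, Subgroup.mem_pointwise_smul_iff_inv_smul_mem]
      simpa [MulAut.smul_def, mul_assoc] using hP ⟨c, hc, rfl⟩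
    set y : H := g * x * g⁻¹ with hy
    have hzk : k * z * k⁻¹ ∈ A := h.hs.closed.2 z (hZ1A hz) k
      (hmem ⟨z, hZ1H hz⟩ (hTH (mem_subgroupOf.mpr hz)))
    have hyk : k * (y : G) * k⁻¹ ∈ A := by
      have e : k * (y : G) * k⁻¹ = (k * g) * x * (k * g)⁻¹ := by rw [hy]; push_cast; group
      rw [e]
      exact h.hs.closed.2 _ (hZ1A hx) _ (e ▸ hmem y hg)
    obtain ⟨μ, hμ, hμk⟩ := exists_mem_normalizer_of_mem_conj hA h.hs.closed (hZ1A hz)
      (g := k⁻¹) (by rwa [inv_inv])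
    have hμy : μ * (y : G) * μ⁻¹ ∈ A := by
      have h1 := (mem_normalizer_iff.mp hμk _).mp hyk
      rwa [show μ * k⁻¹ * (k * (y : G) * k⁻¹) * (μ * k⁻¹)⁻¹ = μ * (y : G) * μ⁻¹ by group] at h1
    obtain ⟨hμX, hμZ⟩ := mem_inf.mp (h.centralizer_le_normalizer hz hz1 hμ)
    obtain ⟨R, P', C, hsp⟩ := h.p1.split
    obtain ⟨w1, hw1, w2, hw2, hμyw⟩ := hsp.A_le _ hμy
    set u := μ⁻¹ * w1 * μ with hu
    set v := μ⁻¹ * w2 * μ with hv
    have hyuv : (y : G) = u * v := by
      calc (y : G) = μ⁻¹ * (μ * (y : G) * μ⁻¹) * μ := by group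
        _ = u * v := by rw [hμyw, hu, hv]; group
    have huZ : u ∈ Z1 := (mem_normalizer_iff''.mp hμZ w1).mp hw1
    have hvX : v ∈ X2 := (mem_normalizer_iff''.mp hμX w2).mp (h.x2.le hw2)
    by_cases hv1 : v = 1
    · rw [hD, mem_subgroupOf, hyuv, hv1, mul_one]
      exact huZ
    exfalso
    have hvt : Commute (t : G) v := by
      have h1 : Commute (t : G) (y : G) := (mem_centralizer_singleton_iff.mp y.2).symm
      have h2 : Commute (t : G) u := (mem_centralizer_singleton_iff.mp (hZ1H huZ)).symm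
      have h3 := h2.inv_right.mul_right h1
      rwa [hyuv, inv_mul_cancel_left] at h3
    have hvv : v * v = 1 := by
      calc v * v = μ⁻¹ * (w2 * w2) * μ := by rw [hv]; group
        _ = 1 := by rw [sq_one hA (h.p2.split.Z_le hw2)]; group
    set v' : X2 := ⟨v, hvX⟩ with hv'
    have hvo : v' * v' = 1 := Subtype.ext hvv
    have hvp : IsPGroup 2 (zpowers v') := by
      refine IsPGroup.of_card (n := 1) ?_
      rw [Nat.card_zpowers, Signalizer.orderOf_eq_two_of (fun e => hv1 (congrArg Subtype.val e)) hvo,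
        pow_one]
    obtain ⟨Q, hQ⟩ := hvp.exists_le_sylow
    obtain ⟨c, hc⟩ := MulAction.exists_smul_eq X2 Q P2
    have hvc : c * v' * c⁻¹ ∈ (P2 : Subgroup X2) := by
      rw [← hc, Sylow.coe_subgroup_smul]
      exact Subgroup.smul_mem_pointwise_smul _ (MulAut.conj c) _ (hQ (mem_zpowers v'))
    have hvz := hsz2.sq _ hvc (by
      calc c * v' * c⁻¹ * (c * v' * c⁻¹) = c * (v' * v') * c⁻¹ := by group
        _ = 1 := by rw [hvo, mul_one, mul_inv_cancel])
    have hct : c * t * c⁻¹ ∈ (P2 : Subgroup X2) := by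
      refine hsz2.cent_inv _ hvz (fun e => hv1 (congrArg Subtype.val (conj_eq_one_iff.mp e)))
        (mem_centralizer_singleton_iff.mpr ?_)
      have h4 : t * v' = v' * t := Subtype.ext hvt.eq
      calc c * t * c⁻¹ * (c * v' * c⁻¹) = c * (t * v') * c⁻¹ := by group
        _ = c * (v' * t) * c⁻¹ := by rw [h4]
        _ = c * v' * c⁻¹ * (c * t * c⁻¹) := by group
    have h5 := eq_one_of_odd P2.isPGroup' hct (by rw [Signalizer.orderOf_conj]; exact htodd)
    exact ht1 (congrArg Subtype.val (conj_eq_one_iff.mp h5))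
  -- the core of `H`
  set O := (Cfsg.oddCore H).map H.subtype with hO
  have hOodd : Odd (Nat.card O) := by
    rw [hO, card_map_of_injective H.subtype_injective]; exact odd_oddCore H
  have hHO : H ≤ normalizer (O : Set G) := by
    refine fun g hg => mem_normalizer_of_forall ?_
    rintro _ ⟨o, ho, rfl⟩
    exact ⟨⟨g, hg⟩ * o * ⟨g, hg⟩⁻¹, (inferInstance : (Cfsg.oddCore H).Normal).conj_mem o ho _, rfl⟩
  have hodd1 : ∀ o ∈ O, o ∈ A → o = 1 := fun o ho hoA => eq_one_of_odd (isPGroup_elem hA) hoA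
    (hOodd.of_dvd_nat (Subgroup.orderOf_dvd_natCard _ ho))
  have hOZ : O ≤ centralizer (Z1 : Set G) := by
    haveI : IsMulCommutative Z1 := ⟨⟨fun x y => Subtype.ext (elem_comm hA (hZ1A x.2) (hZ1A y.2))⟩⟩
    refine CfsgLib.LocalEven.le_of_centralizers_le (A := Z1) (p := 2) (fun x hx => hA.2 x (hZ1A hx))
      (by have := h.p1.split.eight; omega) (hZ1H.trans hHO)
      (fun hd => Nat.not_even_iff_odd.mpr hOodd (even_iff_two_dvd.mpr hd)) fun a ha ha1 => ?_
    intro o ho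
    obtain ⟨hoO, hoc⟩ := mem_inf.mp ho
    have hoN := (mem_inf.mp (h.centralizer_le_normalizer ha ha1 hoc)).2
    refine mem_centralizer_iff.mpr fun x hx => ?_
    have h1 : o * x * o⁻¹ * x⁻¹ = 1 := by
      refine hodd1 _ ?_ (hZ1A (mul_mem ((mem_normalizer_iff.mp hoN x).mp hx) (inv_mem hx)))
      rw [show o * x * o⁻¹ * x⁻¹ = o * (x * o⁻¹ * x⁻¹) by group]
      exact mul_mem hoO ((mem_normalizer_iff.mp (hHO (hZ1H hx)) _).mp (inv_mem hoO))
    rw [mul_inv_eq_one, mul_inv_eq_iff_eq_mul] at h1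
    exact h1.symm
  have hXO : X1 ≤ centralizer (O : Set G) := by
    have hn : ((centralizer (O : Set G)).subgroupOf X1).Normal := by
      refine ⟨fun x hx g => mem_subgroupOf.mpr (mem_centralizer_iff.mpr fun o ho => ?_)⟩
      have ho' : (g : G)⁻¹ * o * (g : G) ∈ O := (mem_normalizer_iff''.mp (hHO (hX1H g.2)) o).mp ho
      have h1 := mem_centralizer_iff.mp (mem_subgroupOf.mp hx) _ ho'
      push_cast
      calc o * ((g : G) * x * (g : G)⁻¹) = g * ((g : G)⁻¹ * o * g * x) * (g : G)⁻¹ := by group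
        _ = g * (x * ((g : G)⁻¹ * o * g)) * (g : G)⁻¹ := by rw [h1]
        _ = g * x * (g : G)⁻¹ * o := by group
    have htop := subnormal_simple hn.isSubnormal (fun e => hz1 (by
      have h1 : (⟨z, h.x1.le hz⟩ : X1) ∈ (centralizer (O : Set G)).subgroupOf X1 :=
        mem_subgroupOf.mpr (mem_centralizer_iff.mpr fun o ho =>
          (mem_centralizer_iff.mp (hOZ ho) z hz).symm)
      rw [e, mem_bot] at h1
      exact congrArg Subtype.val h1))
    exact fun x hx => mem_subgroupOf.mp (htop ▸ mem_top (⟨x, hx⟩ : X1))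
  -- the quotient
  set π := QuotientGroup.mk' (Cfsg.oddCore H) with hπ
  set TQ : Sylow 2 (H ⧸ Cfsg.oddCore H) := TH.mapSurjective (QuotientGroup.mk'_surjective _) with hTQ
  have L := loc_quot TH hDel hcl (fun Y hY => isoSuzuki_of_proper h.hs.hyp hHtop _ hY) TQ rfl
  let i : X1 →* H := inclusion hX1H
  let φ : X1 →* H ⧸ Cfsg.oddCore H := π.comp i
  have hφ : Function.Injective φ := by
    refine (injective_iff_map_eq_one _).mpr fun x hx => ?_
    have h1 : i x ∈ Cfsg.oddCore H := (QuotientGroup.eq_one_iff _).mp hx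
    have h2 : (x : G) ∈ O := ⟨i x, h1, rfl⟩
    have h3 : x ∈ center X1 := Subgroup.mem_center_iff.mpr fun g => Subtype.ext
      (mem_centralizer_iff.mp (hXO g.2) (x : G) h2).symm
    rwa [hc1, mem_bot] at h3
  set X1K := φ.range with hX1K
  have hDX : ∀ d ∈ D.map π, ∃ x : X1, (x : G) ∈ Z1 ∧ φ x = d := by
    rintro _ ⟨c, hc, rfl⟩
    exact ⟨⟨(c : G), h.x1.le hc⟩, hc, rfl⟩
  set zK := φ ⟨z, h.x1.le hz⟩ with hzK
  have hzK1 : zK ≠ 1 := fun e => hz1 (congrArg Subtype.val (hφ (e.trans (map_one φ).symm)))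
  have hzKD : zK ∈ D.map π := ⟨⟨z, hZ1H hz⟩, hz, rfl⟩
  -- a component contains the image of `X₁`
  obtain ⟨Y, hY, hYm⟩ : ∃ Y : Subgroup (H ⧸ Cfsg.oddCore H), Cfsg.IsComponent Y ∧
      ¬ D.map π ≤ centralizer (Y : Set (H ⧸ Cfsg.oddCore H)) := by
    by_contra hcon
    push Not at hcon
    have hP : ∀ Y : Subgroup (H ⧸ Cfsg.oddCore H), Cfsg.IsComponent Y → (TQ : Subgroup _) ⊓ Y ≤ centralizer (D.map π : Set _) :=
      fun Y hY => le_trans inf_le_right (le_centralizer_iff.mp (hcon Y hY))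
    haveI := L.inf_layer_centralizer_normal hP
    have hle : D.map π ≤ centralizer (Cfsg.layer (H ⧸ Cfsg.oddCore H) : Set _) :=
      le_centralizer_iff.mp (layer_le_iff.mpr fun Y hY => le_centralizer_iff.mp (hcon Y hY))
    have e : D.map π ⊓ centralizer (Cfsg.layer (H ⧸ Cfsg.oddCore H) : Set _) = D.map π :=
      inf_eq_left.mpr hle
    haveI : (D.map π).Normal := e ▸ inferInstance
    have htop := subnormal_simple (Subgroup.Normal.isSubnormal inferInstance :
      ((D.map π).comap φ).IsSubnormal) (fun e' => hzK1 (by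
        have h1 : (⟨z, h.x1.le hz⟩ : X1) ∈ (D.map π).comap φ := hzKD
        rw [e', mem_bot] at h1
        rw [hzK, h1, map_one]))
    have h1 : (⟨z, h.x1.le hz⟩ : X1) ∈ center X1 := Subgroup.mem_center_iff.mpr fun g => hφ (by
      rw [map_mul, map_mul]
      exact elem_comm L.elem (htop ▸ mem_top g : g ∈ (D.map π).comap φ) hzKD)
    rw [hc1, mem_bot] at h1
    exact hz1 (congrArg Subtype.val h1)
  have hsY := L.sz hY
  have hX1Y : X1K ≤ Y := by
    obtain ⟨y, hy, hy1⟩ : ∃ y : Y, (y : H ⧸ Cfsg.oddCore H) ∈ D.map π ∧ (y : H ⧸ Cfsg.oddCore H) ≠ 1 := by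
      obtain ⟨c, hc, hc1'⟩ : ∃ c ∈ cen (pBar (TQ : Subgroup _) Y), c ≠ 1 := by
        by_contra hcon
        push Not at hcon
        have h8 := hsY.eight
        rw [(eq_bot_iff_forall _).mpr hcon, card_bot] at h8
        omega
      obtain ⟨y, hy, hye⟩ := L.exists_mem_A hY hYm hc
      exact ⟨y, hy, fun e => hc1' (by rw [← hye, show y = 1 from Subtype.ext e, QuotientGroup.mk_one])⟩
    obtain ⟨x, -, hxe⟩ := hDX y hy
    have htop := subnormal_simple (hY.1.comap φ) (fun e => hy1 (by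
      have h1 : x ∈ Y.comap φ := show φ x ∈ Y by rw [hxe]; exact y.2
      rw [e, mem_bot] at h1
      rw [← hxe, h1, map_one]))
    rintro _ ⟨g, rfl⟩
    exact (htop ▸ mem_top g : g ∈ Y.comap φ)
  have hcentY : D.map π ⊓ centralizer (Y : Set _) = ⊥ := by
    refine (eq_bot_iff_forall _).mpr fun d hd => ?_
    obtain ⟨hdD, hdY⟩ := mem_inf.mp hd
    obtain ⟨x, hx, rfl⟩ := hDX d hdD
    have h3 : x ∈ center X1 := Subgroup.mem_center_iff.mpr fun g => hφ (by
      rw [map_mul, map_mul]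
      exact mem_centralizer_iff.mp hdY _ (hX1Y ⟨g, rfl⟩))
    rw [hc1, mem_bot] at h3
    rw [h3, map_one]
  have hq : Nat.card (cen (pBar (TQ : Subgroup _) Y)) = Nat.card Z1 := by
    have e : Nat.card (D.map π) = Nat.card Z1 := by
      refine (Nat.card_eq_of_bijective (fun x : Z1 =>
        (⟨φ ⟨x, h.x1.le x.2⟩, ⟨⟨x, hZ1H x.2⟩, x.2, rfl⟩⟩ : D.map π)) ⟨fun x y e => ?_, ?_⟩).symm
      · exact Subtype.ext (congrArg (fun c : X1 => (c : G)) (hφ (congrArg Subtype.val e)))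
      · rintro ⟨d, hd⟩
        obtain ⟨x, hx, hxe⟩ := hDX d hd
        exact ⟨⟨x, hx⟩, Subtype.ext hxe⟩
    have h1 := L.card_A_le hY
    rw [hcentY, card_bot, mul_one, e] at h1
    exact le_antisymm (e ▸ L.cen_le_card_A hY hYm) h1
  have hYeq : Y ≤ X1K := by
    let ψ : X1 →* Y ⧸ center Y :=
      (QuotientGroup.mk' (center Y)).comp (φ.codRestrict Y fun x => hX1Y ⟨x, rfl⟩)
    have hψ1 : Function.Injective ψ := by
      refine (injective_iff_map_eq_one _).mpr fun x hx => ?_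
      have h1 : (⟨φ x, hX1Y ⟨x, rfl⟩⟩ : Y) ∈ center Y := (QuotientGroup.eq_one_iff _).mp hx
      have h3 : x ∈ center X1 := Subgroup.mem_center_iff.mpr fun g => hφ (by
        rw [map_mul, map_mul]
        exact congrArg Subtype.val (Subgroup.mem_center_iff.mp h1 ⟨φ g, hX1Y ⟨g, rfl⟩⟩))
      rwa [hc1, mem_bot] at h3
    have hψ : Function.Surjective ψ :=
      (hψ1.bijective_of_nat_card_le (by rw [hsY.card_group, hq, h.x1.card])).2
    have hcomm : commutator Y ≤ X1K.subgroupOf Y := by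
      rw [_root_.commutator_def, Subgroup.commutator_le]
      intro a _ b _
      obtain ⟨x, hx⟩ := hψ (QuotientGroup.mk a)
      obtain ⟨y, hy⟩ := hψ (QuotientGroup.mk b)
      set x' : Y := ⟨φ x, hX1Y ⟨x, rfl⟩⟩
      set y' : Y := ⟨φ y, hX1Y ⟨y, rfl⟩⟩
      have h1 : x'⁻¹ * a ∈ center Y := QuotientGroup.eq.mp hx
      have h2 : y'⁻¹ * b ∈ center Y := QuotientGroup.eq.mp hy
      obtain ⟨c, hc, rfl⟩ : ∃ c ∈ center Y, a = x' * c := ⟨_, h1, (mul_inv_cancel_left _ _).symm⟩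
      obtain ⟨d, hd, rfl⟩ : ∃ d ∈ center Y, b = y' * d := ⟨_, h2, (mul_inv_cancel_left _ _).symm⟩
      have e : ⁅x' * c, y' * d⁆ = ⁅x', y'⁆ := by
        have c1 := Subgroup.mem_center_iff.mp hc
        have d1 := Subgroup.mem_center_iff.mp hd
        rw [commutatorElement_def, commutatorElement_def]
        calc x' * c * (y' * d) * (x' * c)⁻¹ * (y' * d)⁻¹
            = x' * (c * (y' * d * c⁻¹)) * x'⁻¹ * d⁻¹ * y'⁻¹ := by group
          _ = x' * (y' * d) * x'⁻¹ * d⁻¹ * y'⁻¹ := by rw [← c1 (y' * d * c⁻¹), inv_mul_cancel_right]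
          _ = x' * y' * (d * x'⁻¹) * d⁻¹ * y'⁻¹ := by group
          _ = x' * y' * (x'⁻¹ * d) * d⁻¹ * y'⁻¹ := by rw [d1 x'⁻¹]
          _ = x' * y' * x'⁻¹ * y'⁻¹ := by group
      rw [e, mem_subgroupOf]
      exact ⟨⁅x, y⁆, map_commutatorElement φ x y⟩
    intro k hk
    have h1 : (⟨k, hk⟩ : Y) ∈ X1K.subgroupOf Y := hcomm (by rw [L.perfect hY]; exact mem_top _)
    exact mem_subgroupOf.mp h1
  -- `w` normalises `X₁`
  set w' : G := (w : G) with hw'
  have hwt' : w' * (t : G) * w'⁻¹ = (t : G)⁻¹ := congrArg Subtype.val hwt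
  have hwH : w' ∈ normalizer (H : Set G) := mem_normalizer_of_forall fun g hg => by
    refine mem_centralizer_singleton_iff.mpr ?_
    have h1 : Commute g (t : G) := mem_centralizer_singleton_iff.mp hg
    have h2 := (h1.inv_right.map (MulAut.conj w').toMonoidHom)
    simp only [MulEquiv.coe_toMonoidHom, MulAut.conj_apply] at h2
    have h3 : w' * (t : G)⁻¹ * w'⁻¹ = (t : G) := by
      rw [show w' * (t : G)⁻¹ * w'⁻¹ = (w' * (t : G) * w'⁻¹)⁻¹ by group, hwt', inv_inv]
    rw [h3] at h2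
    exact h2.eq
  have hwZ : w' ∈ centralizer (Z1 : Set G) := h.x2.cent w.2
  let σ : MulAut H := H.normalizerMonoidHom ⟨w', hwH⟩
  have hσO : (Cfsg.oddCore H).map σ.toMonoidHom = Cfsg.oddCore H := pPrimeCore_map_equiv 2 σ
  let σK : MulAut (H ⧸ Cfsg.oddCore H) := QuotientGroup.congr _ _ σ hσO
  have hσz : σK zK = zK := by
    show π (σ ⟨z, _⟩) = π ⟨z, _⟩
    congr 1
    refine Subtype.ext ?_
    show w' * z * w'⁻¹ = z
    rw [← mem_centralizer_iff.mp hwZ z hz, mul_inv_cancel_right]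
  have hYX : Y = X1K := le_antisymm hYeq hX1Y
  have hσY : Y.map σK.toMonoidHom = Y := by
    by_contra hne
    have hcom := components_commute (isComponent_map_equiv σK hY) hY hne
    have hzY : zK ∈ Y.map σK.toMonoidHom := ⟨zK, hX1Y ⟨_, rfl⟩, hσz⟩
    have h3 : (⟨z, h.x1.le hz⟩ : X1) ∈ center X1 := Subgroup.mem_center_iff.mpr fun g => hφ (by
      rw [map_mul, map_mul]
      exact mem_centralizer_iff.mp (Subgroup.commutator_eq_bot_iff_le_centralizer.mp hcom hzY) _
        (hX1Y ⟨g, rfl⟩))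
    rw [hc1, mem_bot] at h3
    exact hz1 (congrArg Subtype.val h3)
  have hinv : ∀ x ∈ X1, x * x = 1 → w' * x * w'⁻¹ ∈ X1 := by
    intro x hx hxx
    have h1 : σK (φ ⟨x, hx⟩) ∈ X1K :=
      hYX ▸ hσY ▸ ⟨φ ⟨x, hx⟩, hX1Y ⟨_, rfl⟩, rfl⟩
    obtain ⟨x', hx'⟩ := h1
    have h2 : π ((i x')⁻¹ * σ (i ⟨x, hx⟩)) = 1 := by
      rw [map_mul, map_inv, show π (i x') = σK (φ ⟨x, hx⟩) from hx']
      exact inv_mul_cancel _
    set o : G := (x' : G)⁻¹ * (w' * x * w'⁻¹) with ho
    have hoO : o ∈ O := ⟨_, (QuotientGroup.eq_one_iff _).mp h2, rfl⟩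
    have e1 : w' * x * w'⁻¹ = x' * o := by rw [ho, mul_inv_cancel_left]
    have hco : Commute (x' : G) o := (mem_centralizer_iff.mp (hXO x'.2) o hoO).symm
    have e2 : ((x' : G) * x') * (o * o) = 1 := by
      calc ((x' : G) * x') * (o * o) = x' * (x' * o) * o := by group
        _ = x' * (o * x') * o := by rw [hco.eq]
        _ = (x' * o) * (x' * o) := by group
        _ = w' * (x * x) * w'⁻¹ := by rw [← e1]; group
        _ = 1 := by rw [hxx, mul_one, mul_inv_cancel]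
    have h3 : (⟨o * o, (mul_eq_one_iff_inv_eq.mp e2) ▸ inv_mem (mul_mem x'.2 x'.2)⟩ : X1) ∈ center X1 :=
      Subgroup.mem_center_iff.mpr fun g => Subtype.ext
        (mem_centralizer_iff.mp (hXO g.2) (o * o) (mul_mem hoO hoO)).symm
    rw [hc1, mem_bot] at h3
    have hoo : o ^ 2 ^ 1 = 1 := by rw [pow_one, pow_two]; exact congrArg Subtype.val h3
    have ho1 : o = 1 :=
      orderOf_eq_one_of_two_of_odd hoo (hOodd.of_dvd_nat (Subgroup.orderOf_dvd_natCard _ hoO))
    rw [e1, ho1, mul_one]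
    exact x'.2
  have hwX : w' ∈ normalizer (X1 : Set G) := by
    refine mem_normalizer_of_forall fun x hx => ?_
    have hle : normalClosure ({⟨z, h.x1.le hz⟩} : Set X1) ≤
        (X1.comap (MulAut.conj w').toMonoidHom).subgroupOf X1 := by
      rw [Subgroup.normalClosure, closure_le]
      intro c hc
      obtain ⟨u, hu, hcu⟩ := Group.mem_conjugatesOfSet_iff.1 hc
      obtain ⟨g, rfl⟩ := isConj_iff.1 hcu
      rw [Set.mem_singleton_iff.mp hu]
      refine mem_subgroupOf.mpr (hinv _ (SetLike.coe_mem _) ?_)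
      have h1 : z * z = 1 := sq_one hA (hZ1A hz)
      push_cast
      calc (g : G) * z * (g : G)⁻¹ * (g * z * (g : G)⁻¹) = g * (z * z) * (g : G)⁻¹ := by group
        _ = 1 := by rw [h1, mul_one, mul_inv_cancel]
    have htop : normalClosure ({⟨z, h.x1.le hz⟩} : Set X1) = ⊤ :=
      subnormal_simple (Subgroup.Normal.isSubnormal inferInstance) fun e => hz1 (by
        have h1 : (⟨z, h.x1.le hz⟩ : X1) ∈ normalClosure ({⟨z, h.x1.le hz⟩} : Set X1) :=
          Subgroup.subset_normalClosure (Set.mem_singleton _)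
        rw [e, mem_bot] at h1
        exact congrArg Subtype.val h1)
    exact mem_subgroupOf.mp (hle (htop ▸ mem_top (⟨x, hx⟩ : X1)))
  -- conclusion
  set M : Subgroup X2 := (centralizer (X1 : Set G)).subgroupOf X2 with hM
  have hPM : (P2 : Subgroup X2) ≤ M := fun p hp => mem_subgroupOf.mpr (hPX p hp)
  have hwP : ∀ p ∈ (P2 : Subgroup X2), w * p * w⁻¹ ∈ M := by
    intro p hp
    refine mem_subgroupOf.mpr (mem_centralizer_iff.mpr fun x hx => ?_)
    have hx' : w'⁻¹ * x * w' ∈ X1 := (mem_normalizer_iff''.mp hwX x).mp hx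
    have h1 := mem_centralizer_iff.mp (hPX p hp) _ hx'
    push_cast
    calc x * (w' * (p : G) * w'⁻¹) = w' * (w'⁻¹ * x * w' * p) * w'⁻¹ := by group
      _ = w' * (p * (w'⁻¹ * x * w')) * w'⁻¹ := by rw [h1]
      _ = w' * (p : G) * w'⁻¹ * x := by group
  have hnN : ¬ M ≤ normalizer ((P2 : Subgroup X2) : Set X2) := by
    intro hle
    refine hwN (mem_normalizer_of_forall fun p hp => ?_)
    have hpg : IsPGroup 2 ((P2 : Subgroup X2).map (MulAut.conj w).toMonoidHom) := P2.isPGroup'.map _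
    have h1 : w * p * w⁻¹ ∈ (P2 : Subgroup X2).map (MulAut.conj w).toMonoidHom ⊓
        normalizer ((P2 : Subgroup X2) : Set X2) := ⟨⟨p, hp, rfl⟩, hle (hwP p hp)⟩
    have h2 : (P2 : Subgroup X2).map (MulAut.conj w).toMonoidHom ⊓
        normalizer ((P2 : Subgroup X2) : Set X2) =
      (P2 : Subgroup X2).map (MulAut.conj w).toMonoidHom ⊓ (P2 : Subgroup X2) :=
      hpg.inf_normalizer_sylow P2
    rw [h2] at h1
    exact h1.2
  have htop := hsz2.maximal M hPM hnN
  exact fun x hx => mem_subgroupOf.mp (htop ▸ mem_top (⟨x, hx⟩ : X2))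

end Two

end CfsgLib.ThreePrime.Comp
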