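import Cfsg.Agent.Lib.ThreePrime.Spec
import Cfsg.Agent.Lib.ThreePrime.Sections
import Cfsg.Agent.Lib.ThreePrime.Comp.Pair

/-!
Owner: helper13. No component of the centraliser of an element of `A` is moved by `A`, so these
centralisers fix the base point.
-/

set_option autoImplicit false
set_option linter.style.haveILetI false
set_option linter.unusedSectionVars false

namespace CfsgLib.ThreePrime

open Subgroup

namespace Comp

universe u

variable {G : Type u} [Group G] [Finite G] {S : Sylow 2 G} {A : Subgroup G}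

/-- The normalizer of a four-subgroup of `A` normalises `W₀`. -/
theorem mem_normalizer_W0 (hs : Setting S A) {V : Subgroup G} (hV : V ≤ A) (h4 : 4 ≤ Nat.card V) {g : G}
    (hg : g ∈ normalizer (V : Set G)) : g ∈ normalizer (W0 A : Set G) := by
  have e : W0 V = W0 A := hs.cores.four A hs.elem hs.card V hV h4
  refine Bender.Dichotomy.mem_normalizer_of_cj ?_
  have h1 : W0 (Bender.Dichotomy.cj g V) = Bender.Dichotomy.cj g (W0 V) :=
    Bender.Dichotomy.clo_cj g V
  rw [Bender.Dichotomy.cj_of_mem_normalizer hg, e] at h1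
  exact h1.symm

theorem normalizer_W0_ne_top (hs : Setting S A) (hW : W0 A ≠ ⊥) : normalizer (W0 A : Set G) ≠ ⊤ := by
  intro e
  haveI := hs.hyp.simple
  rcases IsSimpleGroup.eq_bot_or_eq_top_of_normal (W0 A) (normalizer_eq_top_iff.mp e) with h | h
  · exact hW h
  · have ho := hs.cores.odd A hs.elem hs.card
    rw [h, card_top] at ho
    exact Nat.not_odd_iff_even.mpr hs.hyp.even ho

/-- The groups of different parts commute. -/
theorem parts_commute (hs : Setting S A) (hW : W0 A = ⊥) {Z1 B1 X1 Z2 B2 X2 : Subgroup G}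
    (h1 : IsPart A Z1 B1) (hX1 : HasX Z1 B1 X1) (h2 : IsPart A Z2 B2) (hX2 : HasX Z2 B2 X2)
    (hne : Z2 ≠ Z1) : X2 ≤ centralizer (X1 : Set G) := by
  by_cases h3 : ∃ Z3 B3, IsPart A Z3 B3 ∧ Z3 ≠ Z1 ∧ Z3 ≠ Z2
  · obtain ⟨Z3, B3, hp3, hn1, hn2⟩ := h3
    obtain ⟨b, hb, hb1⟩ := hp3.split.exists_ne_one
    have hb1' : b ∈ B1 := h1.split.le_other hp3.split hn1 hb
    have hb2' : b ∈ B2 := h2.split.le_other hp3.split hn2 hb
    obtain ⟨Y1, hY1, -, e1, hA1, -⟩ := part_comp hs hW h1 hX1 hb1' hb1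
    obtain ⟨Y2, hY2, -, e2, hA2, -⟩ := part_comp hs hW h2 hX2 hb2' hb1
    have hne' : Y2 ≠ Y1 := fun e => hne (by rw [← hA1, ← hA2, e1, e2, e])
    have hcom := Subgroup.commutator_eq_bot_iff_le_centralizer.mp
      (CfsgLib.Components.components_commute hY2 hY1 hne')
    exact fun x hx => mem_centralizer_iff.mpr fun y hy =>
      (commute_low hW (h1.split.B_le hb1') hb1 hcom (e2 ▸ hx) (e1 ▸ hy)).symm
  · push Not at h3
    have honly : ∀ Z B, IsPart A Z B → Z = Z1 ∨ Z = Z2 := fun Z B hp => by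
      by_cases e : Z = Z1
      · exact Or.inl e
      · exact Or.inr (h3 Z B hp e)
    have ho : ∀ {Z Z' B : Subgroup G}, IsPart A Z B → Z' ≠ Z → (∃ B', IsPart A Z' B') →
        (∀ W B'', IsPart A W B'' → W = Z ∨ W = Z') → B = Z' := by
      intro Z Z' B hp hne hex hon
      rw [B_eq hs hp]
      refine le_antisymm (sSup_le fun W ⟨⟨B'', hW'⟩, hWne⟩ => ?_) (le_sSup ⟨hex, hne⟩)
      rw [(hon W B'' hW').resolve_left hWne]
    obtain rfl := ho h1 hne ⟨_, h2⟩ honly
    obtain rfl := ho h2 (Ne.symm hne) ⟨_, h1⟩ fun W B'' hp => (honly W B'' hp).symm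
    exact Two.commute ⟨hs, hW, h1, hX1, h2, hX2, honly⟩

/-- The case in which some component is moved. -/
theorem false_of_moved (hs : Setting S A) {a : G} (ha : a ∈ A) (ha1 : a ≠ 1) {X : Subgroup (Kq a)}
    (hX : Cfsg.IsComponent X) (hmv : ¬ AK A a ≤ centralizer (X : Set (Kq a))) : False := by
  obtain ⟨h0, haB, -⟩ := isPart_of_moved hs ha ha1 hX hmv
  obtain ⟨Z', B', h', hne⟩ := exists_other hs h0 haB ha1 h0
  by_cases hW : W0 A = ⊥
  swap
  · -- `N(W₀)` contains every centraliser
    refine false_of_proper hs h0 h' hne (normalizer_W0_ne_top hs hW)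
      (fun g hg => mem_normalizer_W0 hs le_rfl (by have := hs.card; omega) hg) fun x hx hx1 => ?_
    have hcore : core x ≤ normalizer (W0 A : Set G) := (core_le_W0 hx hx1).trans le_normalizer
    refine cent_le_of hs hx hx1 hcore
      (fun g hg _ => mem_normalizer_W0 hs le_rfl (by have := hs.card; omega) hg) fun Y hY => ?_
    have hkey : ∀ {V : Subgroup G}, V ≤ A → 4 ≤ Nat.card V →
        (∀ v ∈ V, ∀ hv : v ∈ centralizer ({x} : Set G), piK x ⟨v, hv⟩ ∈ centralizer (Y : Set (Kq x))) →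
        low x Y ≤ normalizer (W0 A : Set G) := fun hV h4 h =>
      (low_le_sup_centralizer hs hx hx1 hV h).trans (sup_le hcore fun g hg =>
        mem_normalizer_W0 hs hV h4 (Subgroup.centralizer_le_normalizer _ hg))
    by_cases hm : AK A x ≤ centralizer (Y : Set (Kq x))
    · exact hkey le_rfl (by have := hs.card; omega) fun v hv hvC => hm ⟨⟨v, hvC⟩, hv, rfl⟩
    · obtain ⟨hp, -, -⟩ := isPart_of_moved hs hx hx1 hY hm
      exact hkey hp.split.B_le (by have := eight_le_B hs h0 haB ha1 hp; omega) fun v hv _ =>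
        (mem_low.mp hv.2).2
  -- the cores vanish: the parts' groups generate a subgroup with proper normalizer
  have hB : ∀ {Z B : Subgroup G}, IsPart A Z B → ∃ b ∈ B, b ≠ 1 := by
    intro Z B hp
    by_contra hcon
    push Not at hcon
    have h8 := eight_le_B hs h0 haB ha1 hp
    rw [(eq_bot_iff_forall B).mpr hcon, card_bot] at h8
    omega
  set 𝒳 : Set (Subgroup G) := {X | ∃ Z B, IsPart A Z B ∧ HasX Z B X}
  set D := sSup 𝒳 with hD
  obtain ⟨X1, hX1⟩ := h0.hasX hW
  obtain ⟨X2, hX2⟩ := h'.hasX hW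
  set Z0 := A ⊓ low a X with hZ0
  have hDN : D ≤ normalizer (X1 : Set G) := sSup_le fun Y ⟨Z, B, hp, hY⟩ => by
    by_cases e : Z = Z0
    · obtain ⟨b, hb, hb1⟩ := hB h0
      subst e
      obtain rfl := B_unique hs h0 hp
      rw [X_unique hs hW h0 hX1 hY hb hb1]
      exact le_normalizer
    · exact (parts_commute hs hW h0 hX1 hp hY e).trans (Subgroup.centralizer_le_normalizer _)
  have hDtop : D ≠ ⊤ := by
    intro e
    haveI := hs.hyp.simple
    have hn : X1.Normal := normalizer_eq_top_iff.mp (top_le_iff.mp (e ▸ hDN))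
    obtain ⟨z, hz, hz1⟩ := h0.split.exists_ne_one
    rcases IsSimpleGroup.eq_bot_or_eq_top_of_normal X1 hn with h1 | h1
    · exact hz1 (mem_bot.mp (h1 ▸ hX1.le hz))
    · obtain ⟨z', hz', hz'1⟩ := h'.split.exists_ne_one
      have hc := parts_commute hs hW h0 hX1 h' hX2 hne (hX2.le hz')
      haveI := hX2.simple
      have hcen := center_eq_bot_of_card h'.split.eight hX2.card
      have h2 : (⟨z', hX2.le hz'⟩ : X2) ∈ center X2 := Subgroup.mem_center_iff.mpr fun g => Subtype.ext
        (mem_centralizer_iff.mp hc (g : G) (h1 ▸ mem_top (g : G)))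
      rw [hcen, mem_bot] at h2
      exact hz'1 (congrArg Subtype.val h2)
  have hM : normalizer (D : Set G) ≠ ⊤ := by
    intro e
    haveI := hs.hyp.simple
    rcases IsSimpleGroup.eq_bot_or_eq_top_of_normal D (normalizer_eq_top_iff.mp e) with h1 | h1
    · obtain ⟨z, hz, hz1⟩ := h0.split.exists_ne_one
      have h2 : z ∈ D := le_sSup (s := 𝒳) ⟨Z0, _, h0, hX1⟩ (hX1.le hz)
      rw [h1, mem_bot] at h2
      exact hz1 h2
    · exact hDtop h1
  have hND : normalizer (A : Set G) ≤ normalizer (D : Set G) := fun g hg =>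
    mem_normalizer_of_forall fun x hx => by
      have hle : D ≤ D.comap (MulAut.conj g).toMonoidHom := sSup_le fun Y ⟨Z, B, hp, hY⟩ y hy =>
        le_sSup (s := 𝒳) ⟨_, _, hp.conj hg, hY.map g⟩ ⟨y, hy, rfl⟩
      exact hle hx
  refine false_of_proper hs h0 h' hne hM hND fun x hx hx1 => ?_
  refine cent_le_of hs hx hx1 ((core_eq_bot hW hx hx1).le.trans bot_le) (fun g hg _ => hND hg)
    fun Y hY => ?_
  by_cases hm : AK A x ≤ centralizer (Y : Set (Kq x))
  · exact (low_le_centralizer_of_unmoved hs hW hx hx1 hm).trans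
      ((Subgroup.centralizer_le_normalizer _).trans hND)
  · obtain ⟨hp, -, hY'⟩ := isPart_of_moved hs hx hx1 hY hm
    exact (le_sSup (s := 𝒳) ⟨_, _, hp, hY' hW⟩).trans le_normalizer

end Comp

universe u

/-- C: the centralisers of the elements of `A` fix the base point. -/
theorem compStep : CompStep.{u} := by
  intro G _ _ S A hs a ha ha1
  refine Comp.cent_le_of hs ha ha1 ((Comp.core_le_W0 ha ha1).trans le_sup_right)
    (fun g hg _ => le_sup_left (α := Subgroup G) hg) fun X hX => ?_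
  by_cases hm : Comp.AK A a ≤ centralizer (X : Set (Comp.Kq a))
  swap
  · exact (Comp.false_of_moved hs ha ha1 hX hm).elim
  refine (Comp.low_le_sup_centralizer hs ha ha1 le_rfl fun v hv hvC => hm ⟨⟨v, hvC⟩, hv, rfl⟩).trans ?_
  exact sup_le ((Comp.core_le_W0 ha ha1).trans le_sup_right)
    ((Subgroup.centralizer_le_normalizer _).trans le_sup_left)

end CfsgLib.ThreePrime
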