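import Cfsg.Prelude.Def_TwoFusion
import Cfsg.Prelude.Def_Transfer
import Cfsg.Agent.Lib.LocalEvenB.BaerSuzuki
import Cfsg.Agent.Lib.LocalEvenB.SubnormalSylow
import Cfsg.Agent.Lib.Components.Radicals
import Mathlib.GroupTheory.Transfer

/-!
Owner: helper13. Elementary lemmas for the component step of the proof that simple groups of order
prime to three are Suzuki groups.
-/

set_option autoImplicit false

namespace CfsgLib.ThreePrime.Comp

open Subgroup

universe u

variable {G : Type u} [Group G]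

theorem sq_one {A : Subgroup G} (hA : Cfsg.IsElementaryAbelian 2 A) {a : G} (ha : a ∈ A) : a * a = 1 := by
  rw [← pow_two]; exact hA.2 a ha

theorem inv_self {A : Subgroup G} (hA : Cfsg.IsElementaryAbelian 2 A) {a : G} (ha : a ∈ A) : a⁻¹ = a :=
  inv_eq_of_mul_eq_one_right (sq_one hA ha)

theorem elem_comm {A : Subgroup G} (hA : Cfsg.IsElementaryAbelian 2 A) {a b : G} (ha : a ∈ A)
    (hb : b ∈ A) : a * b = b * a :=
  congrArg Subtype.val (hA.1.1.comm ⟨a, ha⟩ ⟨b, hb⟩)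

theorem le_centralizer_self {A : Subgroup G} (hA : Cfsg.IsElementaryAbelian 2 A) :
    A ≤ centralizer (A : Set G) :=
  fun _ ha => mem_centralizer_iff.mpr fun _ hb => elem_comm hA hb ha

theorem isPGroup_elem {A : Subgroup G} (hA : Cfsg.IsElementaryAbelian 2 A) : IsPGroup 2 A :=
  fun a => ⟨1, Subtype.ext (by rw [SubmonoidClass.coe_pow, pow_one, OneMemClass.coe_one, hA.2 _ a.2])⟩

theorem mem_normalizer_of_forall [Finite G] {H : Subgroup G} {g : G}
    (h : ∀ x ∈ H, g * x * g⁻¹ ∈ H) : g ∈ normalizer (H : Set G) :=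
  mem_normalizer_iff_map_conj_eq.2 (eq_of_le_of_card_ge (by rintro _ ⟨x, hx, rfl⟩; exact h x hx)
    (card_map_of_injective (MulAut.conj g).injective).ge)

theorem orderOf_eq_one_of_two_of_odd {x : G} {k : ℕ} (h : x ^ 2 ^ k = 1) (ho : Odd (orderOf x)) :
    x = 1 :=
  orderOf_eq_one_iff.mp
    ((Nat.Coprime.pow_right k (Nat.coprime_two_right.mpr ho)).eq_one_of_dvd
      (orderOf_dvd_of_pow_eq_one h))

/-- An element of a 2-subgroup of odd order is trivial. -/
theorem eq_one_of_odd {P : Subgroup G} (hP : IsPGroup 2 P) {x : G} (hx : x ∈ P)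
    (ho : Odd (orderOf x)) : x = 1 := by
  obtain ⟨k, hk⟩ := hP ⟨x, hx⟩
  exact orderOf_eq_one_of_two_of_odd (congrArg Subtype.val hk) ho

theorem isPGroup_of_odd_trivial [Finite G] {H : Subgroup G}
    (h : ∀ x ∈ H, Odd (orderOf x) → x = 1) : IsPGroup 2 H := by
  intro x
  obtain ⟨k, m, hm, hkm⟩ := Nat.exists_eq_two_pow_mul_odd (orderOf_pos (x : G)).ne'
  refine ⟨k, Subtype.ext ?_⟩
  rw [SubmonoidClass.coe_pow, OneMemClass.coe_one]
  refine h _ (pow_mem x.2 _) ?_
  rw [orderOf_pow' (x : G) (Nat.two_pow_pos k).ne', hkm, Nat.gcd_mul_right_left,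
    Nat.mul_div_cancel_left _ (Nat.two_pow_pos k)]
  exact hm

variable [Finite G]

/-- A subgroup strongly closed in a Sylow subgroup is strongly closed in every 2-subgroup
containing it. -/
theorem closed_mono {S : Sylow 2 G} {A R : Subgroup G}
    (hA : Cfsg.IsStronglyClosed A (S : Subgroup G)) (hAR : A ≤ R) (hR : IsPGroup 2 R) :
    Cfsg.IsStronglyClosed A R := by
  haveI : Fact (Nat.Prime 2) := ⟨Nat.prime_two⟩
  obtain ⟨P, hP⟩ := hR.exists_le_sylow
  obtain ⟨k, hk⟩ := MulAction.exists_smul_eq G P S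
  have hmem : ∀ y ∈ R, k * y * k⁻¹ ∈ (S : Subgroup G) := fun y hy => by
    rw [← hk, Sylow.coe_subgroup_smul, Subgroup.mem_pointwise_smul_iff_inv_smul_mem]
    simpa [MulAut.smul_def, mul_assoc] using hP hy
  have hkN : k ∈ normalizer (A : Set G) :=
    mem_normalizer_of_forall fun x hx => hA.2 x hx k (hmem x (hAR hx))
  refine ⟨hAR, fun x hx g hg => ?_⟩
  rw [mem_normalizer_iff.mp hkN]
  have := hA.2 x hx (k * g) (by simpa [mul_assoc] using hmem _ hg)
  simpa [mul_assoc] using this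

/-- If `C(O₂(H)) ≤ O₂(H)` then every strongly closed elementary subgroup lies in `O₂(H)`. -/
theorem le_pCore_of_closed (hC : centralizer (Cfsg.pCore 2 G : Set G) ≤ Cfsg.pCore 2 G)
    {T A : Subgroup G} (hA : Cfsg.IsElementaryAbelian 2 A) (hcl : Cfsg.IsStronglyClosed A T)
    (hQT : Cfsg.pCore 2 G ≤ T) : A ≤ Cfsg.pCore 2 G := by
  haveI : Fact (Nat.Prime 2) := ⟨Nat.prime_two⟩
  set Q := Cfsg.pCore 2 G with hQ
  haveI hQn : Q.Normal := CfsgLib.Components.pCore_normal 2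
  have hQp : IsPGroup 2 Q := CfsgLib.Components.pCore_isPGroup 2
  intro a ha
  by_contra haQ
  have hWconj : ∀ g x : G, x ∈ A → x ∈ Q → g * x * g⁻¹ ∈ A := fun g x hxA hxQ =>
    hcl.2 x hxA g (hQT (hQn.conj_mem x hxQ g))
  have hqa : ∀ q ∈ Q, q * a * q⁻¹ * a⁻¹ ∈ A ∧ q * a * q⁻¹ * a⁻¹ ∈ Q := by
    intro q hq
    refine ⟨mul_mem (hcl.2 a ha q (mul_mem (mul_mem (hQT hq) (hcl.1 ha)) (inv_mem (hQT hq))))
      (inv_mem ha), ?_⟩
    rw [show q * a * q⁻¹ * a⁻¹ = q * (a * q⁻¹ * a⁻¹) by group]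
    exact mul_mem hq (hQn.conj_mem _ (inv_mem hq) a)
  obtain ⟨y, hy1, hyo, hyi⟩ := CfsgLib.LocalEvenB.exists_odd_inverted (sq_one hA ha) haQ
  obtain ⟨j, hj⟩ := hyo
  -- `y` centralises `A ⊓ Q`
  have hyW : ∀ w ∈ A, w ∈ Q → y * w * y⁻¹ = w := by
    intro w hwA hwQ
    have h1 : y⁻¹ * w * y = y * w * y⁻¹ := by
      calc y⁻¹ * w * y = (a * y * a⁻¹) * (a * w * a⁻¹) * (a * y * a⁻¹)⁻¹ := by
            rw [hyi, show a * w * a⁻¹ = w by rw [elem_comm hA ha hwA, mul_inv_cancel_right],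
              inv_inv]
        _ = a * (y * w * y⁻¹) * a⁻¹ := by group
        _ = y * w * y⁻¹ := by
            rw [elem_comm hA ha (hWconj y w hwA hwQ), mul_inv_cancel_right]
    have h2 : Commute (y ^ 2) w := by
      calc y ^ 2 * w = y * (y * w * y⁻¹) * y := by rw [pow_two]; group
        _ = y * (y⁻¹ * w * y) * y := by rw [h1]
        _ = w * y ^ 2 := by rw [pow_two]; group
    have h3 := h2.pow_left (j + 1)
    have h4 : (y ^ 2) ^ (j + 1) = y := by
      rw [← pow_mul, show 2 * (j + 1) = orderOf y + 1 by omega, pow_succ, pow_orderOf_eq_one, one_mul]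
    rw [h4] at h3
    rw [h3.eq, mul_inv_cancel_right]
  -- `y` centralises `Q` modulo `A ⊓ Q`
  have hQW : ∀ q ∈ Q, q⁻¹ * (y * q * y⁻¹) ∈ A ⊓ Q := by
    intro q hq
    set W := A ⊓ Q with hW
    have hWn : W.Normal := ⟨fun w hw g =>
      ⟨hWconj g w hw.1 hw.2, hQn.conj_mem w hw.2 g⟩⟩
    set π := QuotientGroup.mk' W
    have hcom : ∀ x ∈ Q, π a * π x = π x * π a := by
      intro x hx
      have := hqa x hx
      have h0 : π (x * a * x⁻¹ * a⁻¹) = 1 := (QuotientGroup.eq_one_iff _).mpr this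
      rw [map_mul, map_mul, map_mul, map_inv, map_inv, mul_inv_eq_one, mul_inv_eq_iff_eq_mul] at h0
      exact h0.symm
    have hinv : π a * π y * (π a)⁻¹ = (π y)⁻¹ := by
      rw [← map_inv, ← map_mul, ← map_mul, hyi, map_inv]
    have h1 : (π y)⁻¹ * π q * π y = π y * π q * (π y)⁻¹ := by
      calc (π y)⁻¹ * π q * π y
          = (π a * π y * (π a)⁻¹) * (π a * π q * (π a)⁻¹) * (π a * π y * (π a)⁻¹)⁻¹ := by
            rw [hinv, show π a * π q * (π a)⁻¹ = π q by rw [hcom q hq, mul_inv_cancel_right], inv_inv]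
        _ = π a * (π y * π q * (π y)⁻¹) * (π a)⁻¹ := by group
        _ = π y * π q * (π y)⁻¹ := by
            have h := hcom _ (hQn.conj_mem q hq y)
            rw [map_mul, map_mul, map_inv] at h
            rw [h, mul_inv_cancel_right]
    have h2 : Commute (π y ^ 2) (π q) := by
      calc π y ^ 2 * π q = π y * (π y * π q * (π y)⁻¹) * π y := by rw [pow_two]; group
        _ = π y * ((π y)⁻¹ * π q * π y) * π y := by rw [h1]
        _ = π q * π y ^ 2 := by rw [pow_two]; group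
    have h3 := h2.pow_left (j + 1)
    have h4 : (π y ^ 2) ^ (j + 1) = π y := by
      rw [← pow_mul, ← map_pow, show 2 * (j + 1) = orderOf y + 1 by omega, pow_succ,
        pow_orderOf_eq_one, one_mul]
    rw [h4] at h3
    have h5 : π (q⁻¹ * (y * q * y⁻¹)) = 1 := by
      rw [map_mul, map_inv, map_mul, map_mul, map_inv, h3.eq, mul_inv_cancel_right, inv_mul_cancel]
    exact (QuotientGroup.eq_one_iff _).mp h5
  -- `y` centralises `Q`
  have hyQ : y ∈ centralizer (Q : Set G) := by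
    rw [mem_centralizer_iff]
    intro q hq
    obtain ⟨hwA, hwQ⟩ := mem_inf.mp (hQW q hq)
    set w := q⁻¹ * (y * q * y⁻¹) with hw
    have hfix := hyW w hwA hwQ
    have hpow : ∀ n : ℕ, y ^ n * q * (y ^ n)⁻¹ = q * w ^ n := by
      intro n
      induction n with
      | zero => simp
      | succ n ih =>
        calc y ^ (n + 1) * q * (y ^ (n + 1))⁻¹ = y * (y ^ n * q * (y ^ n)⁻¹) * y⁻¹ := by
              rw [pow_succ']; group
          _ = (y * q * y⁻¹) * (y * w ^ n * y⁻¹) := by rw [ih]; group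
          _ = (q * w) * w ^ n := by rw [← conj_pow, hfix, hw, mul_inv_cancel_left]
          _ = q * w ^ (n + 1) := by rw [mul_assoc, ← pow_succ']
    have h6 := hpow (orderOf y)
    rw [pow_orderOf_eq_one, one_mul, inv_one, mul_one, hj, pow_succ, pow_mul, hA.2 w hwA, one_pow,
      one_mul, left_eq_mul] at h6
    rw [hw, inv_mul_eq_one, eq_mul_inv_iff_mul_eq] at h6
    exact h6
  exact hy1 (eq_one_of_odd hQp (hC hyQ) ⟨j, hj⟩)

/-- The Sylow subgroup of a subnormal subgroup cut out by a Sylow subgroup of the group. -/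
noncomputable def sylowSub (T : Sylow 2 G) {H : Subgroup G} (hH : H.IsSubnormal) : Sylow 2 H :=
  haveI : Fact (Nat.Prime 2) := ⟨Nat.prime_two⟩
  (((T.isPGroup'.to_le (inf_le_left : (T : Subgroup G) ⊓ H ≤ _))).comap_subtype).toSylow
    (p := 2) (P := ((T : Subgroup G) ⊓ H).subgroupOf H)
    (CfsgLib.LocalEvenB.not_dvd_relIndex_inf_of_subnormal T hH)

theorem mem_sylowSub (T : Sylow 2 G) {H : Subgroup G} (hH : H.IsSubnormal) (x : H) :
    x ∈ (sylowSub T hH : Subgroup H) ↔ (x : G) ∈ (T : Subgroup G) :=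
  ⟨fun h => h.1, fun h => ⟨h, x.2⟩⟩

theorem map_sylowSub (T : Sylow 2 G) {H : Subgroup G} (hH : H.IsSubnormal) :
    (sylowSub T hH : Subgroup H).map H.subtype = (T : Subgroup G) ⊓ H := by
  show (((T : Subgroup G) ⊓ H).subgroupOf H).map H.subtype = _
  rw [subgroupOf_map_subtype]
  exact inf_eq_left.mpr inf_le_right

/-- A 2-element which is a product of two commuting elements is a product of commuting 2-powers of
the factors. -/
theorem exists_two_split {e x : G} (hc : Commute e x) {k : ℕ} (h : (e * x) ^ 2 ^ k = 1) :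
    ∃ n l : ℕ, e * x = e ^ n * x ^ n ∧ (e ^ n) ^ 2 ^ l = 1 ∧ (x ^ n) ^ 2 ^ l = 1 := by
  obtain ⟨i, m, hm, hN⟩ :=
    Nat.exists_eq_two_pow_mul_odd (Nat.mul_ne_zero (orderOf_pos e).ne' (orderOf_pos x).ne')
  obtain ⟨n, hn⟩ : ∃ n : ℕ, n ≡ 1 [MOD 2 ^ k] ∧ n ≡ 0 [MOD m] :=
    ⟨_, (Nat.chineseRemainder (Nat.Coprime.pow_left k (Nat.coprime_two_left.mpr hm)) 1 0).2⟩
  refine ⟨n, i, ?_, ?_, ?_⟩
  · rw [← hc.mul_pow, pow_eq_pow_iff_modEq.mpr (hn.1.of_dvd (orderOf_dvd_of_pow_eq_one h)), pow_one]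
  all_goals
    rw [← pow_mul]
    refine orderOf_dvd_iff_pow_eq_one.mp ?_
    obtain ⟨c, hc'⟩ := Nat.modEq_zero_iff_dvd.mp hn.2
    refine Dvd.dvd.trans ?_ (Dvd.intro c (show 2 ^ i * m * c = n * 2 ^ i by rw [hc']; ring))
    rw [← hN]
  · exact dvd_mul_right _ _
  · exact dvd_mul_left _ _

/-- In a perfect group the central elements of a Sylow 2-subgroup lie in its commutator subgroup. -/
theorem center_le_commutator_sylow (hperf : commutator G = ⊤) (P : Sylow 2 G) {z : G}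
    (hz : z ∈ center G) (hzP : z ∈ (P : Subgroup G)) : z ∈ ⁅(P : Subgroup G), (P : Subgroup G)⁆ := by
  haveI : Fact (Nat.Prime 2) := ⟨Nat.prime_two⟩
  let φ : (P : Subgroup G) →* Abelianization (P : Subgroup G) := Abelianization.of
  have key : ∀ (k : ℕ) (g₀ : G), g₀⁻¹ * z ^ k * g₀ ∈ (P : Subgroup G) → g₀⁻¹ * z ^ k * g₀ = z ^ k :=
    fun k g₀ _ => by
      rw [mul_assoc, ← Subgroup.mem_center_iff.mp (pow_mem hz k) g₀, inv_mul_cancel_left]
  have h1 := MonoidHom.transfer_eq_pow φ z key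
  have h2 : MonoidHom.transfer φ z = 1 := by
    have hz' : z ∈ commutator G := hperf ▸ mem_top z
    exact Abelianization.commutator_subset_ker (MonoidHom.transfer φ) hz'
  rw [h2] at h1
  set v : (P : Subgroup G) := ⟨z ^ (P : Subgroup G).index, MonoidHom.transfer_eq_pow_aux z key⟩
  have hv : v ∈ commutator (P : Subgroup G) := by
    rw [← Abelianization.ker_of]
    exact h1.symm
  have h3 : z ^ (P : Subgroup G).index ∈ ⁅(P : Subgroup G), (P : Subgroup G)⁆ := by
    rw [← Subgroup.map_subtype_commutator]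
    exact ⟨v, hv, rfl⟩
  obtain ⟨k, hk⟩ := P.isPGroup' ⟨z, hzP⟩
  have hk' : z ^ 2 ^ k = 1 := congrArg Subtype.val hk
  have hodd : ¬ 2 ∣ (P : Subgroup G).index := P.not_dvd_index
  have hcop : ((P : Subgroup G).index).Coprime (2 ^ k) :=
    Nat.Coprime.pow_right k ((Nat.prime_two.coprime_iff_not_dvd.mpr hodd).symm)
  have hcop' : ((P : Subgroup G).index).Coprime (orderOf z) :=
    hcop.coprime_dvd_right (orderOf_dvd_of_pow_eq_one hk')
  obtain ⟨i, hi⟩ := exists_pow_eq_self_of_coprime hcop'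
  rw [← hi]
  exact pow_mem h3 i

/-- The norm argument: commutators of a group on whose squares an odd automorphism averages to a
constant avoid the fixed points. -/
theorem fixed_commutator_eq_one (P D : Subgroup G) (hDP : D ≤ P)
    (hDc : ∀ d ∈ D, ∀ x ∈ P, d * x = x * d) (hD2 : ∀ d ∈ D, d * d = 1)
    (hsq : ∀ x ∈ P, x * x ∈ D) (t : G) (htP : ∀ x ∈ P, t * x * t⁻¹ ∈ P)
    (htD : ∀ d ∈ D, t * d * t⁻¹ ∈ D) {n : ℕ} (hn : Odd n) (htn : ∀ d ∈ D, Commute (t ^ n) d)
    (htr : ∀ x ∈ P, x ∉ D → ∀ y ∈ P, y ∉ D → ∃ i : ℕ, t ^ i * x * (t ^ i)⁻¹ * y⁻¹ ∈ D)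
    (hbig : 8 * Nat.card D ≤ Nat.card P) {z : G} (hz : z ∈ ⁅P, P⁆) (hzt : t * z = z * t) :
    z = 1 := by
  classical
  letI : CommGroup D := { (inferInstance : Group D) with
    mul_comm := fun a b => Subtype.ext (hDc a a.2 b (hDP b.2)) }
  have htD' : ∀ i : ℕ, ∀ d ∈ D, t ^ i * d * (t ^ i)⁻¹ ∈ D := by
    intro i
    induction i with
    | zero => intro d hd; simpa using hd
    | succ i ih =>
      intro d hd
      rw [show t ^ (i + 1) * d * (t ^ (i + 1))⁻¹ = t * (t ^ i * d * (t ^ i)⁻¹) * t⁻¹ by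
        rw [pow_succ']; group]
      exact htD _ (ih d hd)
  let f : ℕ → D → D := fun i v => ⟨t ^ i * v * (t ^ i)⁻¹, htD' i v v.2⟩
  let N : D → D := fun v => ∏ i ∈ Finset.range n, f i v
  have hNmul : ∀ u v, N (u * v) = N u * N v := fun u v => by
    simp only [N, ← Finset.prod_mul_distrib]
    refine Finset.prod_congr rfl fun i _ => Subtype.ext ?_
    show t ^ i * ((u : G) * v) * (t ^ i)⁻¹ = t ^ i * u * (t ^ i)⁻¹ * (t ^ i * v * (t ^ i)⁻¹)
    group
  have hshift : ∀ v : D, N (f 1 v) = N v := by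
    intro v
    have e : ∀ i, f i (f 1 v) = f (i + 1) v := fun i => Subtype.ext (by
      show t ^ i * (t ^ 1 * (v : G) * (t ^ 1)⁻¹) * (t ^ i)⁻¹ = t ^ (i + 1) * v * (t ^ (i + 1))⁻¹
      rw [pow_succ]; group)
    have h0 : f n v = f 0 v := Subtype.ext (by
      show t ^ n * (v : G) * (t ^ n)⁻¹ = t ^ 0 * v * (t ^ 0)⁻¹
      rw [(htn v v.2).eq, mul_inv_cancel_right, pow_zero, one_mul, inv_one, mul_one])
    simp only [N, e]
    have h1 := Finset.prod_range_succ' (fun i => f i v) n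
    rw [Finset.prod_range_succ, h0] at h1
    exact (mul_right_cancel h1).symm
  have hshift' : ∀ (i : ℕ) (v : D), N (f i v) = N v := by
    intro i
    induction i with
    | zero => intro v; congr 1; exact Subtype.ext (by simp [f])
    | succ i ih =>
      intro v
      rw [← ih v, ← hshift (f i v)]
      congr 1
      exact Subtype.ext (by simp only [f]; rw [pow_succ']; group)
  let sqD : P → D := fun x => ⟨x * x, hsq x x.2⟩
  have hconst : ∀ x y : P, (x : G) ∉ D → (y : G) ∉ D → N (sqD x) = N (sqD y) := by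
    intro x y hx hy
    obtain ⟨i, hi⟩ := htr x x.2 hx y y.2 hy
    have e : f i (sqD x) = sqD y := Subtype.ext (by
      show t ^ i * ((x : G) * x) * (t ^ i)⁻¹ = (y : G) * y
      set d := t ^ i * (x : G) * (t ^ i)⁻¹ * (y : G)⁻¹ with hd
      rw [show t ^ i * ((x : G) * x) * (t ^ i)⁻¹ = (d * y) * (d * y) by rw [hd]; group]
      calc d * y * (d * y) = d * (y * d) * y := by group
        _ = d * (d * y) * y := by rw [hDc d hi y y.2]
        _ = (d * d) * (y * y) := by group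
        _ = y * y := by rw [hD2 d hi, one_mul])
    rw [← e, hshift']
  have hcomm : ∀ x y : G, x ∈ P → y ∈ P → x * y * x⁻¹ * y⁻¹ ∈ D := by
    intro x y hx hy
    rw [show x * y * x⁻¹ * y⁻¹ = (x * x) * ((x⁻¹ * y) * (x⁻¹ * y)) * (y * y)⁻¹ by group]
    exact mul_mem (mul_mem (hsq x hx) (hsq _ (mul_mem (inv_mem hx) hy))) (inv_mem (hsq y hy))
  let cD : P → P → D := fun x y => ⟨x * y * (x : G)⁻¹ * (y : G)⁻¹, hcomm x y x.2 y.2⟩
  have hsqmul : ∀ x y : P, sqD (x * y) = cD y x * sqD x * sqD y := fun x y => Subtype.ext (by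
    show (x : G) * y * (x * y) = y * x * (y : G)⁻¹ * (x : G)⁻¹ * (x * x) * (y * y)
    calc (x : G) * y * (x * y) = (x * ((y : G) * x * (y : G)⁻¹ * (x : G)⁻¹)) * x * (y * y) := by group
      _ = ((y : G) * x * (y : G)⁻¹ * (x : G)⁻¹ * x) * x * (y * y) := by
          rw [← hDc _ (hcomm y x y.2 x.2) x x.2]
      _ = _ := by group)
  have hbil : ∀ x y y' : P, cD x (y * y') = cD x y * cD x y' := fun x y y' => Subtype.ext (by
    show (x : G) * (y * y') * (x : G)⁻¹ * ((y : G) * y')⁻¹ =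
      x * y * (x : G)⁻¹ * (y : G)⁻¹ * (x * y' * (x : G)⁻¹ * (y' : G)⁻¹)
    calc (x : G) * (y * y') * (x : G)⁻¹ * ((y : G) * y')⁻¹
        = x * y * (x : G)⁻¹ * ((x * y' * (x : G)⁻¹ * (y' : G)⁻¹) * (y : G)⁻¹) := by group
      _ = x * y * (x : G)⁻¹ * ((y : G)⁻¹ * (x * y' * (x : G)⁻¹ * (y' : G)⁻¹)) := by
          rw [hDc _ (hcomm x y' x.2 y'.2) _ (inv_mem y.2)]
      _ = _ := by group)
  have hNone : N 1 = 1 := by
    have := hNmul 1 1
    rwa [one_mul, left_eq_mul] at this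
  have hsq1 : ∀ d : D, d * d = 1 := fun d => Subtype.ext (hD2 d d.2)
  -- three independent elements
  have hgrow : ∀ (R : Finset G), R.card ≤ 7 → ∃ y ∈ P, ∀ r ∈ R, r * y ∉ D := by
    intro R hR
    by_contra hcon
    push Not at hcon
    haveI : Fintype G := Fintype.ofFinite G
    have hsub : Finset.univ.filter (fun y => y ∈ P) ⊆
        R.biUnion fun r => Finset.univ.filter fun y => r * y ∈ D := by
      intro y hy
      obtain ⟨r, hr, hry⟩ := hcon y (Finset.mem_filter.mp hy).2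
      exact Finset.mem_biUnion.mpr ⟨r, hr, Finset.mem_filter.mpr ⟨Finset.mem_univ _, hry⟩⟩
    have h1 := Finset.card_le_card hsub
    have h2 : ∀ r ∈ R, (Finset.univ.filter fun y => r * y ∈ D).card ≤ Nat.card D := fun r _ => by
      rw [Nat.card_eq_fintype_card, ← Fintype.card_subtype]
      exact Fintype.card_le_of_injective (fun y => (⟨r * y.1, y.2⟩ : D))
        fun a b h => Subtype.ext (mul_left_cancel (congrArg Subtype.val h))
    have h3 := h1.trans (Finset.card_biUnion_le.trans (Finset.sum_le_card_nsmul _ _ _ h2))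
    have h4 : (Finset.univ.filter (fun y => y ∈ P)).card = Nat.card P := by
      rw [Nat.card_eq_fintype_card, ← Fintype.card_subtype]
    rw [h4, smul_eq_mul] at h3
    have h5 : 0 < Nat.card D := Nat.card_pos
    have := Nat.mul_le_mul_right (Nat.card D) hR
    omega
  obtain ⟨x, hx, hxD⟩ := hgrow {1} (by simp)
  have hxD : x ∉ D := by simpa using hxD 1 (by simp)
  obtain ⟨y, hy, hyD⟩ := hgrow {1, x} (Finset.card_le_two.trans (by norm_num))
  obtain ⟨y', hy', hyD'⟩ := hgrow {1, x, y, x * y} (Finset.card_le_four.trans (by norm_num))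
  set c : D := N (sqD ⟨x, hx⟩) with hc
  have hind : ∀ a b : P, (a : G) ∉ D → (b : G) ∉ D → (a : G) * b ∉ D → N (cD b a) = c := by
    intro a b ha hb hab
    have h := congrArg N (hsqmul a b)
    rw [hNmul, hNmul, hconst (a * b) ⟨x, hx⟩ hab hxD, hconst a ⟨x, hx⟩ ha hxD,
      hconst b ⟨x, hx⟩ hb hxD, ← hc, mul_assoc, hsq1, mul_one] at h
    exact h.symm
  have hc1 : c = 1 := by
    have hy1 : y ∉ D := by simpa using hyD 1 (by simp)
    have hxy : x * y ∉ D := hyD x (by simp)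
    have hy'1 : y' ∉ D := by simpa using hyD' 1 (by simp)
    have hxy' : x * y' ∉ D := hyD' x (by simp)
    have hyy' : y * y' ∉ D := hyD' y (by simp)
    have hxyy' : x * y * y' ∉ D := hyD' (x * y) (by simp)
    have hswap : ∀ a b : G, a ∈ P → b ∈ P → a * b ∉ D → b * a ∉ D := fun a b ha hb h h' => h (by
      rw [show a * b = (a * b * a⁻¹ * b⁻¹) * (b * a) by group]
      exact mul_mem (hcomm a b ha hb) h')
    have e1 := hind ⟨y, hy⟩ ⟨x, hx⟩ hy1 hxD (hswap x y hx hy hxy)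
    have e2 := hind ⟨y', hy'⟩ ⟨x, hx⟩ hy'1 hxD (hswap x y' hx hy' hxy')
    have e3 := hind (⟨y, hy⟩ * ⟨y', hy'⟩) ⟨x, hx⟩ hyy' hxD
      (hswap x (y * y') hx (mul_mem hy hy') (by rwa [← mul_assoc]))
    rw [hbil, hNmul, e1, e2, hsq1] at e3
    exact e3.symm
  have hall : ∀ a b : P, N (cD b a) = 1 := by
    intro a b
    by_cases ha : (a : G) ∈ D
    · have e : cD b a = 1 := Subtype.ext (by
        show (b : G) * a * (b : G)⁻¹ * (a : G)⁻¹ = 1
        rw [← hDc a ha b b.2, mul_inv_cancel_right, mul_inv_cancel])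
      rw [e, hNone]
    by_cases hb : (b : G) ∈ D
    · have e : cD b a = 1 := Subtype.ext (by
        show (b : G) * a * (b : G)⁻¹ * (a : G)⁻¹ = 1
        rw [hDc b hb a a.2, mul_inv_cancel_right, mul_inv_cancel])
      rw [e, hNone]
    by_cases hab : (a : G) * b ∈ D
    · have e : cD b a = 1 := Subtype.ext (by
        show (b : G) * a * (b : G)⁻¹ * (a : G)⁻¹ = 1
        have h := hDc _ hab a a.2
        rw [mul_assoc] at h
        have h' : (b : G) * a = a * b := mul_left_cancel h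
        rw [h', mul_inv_cancel_right, mul_inv_cancel])
      rw [e, hNone]
    rw [hind a b ha hb hab, hc1]
  have hker : ∀ w ∈ ⁅P, P⁆, ∃ hw : w ∈ D, N ⟨w, hw⟩ = 1 := by
    intro w hw
    rw [Subgroup.commutator_def] at hw
    refine closure_induction ?_ ⟨one_mem D, hNone⟩ ?_ ?_ hw
    · rintro _ ⟨a, ha, b, hb, rfl⟩
      rw [commutatorElement_def]
      exact ⟨hcomm a b ha hb, hall ⟨b, hb⟩ ⟨a, ha⟩⟩
    · rintro u v _ _ ⟨hu, h1⟩ ⟨hv, h2⟩
      refine ⟨mul_mem hu hv, ?_⟩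
      rw [show (⟨u * v, mul_mem hu hv⟩ : D) = ⟨u, hu⟩ * ⟨v, hv⟩ from rfl, hNmul, h1, h2, one_mul]
    · rintro u _ ⟨hu, h1⟩
      refine ⟨inv_mem hu, ?_⟩
      have h := hNmul ⟨u, hu⟩ ⟨u, hu⟩⁻¹
      rw [mul_inv_cancel, hNone, h1, one_mul] at h
      exact h.symm
  obtain ⟨hzD, hN⟩ := hker z hz
  have hfix : ∀ i, f i ⟨z, hzD⟩ = ⟨z, hzD⟩ := fun i => Subtype.ext (by
    show t ^ i * z * (t ^ i)⁻¹ = z
    rw [((show Commute t z from hzt).pow_left i).eq, mul_inv_cancel_right])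
  simp only [N, hfix, Finset.prod_const, Finset.card_range] at hN
  obtain ⟨j, rfl⟩ := hn
  rw [pow_succ, pow_mul, pow_two, hsq1, one_pow, one_mul] at hN
  exact congrArg Subtype.val hN

end CfsgLib.ThreePrime.Comp
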