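import Cfsg.Agent.Lib.ThreePrime.Sections
import Cfsg.Agent.Lib.ThreePrime.Comp.Basic
import Cfsg.Agent.Lib.Components.Char
import Cfsg.Agent.S2752
import Mathlib.GroupTheory.SemidirectProduct

/-!
Owner: helper13. The offender bound for the normalizer of `A` in a counterexample of least order.
-/

set_option autoImplicit false
set_option linter.style.haveILetI false

namespace CfsgLib.ThreePrime

open Subgroup

universe u

variable {G : Type u} [Group G] [Finite G] {S : Sylow 2 G} {A : Subgroup G}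

theorem Setting.ne_bot (h : Setting S A) : A ≠ ⊥ := fun e => by
  have := h.card
  rw [e, card_bot] at this
  omega

theorem Setting.normalizer_ne_top (h : Setting S A) : normalizer (A : Set G) ≠ ⊤ := by
  intro e
  haveI := h.hyp.simple
  rcases IsSimpleGroup.eq_bot_or_eq_top_of_normal A (normalizer_eq_top_iff.mp e) with h1 | h1
  · exact h.ne_bot h1
  · refine h.hyp.nonab ⟨⟨fun a b => ?_⟩⟩
    exact Comp.elem_comm h.elem (h1 ▸ mem_top a) (h1 ▸ mem_top b)

theorem Setting.offender_le (h : Setting S A) (R0 : Subgroup G) (hR0 : R0 ≤ normalizer (A : Set G))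
    (hsq : ∀ x ∈ R0, x * x ∈ centralizer (A : Set G)) :
    ((centralizer (A : Set G)).subgroupOf R0).index ^ 2 * Nat.card ↥(A ⊓ centralizer (R0 : Set G)) ≤
      Nat.card A := by
  classical
  haveI : Fact (Nat.Prime 2) := ⟨Nat.prime_two⟩
  let ρ : normalizer (A : Set G) →* MulAut A := A.normalizerMonoidHom
  let R : Subgroup (MulAut A) := ρ.range
  have hρ : ∀ (g : normalizer (A : Set G)) (a : A), ((ρ g a : A) : G) = (g : G) * a * (g : G)⁻¹ :=
    fun _ _ => rfl
  -- `O₂(R)` is trivial
  have hO2 : Cfsg.pCore 2 R = ⊥ := by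
    haveI hQn : (Cfsg.pCore 2 R).Normal := Components.pCore_normal 2
    set Q := Cfsg.pCore 2 R
    let F : Subgroup A :=
      { carrier := {a | ∀ r : R, r ∈ Q → (r : MulAut A) a = a}
        one_mem' := fun r _ => map_one _
        mul_mem' := fun {a b} ha hb r hr => by rw [map_mul, ha r hr, hb r hr]
        inv_mem' := fun {a} ha r hr => by rw [map_inv, ha r hr] }
    have hFA : F.map A.subtype ≤ A := map_subtype_le _
    have hinv : ∀ g ∈ normalizer (A : Set G), ∀ b ∈ F.map A.subtype, g * b * g⁻¹ ∈ F.map A.subtype := by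
      rintro g hg _ ⟨b, hb, rfl⟩
      refine ⟨ρ ⟨g, hg⟩ b, fun r hr => ?_, rfl⟩
      set s : R := ⟨ρ ⟨g, hg⟩, ⟨_, rfl⟩⟩
      have h1 : ((s⁻¹ * r * s : R) : MulAut A) b = b :=
        hb _ (by simpa using hQn.conj_mem r hr s⁻¹)
      show (r : MulAut A) ((s : MulAut A) b) = (s : MulAut A) b
      conv_rhs => rw [← h1]
      rw [← MulAut.mul_apply, ← MulAut.mul_apply, ← Subgroup.coe_mul, ← Subgroup.coe_mul,
        mul_assoc s⁻¹ r s, mul_inv_cancel_left]
    have hne : F.map A.subtype ≠ ⊥ := by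
      have hQp : IsPGroup 2 Q := Components.pCore_isPGroup 2
      letI : MulAction Q A := MulAction.compHom A ((R.subtype).comp Q.subtype)
      have h2 : 2 ∣ Nat.card A := by
        obtain ⟨k, hk⟩ := (Comp.isPGroup_elem h.elem).exists_card_eq
        have := h.card
        rcases k with _ | k
        · rw [hk] at this; simp at this
        · exact hk ▸ dvd_pow_self 2 (Nat.succ_ne_zero k)
      obtain ⟨b, hb, hb1⟩ := hQp.exists_fixed_point_of_prime_dvd_card_of_fixed_point A h2
        (a := 1) fun q => map_one ((q : R) : MulAut A)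
      refine fun e => hb1 ?_
      have hbF : b ∈ F := fun r hr => hb ⟨r, hr⟩
      have h3 := mem_map_of_mem A.subtype hbF
      rw [e, mem_bot] at h3
      exact (Subtype.ext h3).symm
    have hFt := h.irred _ hFA hne hinv
    refine (eq_bot_iff_forall _).mpr fun r hr => Subtype.ext (MulEquiv.ext fun a => ?_)
    have ha : (a : G) ∈ F.map A.subtype := hFt.symm ▸ a.2
    obtain ⟨b, hb, hba⟩ := ha
    obtain rfl : b = a := Subtype.ext hba
    exact hb r hr
  -- the semidirect product
  let L := A ⋊[R.subtype] R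
  haveI : Finite L := Finite.of_equiv _ SemidirectProduct.equivProd.symm
  let M : Subgroup L := (SemidirectProduct.inl : A →* L).range
  let Gp : Subgroup L := (SemidirectProduct.inr : R →* L).range
  let eR : R ≃* Gp := MonoidHom.ofInjective SemidirectProduct.inr_injective
  have hact : ∀ (r : R) (a : A), (SemidirectProduct.inr r : L) * SemidirectProduct.inl a *
      (SemidirectProduct.inr r)⁻¹ = SemidirectProduct.inl ((r : MulAut A) a) := fun r a => by
    rw [← map_inv]; exact (SemidirectProduct.inl_aut r a).symm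
  have hM : Cfsg.IsElementaryAbelian 2 M := by
    refine ⟨⟨⟨?_⟩⟩, ?_⟩
    · rintro ⟨_, a, rfl⟩ ⟨_, b, rfl⟩
      refine Subtype.ext ?_
      show (SemidirectProduct.inl a : L) * SemidirectProduct.inl b =
        SemidirectProduct.inl b * SemidirectProduct.inl a
      rw [← map_mul, ← map_mul, show a * b = b * a from Subtype.ext (Comp.elem_comm h.elem a.2 b.2)]
    · rintro _ ⟨a, rfl⟩
      rw [← map_pow, show a ^ 2 = 1 from Subtype.ext (h.elem.2 _ a.2), map_one]
  have hGM : Gp ≤ normalizer (M : Set L) := by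
    rintro _ ⟨r, rfl⟩
    refine Comp.mem_normalizer_of_forall ?_
    rintro _ ⟨a, rfl⟩
    exact ⟨_, (hact r a).symm⟩
  have hf : Gp ⊓ centralizer (M : Set L) = ⊥ := by
    refine (eq_bot_iff_forall _).mpr ?_
    rintro _ ⟨⟨r, rfl⟩, hc⟩
    have h1 : (r : MulAut A) = 1 := MulEquiv.ext fun a => by
      refine SemidirectProduct.inl_injective (φ := R.subtype) ?_
      rw [← hact, ← mem_centralizer_iff.mp hc _ ⟨a, rfl⟩, mul_inv_cancel_right]
      rfl
    rw [show r = 1 from Subtype.ext h1, map_one]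
  have ha : Cfsg.pCore 2 Gp = ⊥ := by
    rw [← Components.pCore_map_equiv 2 eR, hO2, Subgroup.map_bot]
  have hdvd : Nat.card Gp ∣ Nat.card (normalizer (A : Set G)) := by
    rw [← Nat.card_congr eR.toEquiv]
    exact card_range_dvd ρ
  have hdvdG : Nat.card Gp ∣ Nat.card G := hdvd.trans (card_subgroup_dvd_card _)
  have hb : ¬ Cfsg.Involves (Equiv.Perm (Fin 3)) Gp := by
    rintro ⟨K, Rr, hR, ⟨e⟩⟩
    haveI := hR
    refine h.hyp.three (Dvd.dvd.trans ?_ ((card_section_dvd (G := Gp) K (Rr.subgroupOf K)).trans hdvdG))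
    rw [Nat.card_congr e.toEquiv, Nat.card_eq_fintype_card, Fintype.card_perm, Fintype.card_fin]
    decide
  have hc : Cfsg.IsCompositionKGroupWith Cfsg.IsSuzukiOrPSL2OddPowerThree Gp := by
    intro H _ N _ hs hn
    have hd := card_section_dvd H N
    refine Or.inl (h.hyp.small _ hs hn (fun h3 => h.hyp.three (h3.trans (hd.trans hdvdG))) ?_)
    refine lt_of_le_of_lt (Nat.le_of_dvd Nat.card_pos (hd.trans hdvd)) ?_
    exact lt_of_le_of_ne (card_le_card_group _)
      fun e => h.normalizer_ne_top (eq_top_of_card_eq _ e)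
  -- the image of `R0`
  let θ : R0 →* L := (SemidirectProduct.inr : R →* L).comp (ρ.rangeRestrict.comp (inclusion hR0))
  set U := θ.range with hU
  have hker : θ.ker = (centralizer (A : Set G)).subgroupOf R0 := by
    ext x
    rw [MonoidHom.mem_ker, mem_subgroupOf, ← map_one (SemidirectProduct.inr : R →* L)]
    show (SemidirectProduct.inr (ρ.rangeRestrict (inclusion hR0 x)) : L) = SemidirectProduct.inr 1 ↔ _
    rw [SemidirectProduct.inr_inj, mem_centralizer_iff]
    constructor
    · intro e a ha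
      have h0 : ((ρ.rangeRestrict (inclusion hR0 x) : R) : MulAut A) = 1 := congrArg Subtype.val e
      have h1 : (x : G) * a * (x : G)⁻¹ = a :=
        congrArg Subtype.val (DFunLike.congr_fun h0 (⟨a, ha⟩ : A))
      exact (mul_inv_eq_iff_eq_mul.mp h1).symm
    · intro e
      refine Subtype.ext (MulEquiv.ext fun a => Subtype.ext ?_)
      show (x : G) * (a : G) * (x : G)⁻¹ = a
      rw [← e a a.2, mul_inv_cancel_right]
  have hUcard : Nat.card U = ((centralizer (A : Set G)).subgroupOf R0).index := by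
    rw [← hker, index_ker]
  have hUe : Cfsg.IsElementaryAbelian 2 U := by
    have hinv : ∀ u ∈ U, u * u = 1 := by
      rintro _ ⟨x, rfl⟩
      rw [← map_mul, ← MonoidHom.mem_ker, hker]
      exact hsq x x.2
    have hi : ∀ u ∈ U, u⁻¹ = u := fun u hu => inv_eq_of_mul_eq_one_right (hinv u hu)
    refine ⟨⟨⟨fun a b => Subtype.ext ?_⟩⟩, fun u hu => by rw [pow_two]; exact hinv u hu⟩
    have h3 := hi _ (U.mul_mem a.2 b.2)
    rw [mul_inv_rev, hi _ a.2, hi _ b.2] at h3
    exact h3.symm
  have hUG : U ≤ Gp := by rintro _ ⟨x, rfl⟩; exact ⟨_, rfl⟩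
  have hbound := (Cfsg.Agent.S2752.result M Gp hM hGM hf ha hb hc U hUG hUe).1
  have hcM : Nat.card M = Nat.card A :=
    (Nat.card_congr (MonoidHom.ofInjective SemidirectProduct.inl_injective).toEquiv).symm
  have hle : Nat.card ↥(A ⊓ centralizer (R0 : Set G)) ≤
      Nat.card ↥(M ⊓ centralizer (U : Set L)) := by
    refine Nat.card_le_card_of_injective
      (fun a => (⟨SemidirectProduct.inl ⟨(a : G), a.2.1⟩, ⟨_, rfl⟩, ?_⟩ :
        ↥(M ⊓ centralizer (U : Set L)))) fun a b e => ?_
    · refine mem_centralizer_iff.mpr ?_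
      rintro _ ⟨x, rfl⟩
      have h1 := hact (ρ.rangeRestrict (inclusion hR0 x)) ⟨(a : G), a.2.1⟩
      rw [show ((ρ.rangeRestrict (inclusion hR0 x) : R) : MulAut A) ⟨(a : G), a.2.1⟩ = ⟨(a : G), a.2.1⟩ from
        Subtype.ext (by
          show (x : G) * (a : G) * (x : G)⁻¹ = a
          rw [mem_centralizer_iff.mp a.2.2 x x.2, mul_inv_cancel_right]),
        mul_inv_eq_iff_eq_mul] at h1
      exact h1
    · have h1 : (SemidirectProduct.inl (⟨(a : G), a.2.1⟩ : A) : L) =
          SemidirectProduct.inl ⟨(b : G), b.2.1⟩ := congrArg Subtype.val e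
      have h2 : (⟨(a : G), a.2.1⟩ : A) = ⟨(b : G), b.2.1⟩ := SemidirectProduct.inl_injective h1
      exact Subtype.ext (congrArg (fun x : A => (x : G)) h2)
  rw [← hUcard]
  calc Nat.card U ^ 2 * Nat.card ↥(A ⊓ centralizer (R0 : Set G))
      ≤ Nat.card U ^ 2 * Nat.card ↥(M ⊓ centralizer (U : Set L)) := Nat.mul_le_mul_left _ hle
    _ ≤ Nat.card A := hcM ▸ hbound

end CfsgLib.ThreePrime
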