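import Cfsg.Prelude.Def_Sz
import Cfsg.Agent.Lib.Lie.Suzuki.Structure
import Cfsg.Agent.Lib.Lie.Suzuki.Trace
import Cfsg.Agent.Lib.Lie.Suzuki.Fix
import Cfsg.Agent.Lib.Known.SuzukiAut

/-!
Owner: helper13. The facts on a Sylow 2-subgroup of a Suzuki group used in the component step of
the proof that simple groups of order prime to three are Suzuki groups.
-/

set_option autoImplicit false

namespace CfsgLib.ThreePrime.Comp

open Subgroup

universe u v

/-- The centre of `P`, as a subgroup of the ambient group. -/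
abbrev cen {X : Type*} [Group X] (P : Subgroup X) : Subgroup X := P ⊓ centralizer (P : Set X)

/-- The order of the Suzuki group over the field with `q` elements. -/
def szOrd (q : ℕ) : ℕ := q ^ 2 * (q ^ 2 + 1) * (q - 1)

/-- What is used of a Sylow 2-subgroup of a Suzuki group. -/
structure SzSyl {X : Type*} [Group X] (P : Subgroup X) : Prop where
  eight : 8 ≤ Nat.card (cen P)
  card : Nat.card P = Nat.card (cen P) ^ 2
  card_group : Nat.card X = szOrd (Nat.card (cen P))
  simple : IsSimpleGroup X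
  comm : ⁅P, P⁆ = cen P
  sq : ∀ x ∈ P, x * x = 1 → x ∈ cen P
  centr : ∀ w ∈ P, w ∉ cen P → ∀ v ∈ P, Commute v w → v ∈ cen P ∨ v * w⁻¹ ∈ cen P
  cent_inv : ∀ z ∈ cen P, z ≠ 1 → centralizer ({z} : Set X) ≤ P
  fix : ∀ φ : MulAut X, (∀ z ∈ cen P, φ z = z) → ∃ p ∈ P, φ = MulAut.conj p
  maximal : ∀ M : Subgroup X, P ≤ M → ¬ M ≤ normalizer (P : Set X) → M = ⊤
  torus : ∃ t ∈ normalizer (P : Set X), ∃ w : X, w ∉ normalizer (P : Set X) ∧ Odd (orderOf t) ∧
    w * t * w⁻¹ = t⁻¹ ∧ ∀ x ∈ P, x ∉ cen P → ∀ y ∈ P, y ∉ cen P →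
      ∃ i : ℕ, t ^ i * x * (t ^ i)⁻¹ * y⁻¹ ∈ cen P
  trans : ∀ x ∈ cen P, x ≠ 1 → ∀ y ∈ cen P, y ≠ 1 →
    ∃ g ∈ normalizer (P : Set X), g * x * g⁻¹ = y

theorem cen_map {X : Type u} {Y : Type v} [Group X] [Group Y] (e : X ≃* Y) (P : Subgroup X) :
    cen (P.map e.toMonoidHom) = (cen P).map e.toMonoidHom := by
  ext y
  obtain ⟨x, rfl⟩ := e.surjective y
  have hm : ∀ (Q : Subgroup X) (z : X), e z ∈ Q.map e.toMonoidHom ↔ z ∈ Q := fun Q z =>
    Subgroup.mem_map_iff_mem (f := e.toMonoidHom) e.injective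
  rw [mem_inf, hm, hm, mem_inf]
  refine and_congr_right fun _ => ?_
  simp only [mem_centralizer_iff, SetLike.mem_coe]
  refine ⟨fun h p hp => e.injective ?_, fun h p hp => ?_⟩
  · rw [map_mul, map_mul]; exact h _ ((hm P p).mpr hp)
  · obtain ⟨p, rfl⟩ := e.surjective p
    rw [← map_mul, ← map_mul, h p ((hm P p).mp hp)]

theorem SzSyl.map {X : Type u} {Y : Type v} [Group X] [Group Y] {P : Subgroup X} (h : SzSyl P)
    (e : X ≃* Y) : SzSyl (P.map e.toMonoidHom) := by
  have hm : ∀ (Q : Subgroup X) (z : X), e z ∈ Q.map e.toMonoidHom ↔ z ∈ Q := fun Q z =>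
    Subgroup.mem_map_iff_mem (f := e.toMonoidHom) e.injective
  have hc : ∀ z : X, e z ∈ cen (P.map e.toMonoidHom) ↔ z ∈ cen P := fun z => by rw [cen_map, hm]
  have hn : ∀ z : X, e z ∈ normalizer (P.map e.toMonoidHom : Set Y) ↔ z ∈ normalizer (P : Set X) := by
    intro z
    rw [mem_normalizer_iff, mem_normalizer_iff]
    refine ⟨fun h' w => ?_, fun h' w => ?_⟩
    · simpa only [← map_mul, ← map_inv, hm] using h' (e w)
    · obtain ⟨w, rfl⟩ := e.surjective w
      simpa only [← map_mul, ← map_inv, hm] using h' w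
  have hcard : Nat.card (cen (P.map e.toMonoidHom)) = Nat.card (cen P) := by
    rw [cen_map, card_map_of_injective e.injective]
  refine
    { eight := hcard.symm ▸ h.eight
      card := by rw [hcard, card_map_of_injective e.injective, h.card]
      card_group := by rw [hcard, ← Nat.card_congr e.toEquiv, h.card_group]
      simple := by
        haveI := h.simple
        haveI : Nontrivial X := IsSimpleGroup.toNontrivial
        haveI : Nontrivial Y := e.toEquiv.symm.nontrivial
        exact IsSimpleGroup.isSimpleGroup_of_surjective e.toMonoidHom e.surjective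
      comm := by rw [← map_commutator, h.comm, cen_map]
      sq := ?_, centr := ?_, cent_inv := ?_, fix := ?_, maximal := ?_, torus := ?_, trans := ?_ }
  · intro x hx hsq
    obtain ⟨x, rfl⟩ := e.surjective x
    rw [← map_mul, ← map_one e, e.injective.eq_iff] at hsq
    exact (hc x).mpr (h.sq x ((hm P x).mp hx) hsq)
  · intro w hw hwz v hv hvw
    obtain ⟨w, rfl⟩ := e.surjective w
    obtain ⟨v, rfl⟩ := e.surjective v
    have h1 := h.centr w ((hm P w).mp hw) (fun hh => hwz ((hc w).mpr hh)) v ((hm P v).mp hv)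
      (e.injective (by rw [map_mul, map_mul]; exact hvw.eq))
    refine h1.imp (hc v).mpr fun h2 => ?_
    rw [← map_inv, ← map_mul]
    exact (hc _).mpr h2
  · intro z hz hz1 y hy
    obtain ⟨z, rfl⟩ := e.surjective z
    obtain ⟨y, rfl⟩ := e.surjective y
    refine (hm P y).mpr (h.cent_inv z ((hc z).mp hz) (fun hh => hz1 (by rw [hh, map_one])) ?_)
    rw [mem_centralizer_singleton_iff] at hy ⊢
    exact e.injective (by rw [map_mul, map_mul]; exact hy)
  · intro φ hφ
    obtain ⟨p, hp, hpe⟩ := h.fix ((e.trans φ).trans e.symm) fun z hz => by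
      simp only [MulEquiv.trans_apply]
      rw [hφ _ ((hc z).mpr hz), e.symm_apply_apply]
    refine ⟨e p, (hm P p).mpr hp, MulEquiv.ext fun y => ?_⟩
    obtain ⟨x, rfl⟩ := e.surjective y
    have h1 := DFunLike.congr_fun hpe x
    simp only [MulEquiv.trans_apply, MulAut.conj_apply] at h1 ⊢
    rw [← map_inv, ← map_mul, ← map_mul, ← h1, e.apply_symm_apply]
  · intro M hM hMN
    have hle : P ≤ M.comap e.toMonoidHom := map_le_iff_le_comap.mp hM
    have htop : M.comap e.toMonoidHom = ⊤ := by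
      refine h.maximal _ hle fun hh => hMN fun y hy => ?_
      obtain ⟨x, rfl⟩ := e.surjective y
      exact (hn x).mpr (hh hy)
    rw [eq_top_iff]
    intro y _
    obtain ⟨x, rfl⟩ := e.surjective y
    show x ∈ M.comap e.toMonoidHom
    rw [htop]
    exact mem_top x
  · obtain ⟨t, ht, w, hw, hodd, hwt, htr⟩ := h.torus
    refine ⟨e t, (hn t).mpr ht, e w, fun hh => hw ((hn w).mp hh),
      (by rw [MulEquiv.orderOf_eq]; exact hodd), by rw [← map_inv, ← map_mul, ← map_mul, hwt, map_inv], ?_⟩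
    intro x hx hxz y hy hyz
    obtain ⟨x, rfl⟩ := e.surjective x
    obtain ⟨y, rfl⟩ := e.surjective y
    obtain ⟨i, hi⟩ := htr x ((hm P x).mp hx) (fun hh => hxz ((hc x).mpr hh)) y ((hm P y).mp hy)
      (fun hh => hyz ((hc y).mpr hh))
    refine ⟨i, ?_⟩
    rw [← map_pow, ← map_inv, ← map_inv, ← map_mul, ← map_mul, ← map_mul]
    exact (hc _).mpr hi
  · intro x hx hx1 y hy hy1
    obtain ⟨x, rfl⟩ := e.surjective x
    obtain ⟨y, rfl⟩ := e.surjective y
    obtain ⟨g, hg, hge⟩ := h.trans x ((hc x).mp hx) (fun hh => hx1 (by rw [hh, map_one])) y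
      ((hc y).mp hy) (fun hh => hy1 (by rw [hh, map_one]))
    exact ⟨e g, (hn g).mpr hg, by rw [← map_inv, ← map_mul, ← map_mul, hge]⟩

end CfsgLib.ThreePrime.Comp

namespace CfsgLib.ThreePrime.Comp

open Subgroup CfsgLib.Lie.Suzuki

universe u

variable {F : Type u} [Field F] [Fintype F] [CharP F 2] {m : ℕ}
  (hF : Fintype.card F = 2 ^ (2 * m + 1))

include hF in
theorem szSyl_unip (hm : 1 ≤ m) : SzSyl (unip hF) := by
  have hmem : ∀ a b : F, uS hF a b ∈ unip hF := uS_mem hF
  have hcen : ∀ a b : F, uS hF a b ∈ cen (unip hF) ↔ a = 0 := by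
    intro a b
    have h1 : uS hF a b ∈ cen (unip hF) ↔
        (⟨_, hmem a b⟩ : unip hF) ∈ center (unip hF) := by
      rw [mem_inf, mem_centralizer_iff, Subgroup.mem_center_iff]
      refine ⟨fun h x => Subtype.ext ?_, fun h => ⟨hmem a b, fun x hx => ?_⟩⟩
      · exact h.2 x x.2
      · exact congrArg Subtype.val (h ⟨x, hx⟩)
    rw [h1, center_unip hF hm]
    exact ⟨fun ⟨b', hb'⟩ => (uS_inj hF hb').1, fun h => ⟨b, by subst h; rfl⟩⟩
  have hcardc : Nat.card (cen (unip hF)) = Fintype.card F := by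
    rw [← Nat.card_eq_fintype_card]
    refine (Nat.card_eq_of_bijective (fun b : F => (⟨uS hF 0 b, (hcen 0 b).mpr rfl⟩ : cen (unip hF)))
      ⟨fun b b' h => (uS_inj hF (congrArg Subtype.val h)).2, ?_⟩).symm
    rintro ⟨x, hx⟩
    obtain ⟨a, b, rfl⟩ := (mem_inf.mp hx).1
    obtain rfl := (hcen a b).mp hx
    exact ⟨b, rfl⟩
  have hnorm := normalizer_unip hF hm
  refine
    { eight := hcardc.symm ▸ CfsgLib.Known.SuzukiAut.card_ge_eight hF hm
      card := by rw [hcardc, card_unip]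
      card_group := by rw [hcardc, nat_card hF hm]; rfl
      simple := isSimple hF hm
      comm := ?_, sq := ?_, centr := ?_, cent_inv := ?_, fix := ?_, maximal := ?_, torus := ?_,
      trans := ?_ }
  · have h1 : ⁅unip hF, unip hF⁆ = (commutator (unip hF)).map (unip hF).subtype := by
      rw [_root_.commutator_def, map_commutator, ← MonoidHom.range_eq_map, Subgroup.range_subtype]
    rw [h1, ← commutator_unip hF hm]
    ext x
    constructor
    · rintro ⟨g, hg, rfl⟩
      exact mem_inf.mpr ⟨g.2, mem_centralizer_iff.mpr fun y hy =>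
        congrArg Subtype.val (Subgroup.mem_center_iff.mp hg ⟨y, hy⟩)⟩
    · intro hx
      refine ⟨⟨x, (mem_inf.mp hx).1⟩, Subgroup.mem_center_iff.mpr fun y => Subtype.ext ?_, rfl⟩
      exact mem_centralizer_iff.mp (mem_inf.mp hx).2 y y.2
  · rintro _ ⟨a, b, rfl⟩ hsq
    have h1 : uS hF 0 (th F m a * a) = uS hF 0 0 := by rw [← uS_sq, sq, hsq, uS_zero_zero]
    refine (hcen a b).mpr ?_
    rcases mul_eq_zero.mp (uS_inj hF h1).2 with h | h
    · exact (th F m).injective (h.trans (map_zero _).symm)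
    · exact h
  · rintro _ ⟨a, b, rfl⟩ hwz _ ⟨c, d, rfl⟩ hvw
    have ha : a ≠ 0 := fun h => hwz ((hcen a b).mpr h)
    have h1 : uS hF c d * uS hF a b = uS hF a b * uS hF c d := hvw.eq
    rw [uS_mul, uS_mul] at h1
    have h2 := (uS_inj hF h1).2
    by_cases hc : c = 0
    · exact Or.inl ((hcen c d).mpr hc)
    refine Or.inr ?_
    have h3 : th F m c * a = th F m a * c := by
      have e : (2 : F) = 0 := CharTwo.two_eq_zero
      grind
    have h4 : th F m (c / a) = c / a := by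
      rw [map_div₀, div_eq_div_iff (θ_ne_zero ha) ha, h3]
      ring
    obtain hca : c = a := (fix_th hF h4).elim (fun h => absurd h (div_ne_zero hc ha))
      ((div_eq_one_iff_eq ha).mp)
    rw [uS_inv, uS_mul, hcen, hca]
    exact CharTwo.add_self_eq_zero a
  · intro z hz hz1 y hy
    obtain ⟨a, b, rfl⟩ := (mem_inf.mp hz).1
    obtain ⟨c, d, rfl⟩ := centralizer_uS hF hm (g := uS hF a b) ⟨a, b, rfl⟩ hz1
      (y := y) (mem_centralizer_singleton_iff.mp hy).symm
    exact hmem c d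
  · intro φ hφ
    obtain ⟨γ, g, rfl⟩ := CfsgLib.Known.SuzukiAut.exists_inner_field hF hm φ
    have h0 : ∀ b, g * uS hF 0 (γ b) * g⁻¹ = uS hF 0 b := fun b => by
      have h := hφ _ ((hcen 0 b).mpr rfl)
      rwa [MulAut.mul_apply, MulAut.conj_apply, CfsgLib.Known.SuzukiAut.fa_uS, map_zero] at h
    have hginf : g • pt F m none = pt F m none := by
      refine CfsgLib.Known.SuzukiAut.fix_uS hF ?_
      have h := h0 1
      rw [map_one] at h
      nth_rewrite 1 [← h]
      rw [mul_smul, mul_smul, inv_smul_smul, uS_none]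
    obtain ⟨c, d, t, rfl⟩ := stab_inf hF hm hginf
    have h1 : ∀ b, th F m t * γ b = b := fun b => by
      have h := h0 b
      rw [show uS hF c d * tS hF t * uS hF 0 (γ b) * (uS hF c d * tS hF t)⁻¹ =
        uS hF c d * (tS hF t * uS hF 0 (γ b) * (tS hF t)⁻¹) * (uS hF c d)⁻¹ by group, conj_uS,
        mul_zero, ← uS_comm_zero, mul_inv_cancel_right] at h
      exact (uS_inj hF h).2
    have ht1 : th F m (t : F) = 1 := by simpa using h1 1
    have ht : t = 1 := Units.ext ((th F m).injective (by rw [ht1, Units.val_one, map_one]))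
    have hγ : γ = 1 := RingEquiv.ext fun b => by
      have := h1 b
      rwa [ht1, one_mul] at this
    refine ⟨uS hF c d, hmem c d, ?_⟩
    have hfa : CfsgLib.Known.SuzukiAut.fa (m := m) γ = 1 := by
      rw [hγ]
      exact map_one (CfsgLib.Known.SuzukiAut.faHom (F := F) (m := m))
    rw [hfa, mul_one, ht, map_one, mul_one]
  · intro M hM hMN
    exact (torus_le_of_unip_le hF hm hM).resolve_left (hnorm ▸ hMN)
  · obtain ⟨t0, ht0⟩ := IsCyclic.exists_generator (α := Fˣ)
    have hodd : Odd (orderOf (tS hF t0)) := by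
      refine Odd.of_dvd_nat ?_ ((orderOf_map_dvd (tS hF) t0).trans (orderOf_dvd_natCard t0))
      rw [Nat.card_units, Nat.card_eq_fintype_card, hF]
      exact Nat.Even.sub_odd Nat.one_le_two_pow (Nat.even_pow.mpr ⟨even_two, by omega⟩) odd_one
    have hw : wS hF ∉ normalizer (unip hF : Set (Cfsg.Sz F m)) := by
      rw [hnorm]
      intro h
      have h' := (wS_none hF).symm.trans h
      simp at h'
    refine ⟨tS hF t0, hnorm.symm ▸ tS_mem_borel hF t0, wS hF, hw, hodd, ?_, ?_⟩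
    · rw [inv_eq_of_mul_eq_one_right (wS_mul_self hF), wS_tS]
    rintro _ ⟨a, b, rfl⟩ hx _ ⟨c, d, rfl⟩ hy
    have ha : a ≠ 0 := fun h => hx ((hcen a b).mpr h)
    have hc : c ≠ 0 := fun h => hy ((hcen c d).mpr h)
    obtain ⟨t, ht⟩ := torusRatio_surjective hF (c / a) (div_ne_zero hc ha)
    obtain ⟨i, hi⟩ := Subgroup.mem_zpowers_iff.mp (ht0 t)
    obtain ⟨k, hk⟩ : ∃ k : ℕ, t0 ^ k = t :=
      (isOfFinOrder_of_finite t0).mem_powers_iff_mem_zpowers.mpr (ht0 t)
    refine ⟨k, ?_⟩
    rw [← map_pow, hk, conj_uS, ht, div_mul_cancel₀ _ ha, uS_inv, uS_mul, hcen]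
    exact CharTwo.add_self_eq_zero c
  · intro x hx hx1 y hy hy1
    obtain ⟨a, b, rfl⟩ := (mem_inf.mp hx).1
    obtain ⟨c, d, rfl⟩ := (mem_inf.mp hy).1
    obtain rfl := (hcen a b).mp hx
    obtain rfl := (hcen c d).mp hy
    have hb : b ≠ 0 := fun h => hx1 (by rw [h, uS_one])
    have hd : d ≠ 0 := fun h => hy1 (by rw [h, uS_one])
    obtain ⟨t, ht⟩ := th_unit_surjective (m := m) (d / b) (div_ne_zero hd hb)
    exact ⟨tS hF t, hnorm.symm ▸ tS_mem_borel hF t,
      by rw [conj_uS, mul_zero, ht, div_mul_cancel₀ _ hb]⟩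

end CfsgLib.ThreePrime.Comp

namespace CfsgLib.ThreePrime.Comp

open Subgroup CfsgLib.Lie.Suzuki

/-- The Sylow 2-subgroups of a Suzuki group. -/
theorem szSyl_of_iso {X : Type*} [Group X] [Finite X] (h : Cfsg.Lie.IsoSuzuki X) (P : Sylow 2 X) :
    SzSyl (P : Subgroup X) := by
  obtain ⟨F, i1, i2, m, hm, hF, ⟨e⟩⟩ := h
  let _ := i1
  let _ := i2
  haveI : Fact (Nat.Prime 2) := ⟨Nat.prime_two⟩
  have := CfsgLib.Lie.Suzuki.charTwo_of_card (m := m) hF
  classical
  let f : Cfsg.Sz F m ≃* X := (equivLie hm hF).trans e.symm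
  have hidx : ¬ 2 ∣ ((unip hF).map f.toMonoidHom).index := fun hd => by
    have h1 : ((unip hF).map (f : Cfsg.Sz F m →* X)).index = (unip hF).index :=
      Subgroup.index_map_equiv _ f
    exact Nat.not_even_iff_odd.2 (odd_index_unip hF hm) (even_iff_two_dvd.2 (h1 ▸ hd))
  let Q : Sylow 2 X := ((isPGroup_unip hF).map f.toMonoidHom).toSylow hidx
  obtain ⟨g, hg⟩ := MulAction.exists_smul_eq X Q P
  have h1 : SzSyl (((unip hF).map f.toMonoidHom).map (MulAut.conj g).toMonoidHom) :=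
    ((szSyl_unip hF hm).map f).map (MulAut.conj g)
  rw [← hg]
  exact h1

end CfsgLib.ThreePrime.Comp
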