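import Cfsg.Agent.Lib.ThreePrime.Comp.Basic
import Cfsg.Agent.Lib.ThreePrime.Comp.SzFacts
import Cfsg.Agent.Lib.Components.FStar
import Cfsg.Agent.Lib.Components.Char
import Cfsg.Agent.Lib.Components.PLayer

/-!
Owner: helper13. A strongly closed elementary subgroup and the Suzuki components of a group with
trivial core.
-/

set_option autoImplicit false
set_option linter.style.haveILetI false
set_option linter.unusedSectionVars false

namespace CfsgLib.ThreePrime.Comp

open Subgroup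
open CfsgLib.Components
open scoped commutatorElement

universe u

variable {K : Type u} [Group K]

/-- The action on `X ⧸ Z(X)` of an element normalising `X`. -/
noncomputable def autBar (X : Subgroup K) : normalizer (X : Set K) →* MulAut (X ⧸ center X) :=
  MonoidHom.mk'
    (fun g => QuotientGroup.congr (center X) (center X) (X.normalizerMonoidHom g)
      (Subgroup.characteristic_iff_map_eq.mp inferInstance _))
    fun g h => MulEquiv.ext fun y => by
      obtain ⟨x, rfl⟩ := QuotientGroup.mk_surjective y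
      simp only [map_mul, MulAut.mul_apply]
      rfl

theorem autBar_mk (X : Subgroup K) (g : normalizer (X : Set K)) (x : X) :
    autBar X g (QuotientGroup.mk x) = QuotientGroup.mk (X.normalizerMonoidHom g x) := rfl

theorem autBar_of_mem (X : Subgroup K) {x : K} (hx : x ∈ X) :
    autBar X ⟨x, le_normalizer hx⟩ = MulAut.conj (QuotientGroup.mk (⟨x, hx⟩ : X) : X ⧸ center X) := by
  refine MulEquiv.ext fun y => ?_
  obtain ⟨z, rfl⟩ := QuotientGroup.mk_surjective y
  rw [autBar_mk, MulAut.conj_apply, ← QuotientGroup.mk_inv, ← QuotientGroup.mk_mul,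
    ← QuotientGroup.mk_mul]
  rfl

theorem autBar_eq_one {X : Subgroup K} (hX : commutator X = ⊤) (g : normalizer (X : Set K)) :
    autBar X g = 1 ↔ (g : K) ∈ centralizer (X : Set K) := by
  constructor
  · intro h
    set e := X.normalizerMonoidHom g with he
    have hz : ∀ x : X, x⁻¹ * e x ∈ center X := fun x => by
      rw [← QuotientGroup.eq]
      have h1 := DFunLike.congr_fun h (QuotientGroup.mk x)
      rw [autBar_mk] at h1
      exact h1.symm
    have h2 : commutator X ≤ MonoidHom.eqLocus e.toMonoidHom (MonoidHom.id X) := by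
      rw [_root_.commutator_def, Subgroup.commutator_le]
      intro x _ y _
      show e ⁅x, y⁆ = ⁅x, y⁆
      have ex : e x = x * (x⁻¹ * e x) := (mul_inv_cancel_left _ _).symm
      have ey : e y = y * (y⁻¹ * e y) := (mul_inv_cancel_left _ _).symm
      rw [commutatorElement_def, map_mul, map_mul, map_mul, map_inv, map_inv, ex, ey]
      have c1 := Subgroup.mem_center_iff.mp (hz x)
      have c2 := Subgroup.mem_center_iff.mp (hz y)
      generalize x⁻¹ * e x = z at c1 ⊢
      generalize y⁻¹ * e y = w at c2 ⊢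
      calc x * z * (y * w) * (x * z)⁻¹ * (y * w)⁻¹
          = x * (z * (y * w * z⁻¹)) * x⁻¹ * w⁻¹ * y⁻¹ := by group
        _ = x * (y * w) * x⁻¹ * w⁻¹ * y⁻¹ := by
            rw [← c1 (y * w * z⁻¹), inv_mul_cancel_right]
        _ = x * y * (w * x⁻¹) * w⁻¹ * y⁻¹ := by group
        _ = x * y * (x⁻¹ * w) * w⁻¹ * y⁻¹ := by rw [c2 x⁻¹]
        _ = x * y * x⁻¹ * y⁻¹ := by group
    rw [hX] at h2
    rw [mem_centralizer_iff]
    intro x hx
    have h3 : e ⟨x, hx⟩ = ⟨x, hx⟩ := h2 (mem_top _)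
    have h4 : (g : K) * x * (g : K)⁻¹ = x := congrArg Subtype.val h3
    exact (mul_inv_eq_iff_eq_mul.mp h4).symm
  · intro h
    refine MulEquiv.ext fun y => ?_
    obtain ⟨x, rfl⟩ := QuotientGroup.mk_surjective y
    rw [autBar_mk, MulAut.one_apply]
    congr 1
    refine Subtype.ext ?_
    show (g : K) * (x : K) * (g : K)⁻¹ = x
    rw [← mem_centralizer_iff.mp h x x.2, mul_inv_cancel_right]

variable [Finite K]

/-- A group with trivial core, whose components are Suzuki modulo their centres, with a strongly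
closed elementary subgroup `A`. -/
structure Loc (T : Sylow 2 K) (A : Subgroup K) : Prop where
  elem : Cfsg.IsElementaryAbelian 2 A
  closed : Cfsg.IsStronglyClosed A (T : Subgroup K)
  core : Cfsg.oddCore K = ⊥
  comp : ∀ X : Subgroup K, Cfsg.IsComponent X → Cfsg.Lie.IsoSuzuki (X ⧸ center X)

/-- The image of `T ∩ X` in `X ⧸ Z(X)`. -/
abbrev pBar (T : Subgroup K) (X : Subgroup K) : Subgroup (X ⧸ center X) :=
  ((T ⊓ X).subgroupOf X).map (QuotientGroup.mk' (center X))

namespace Loc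

variable {T : Sylow 2 K} {A : Subgroup K} (L : Loc T A) {X : Subgroup K} (hX : Cfsg.IsComponent X)

include L hX

theorem perfect : commutator X = ⊤ := by
  have := hX.2.1
  exact Group.isPerfect_def.mp this

theorem sz : SzSyl (pBar (T : Subgroup K) X) := by
  haveI : Fact (Nat.Prime 2) := ⟨Nat.prime_two⟩
  exact szSyl_of_iso (L.comp X hX)
    ((sylowSub T hX.1).mapSurjective (QuotientGroup.mk'_surjective (center X)))

theorem nonabelian : ¬ IsMulCommutative (X ⧸ center X) := by
  intro h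
  have hs := L.sz hX
  have h1 : cen (pBar (T : Subgroup K) X) = ⊥ := by
    rw [← hs.comm, Subgroup.commutator_eq_bot_iff_le_centralizer]
    exact fun a _ => mem_centralizer_iff.mpr fun b _ => h.1.comm b a
  have h2 := hs.eight
  rw [h1, card_bot] at h2
  omega

theorem center_quot : center (X ⧸ center X) = ⊥ := by
  haveI := (L.sz hX).simple
  rcases (center (X ⧸ center X)).normal_of_characteristic.eq_bot_or_eq_top with h | h
  · exact h
  · exact absurd ⟨⟨fun a b => (Subgroup.mem_center_iff.mp (h ▸ mem_top b) a)⟩⟩ (L.nonabelian hX)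

theorem conj_injective : Function.Injective (MulAut.conj : (X ⧸ center X) → MulAut (X ⧸ center X)) := by
  intro r s h
  have h1 : s⁻¹ * r ∈ center (X ⧸ center X) := by
    rw [Subgroup.mem_center_iff]
    intro g
    have h2 : r * g * r⁻¹ = s * g * s⁻¹ := DFunLike.congr_fun h g
    calc g * (s⁻¹ * r) = s⁻¹ * (s * g * s⁻¹) * r := by group
      _ = s⁻¹ * (r * g * r⁻¹) * r := by rw [h2]
      _ = s⁻¹ * r * g := by group
  rw [L.center_quot hX, mem_bot, inv_mul_eq_one] at h1
  exact h1.symm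

theorem center_le : ∀ z ∈ center X, (z : K) ∈ (T : Subgroup K) := by
  haveI : Fact (Nat.Prime 2) := ⟨Nat.prime_two⟩
  have hp : IsPGroup 2 (center X) := by
    refine isPGroup_of_odd_trivial fun z hz ho => ?_
    have hn : (zpowers z).Normal :=
      ⟨fun y hy g => by
        obtain ⟨j, rfl⟩ := mem_zpowers_iff.mp hy
        rw [Subgroup.mem_center_iff.mp (zpow_mem hz j) g, mul_inv_cancel_right]
        exact zpow_mem (mem_zpowers z) j⟩
    have hsn : ((zpowers z).map X.subtype).IsSubnormal :=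
      (isSubnormal_map_subtype_iff hX.1).mpr hn.isSubnormal
    have hc : (Nat.card ((zpowers z).map X.subtype)).Coprime 2 := by
      rw [card_map_of_injective X.subtype_injective, Nat.card_zpowers]
      exact Nat.coprime_two_right.mpr ho
    have h1 := subnormal_coprime_le_pPrimeCore hsn hc (mem_map_of_mem _ (mem_zpowers z))
    have hcore : Cfsg.pPrimeCore 2 K = ⊥ := L.core
    rw [hcore, mem_bot] at h1
    exact Subtype.ext h1
  obtain ⟨Q, hQ⟩ := hp.exists_le_sylow
  obtain ⟨g, hg⟩ := MulAction.exists_smul_eq X Q (sylowSub T hX.1)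
  intro z hz
  rw [← mem_sylowSub T hX.1 z, ← hg, Sylow.coe_subgroup_smul,
    Subgroup.mem_pointwise_smul_iff_inv_smul_mem]
  have h2 : (MulAut.conj g)⁻¹ • z = z := by
    rw [← map_inv, MulAut.smul_def, MulAut.conj_apply, Subgroup.mem_center_iff.mp hz g⁻¹,
      mul_inv_cancel_right]
  rw [h2]
  exact hQ hz

theorem mem_T_iff (x : X) :
    (QuotientGroup.mk x : X ⧸ center X) ∈ pBar (T : Subgroup K) X ↔ (x : K) ∈ (T : Subgroup K) := by
  refine ⟨?_, fun h => ⟨x, ⟨h, x.2⟩, rfl⟩⟩
  rintro ⟨y, hy, he⟩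
  have h1 : y⁻¹ * x ∈ center X := QuotientGroup.eq.mp he
  have h2 := mul_mem (mem_inf.mp (mem_subgroupOf.mp hy)).1 (L.center_le hX _ h1)
  rwa [← Subgroup.coe_mul, mul_inv_cancel_left] at h2

theorem lift_normalizer {y : X ⧸ center X} (hy : y ∈ normalizer (pBar (T : Subgroup K) X : Set (X ⧸ center X))) :
    ∃ g : X, QuotientGroup.mk g = y ∧
      ∀ x ∈ (T : Subgroup K) ⊓ X, (g : K) * x * (g : K)⁻¹ ∈ (T : Subgroup K) ⊓ X := by
  obtain ⟨g, rfl⟩ := QuotientGroup.mk_surjective y
  refine ⟨g, rfl, fun x hx => mem_inf.mpr ⟨?_, mul_mem (mul_mem g.2 hx.2) (inv_mem g.2)⟩⟩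
  have h1 := (mem_normalizer_iff.mp hy _).mp ((L.mem_T_iff hX ⟨x, hx.2⟩).mpr hx.1)
  rw [← QuotientGroup.mk_inv, ← QuotientGroup.mk_mul, ← QuotientGroup.mk_mul] at h1
  exact (L.mem_T_iff hX _).mp h1

/-- `A` normalises every component. -/
theorem le_normalizer_comp : A ≤ normalizer (X : Set K) := by
  intro a ha
  apply mem_normalizer_iff_map_conj_eq.2
  set X' := X.map (MulAut.conj a).toMonoidHom with hX'
  by_contra hne
  have hX'c : Cfsg.IsComponent X' := isComponent_map_equiv (MulAut.conj a) hX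
  have hcom : ∀ x ∈ X, ∀ y ∈ X', x * y = y * x := fun x hx y hy =>
    (mem_centralizer_iff.mp (Subgroup.commutator_eq_bot_iff_le_centralizer.mp
      (components_commute hX hX'c fun e => hne e.symm) hx) y hy).symm
  -- commutators of `T ∩ X` are central in `X`
  have key : ∀ x ∈ (T : Subgroup K) ⊓ X, ∀ y ∈ (T : Subgroup K) ⊓ X, ∀ g ∈ X,
      Commute g (y⁻¹ * x⁻¹ * y * x) := by
    intro x hx y hy g hg
    have hu : ∀ z ∈ (T : Subgroup K) ⊓ X, a * z * a⁻¹ * z⁻¹ ∈ A := by
      intro z hz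
      have h1 : z * a⁻¹ * z⁻¹ ∈ A := L.closed.2 _ (inv_mem ha) z
        (mul_mem (mul_mem hz.1 (L.closed.1 (inv_mem ha))) (inv_mem hz.1))
      rw [show a * z * a⁻¹ * z⁻¹ = a * (z * a⁻¹ * z⁻¹) by group]
      exact mul_mem ha h1
    have hc := elem_comm L.elem (hu x hx) (hu y hy)
    have hx' : a * x * a⁻¹ ∈ X' := ⟨x, hx.2, rfl⟩
    have hy' : a * y * a⁻¹ ∈ X' := ⟨y, hy.2, rfl⟩
    generalize a * x * a⁻¹ = x' at hc hx'
    generalize a * y * a⁻¹ = y' at hc hy'
    have e : (y' * x')⁻¹ * (x' * y') = y⁻¹ * x⁻¹ * y * x := by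
      have h1 : x' * y' * (x⁻¹ * y⁻¹) = y' * x' * (y⁻¹ * x⁻¹) := by
        calc x' * y' * (x⁻¹ * y⁻¹) = x' * (y' * x⁻¹) * y⁻¹ := by group
          _ = x' * (x⁻¹ * y') * y⁻¹ := by rw [hcom x⁻¹ (inv_mem hx.2) y' hy']
          _ = x' * x⁻¹ * (y' * y⁻¹) := by group
          _ = y' * y⁻¹ * (x' * x⁻¹) := hc
          _ = y' * (y⁻¹ * x') * x⁻¹ := by group
          _ = y' * (x' * y⁻¹) * x⁻¹ := by rw [hcom y⁻¹ (inv_mem hy.2) x' hx']
          _ = y' * x' * (y⁻¹ * x⁻¹) := by group
      calc (y' * x')⁻¹ * (x' * y')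
          = (y' * x')⁻¹ * (x' * y' * (x⁻¹ * y⁻¹)) * (y * x) := by group
        _ = (y' * x')⁻¹ * (y' * x' * (y⁻¹ * x⁻¹)) * (y * x) := by rw [h1]
        _ = y⁻¹ * x⁻¹ * y * x := by group
    rw [← e]
    exact hcom g hg _ (mul_mem (inv_mem (mul_mem hy' hx')) (mul_mem hx' hy'))
  have hs := L.sz hX
  have h8 := hs.eight
  have hbot : cen (pBar (T : Subgroup K) X) = ⊥ := by
    rw [← hs.comm, eq_bot_iff, Subgroup.commutator_le]
    rintro _ ⟨x, hx, rfl⟩ _ ⟨y, hy, rfl⟩
    rw [mem_bot]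
    show QuotientGroup.mk' (center X) x * QuotientGroup.mk' (center X) y *
      (QuotientGroup.mk' (center X) x)⁻¹ * (QuotientGroup.mk' (center X) y)⁻¹ = 1
    rw [← map_inv, ← map_inv, ← map_mul, ← map_mul, ← map_mul]
    refine (QuotientGroup.eq_one_iff _).mpr (Subgroup.mem_center_iff.mpr fun g => Subtype.ext ?_)
    have h := key ((y : K)⁻¹) (inv_mem (mem_subgroupOf.mp hy)) ((x : K)⁻¹)
      (inv_mem (mem_subgroupOf.mp hx)) g g.2
    simpa [inv_inv] using h.eq
  rw [hbot, card_bot] at h8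
  omega

theorem commutator_mem {a p : K} (ha : a ∈ A) (hp : p ∈ (T : Subgroup K) ⊓ X) :
    a * p * a⁻¹ * p⁻¹ ∈ A ∧ a * p * a⁻¹ * p⁻¹ ∈ X := by
  refine ⟨?_, mul_mem ((mem_normalizer_iff.mp (L.le_normalizer_comp hX ha) p).mp hp.2) (inv_mem hp.2)⟩
  have h1 : p * a⁻¹ * p⁻¹ ∈ A := L.closed.2 _ (inv_mem ha) p
    (mul_mem (mul_mem hp.1 (L.closed.1 (inv_mem ha))) (inv_mem hp.1))
  rw [show a * p * a⁻¹ * p⁻¹ = a * (p * a⁻¹ * p⁻¹) by group]
  exact mul_mem ha h1

theorem mk_mem_cen {x : X} (hx : (x : K) ∈ A) :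
    (QuotientGroup.mk x : X ⧸ center X) ∈ cen (pBar (T : Subgroup K) X) := by
  refine (L.sz hX).sq _ ((L.mem_T_iff hX x).mpr (L.closed.1 hx)) ?_
  have h1 : x * x = 1 := Subtype.ext (sq_one L.elem hx)
  rw [← QuotientGroup.mk_mul, h1, QuotientGroup.mk_one]

/-- The decomposition of the elements of `A`. -/
theorem exists_decomp {a : K} (ha : a ∈ A) :
    ∃ r : X, (r : K) ∈ (T : Subgroup K) ∧
      (QuotientGroup.mk r : X ⧸ center X) ∈ cen (pBar (T : Subgroup K) X) ∧
      (r : K)⁻¹ * a ∈ centralizer (X : Set K) := by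
  have hs := L.sz hX
  set g : normalizer (X : Set K) := ⟨a, L.le_normalizer_comp hX ha⟩ with hg
  have hfix : ∀ z ∈ cen (pBar (T : Subgroup K) X), autBar X g z = z := by
    intro z hz
    rw [← hs.comm] at hz
    revert z hz
    show ⁅pBar (T : Subgroup K) X, pBar (T : Subgroup K) X⁆ ≤
      MonoidHom.eqLocus (autBar X g).toMonoidHom (MonoidHom.id _)
    rw [Subgroup.commutator_le]
    have hstep : ∀ x ∈ pBar (T : Subgroup K) X,
        ∃ z ∈ cen (pBar (T : Subgroup K) X), autBar X g x = z * x := by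
      rintro _ ⟨x, hx, rfl⟩
      obtain ⟨h1, h2⟩ := L.commutator_mem hX ha (mem_subgroupOf.mp hx)
      refine ⟨QuotientGroup.mk ⟨_, h2⟩, L.mk_mem_cen hX h1, ?_⟩
      rw [QuotientGroup.mk'_apply, autBar_mk, ← QuotientGroup.mk_mul]
      congr 1
      refine Subtype.ext ?_
      show a * (x : K) * a⁻¹ = a * x * a⁻¹ * (x : K)⁻¹ * x
      group
    intro x hx y hy
    show autBar X g ⁅x, y⁆ = ⁅x, y⁆
    obtain ⟨z, hz, hzx⟩ := hstep x hx
    obtain ⟨w, hw, hwy⟩ := hstep y hy
    have cz : ∀ p ∈ pBar (T : Subgroup K) X, p * z = z * p := fun p hp =>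
      mem_centralizer_iff.mp hz.2 p hp
    have cw : ∀ p ∈ pBar (T : Subgroup K) X, p * w = w * p := fun p hp =>
      mem_centralizer_iff.mp hw.2 p hp
    rw [commutatorElement_def, map_mul, map_mul, map_mul, map_inv, map_inv, hzx, hwy]
    calc z * x * (w * y) * (z * x)⁻¹ * (w * y)⁻¹
        = z * (x * (w * y) * x⁻¹ * z⁻¹) * y⁻¹ * w⁻¹ := by group
      _ = x * (w * y) * x⁻¹ * z⁻¹ * z * y⁻¹ * w⁻¹ := by
          rw [← cz _ (mul_mem (mul_mem (mul_mem hx (mul_mem hw.1 hy)) (inv_mem hx)) (inv_mem hz.1))]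
      _ = x * w * y * x⁻¹ * y⁻¹ * w⁻¹ := by group
      _ = w * (x * y * x⁻¹ * y⁻¹) * w⁻¹ := by rw [cw x hx]; group
      _ = x * y * x⁻¹ * y⁻¹ := by
          rw [← cw _ (mul_mem (mul_mem (mul_mem hx hy) (inv_mem hx)) (inv_mem hy)),
            mul_inv_cancel_right]
  obtain ⟨_, ⟨r, hr, rfl⟩, hre⟩ := hs.fix _ hfix
  rw [QuotientGroup.mk'_apply] at hre
  have hr2 : (QuotientGroup.mk r : X ⧸ center X) * QuotientGroup.mk r = 1 := by
    apply L.conj_injective hX
    rw [map_mul, ← hre, ← map_mul, show g * g = 1 from Subtype.ext (sq_one L.elem ha), map_one, map_one]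
  have hrP : (QuotientGroup.mk r : X ⧸ center X) ∈ pBar (T : Subgroup K) X := ⟨r, hr, rfl⟩
  refine ⟨r, (mem_inf.mp (mem_subgroupOf.mp hr)).1, hs.sq _ hrP hr2, ?_⟩
  have h : (⟨(r : K), le_normalizer r.2⟩ : normalizer (X : Set K))⁻¹ * g ∈ (autBar X).ker := by
    rw [MonoidHom.mem_ker, map_mul, map_inv, hre, autBar_of_mem X r.2, inv_mul_cancel]
  exact (autBar_eq_one (L.perfect hX) _).mp h

/-- The elements of `X` normalising `T ∩ X` normalise `A`. -/
theorem mem_normalizer_A {g : K} (hg : g ∈ X)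
    (hgP : ∀ x ∈ (T : Subgroup K) ⊓ X, g * x * g⁻¹ ∈ (T : Subgroup K) ⊓ X) :
    g ∈ normalizer (A : Set K) := by
  refine mem_normalizer_of_forall fun a ha => ?_
  obtain ⟨r, hrT, -, hc⟩ := L.exists_decomp hX ha
  refine L.closed.2 a ha g ?_
  have e : g * a * g⁻¹ = (g * (r : K) * g⁻¹) * ((r : K)⁻¹ * a) := by
    calc g * a * g⁻¹ = g * (r : K) * ((r : K)⁻¹ * a * g⁻¹) := by group
      _ = g * (r : K) * (g⁻¹ * ((r : K)⁻¹ * a)) := by
          rw [mem_centralizer_iff.mp hc g⁻¹ (inv_mem hg)]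
      _ = _ := by group
  rw [e]
  exact mul_mem (hgP r ⟨hrT, r.2⟩).1 (mul_mem (inv_mem hrT) (L.closed.1 ha))

/-- A moved component: `A ∩ X` covers the centre of the Sylow subgroup. -/
theorem exists_mem_A (hmv : ¬ A ≤ centralizer (X : Set K)) {y : X ⧸ center X}
    (hy : y ∈ cen (pBar (T : Subgroup K) X)) :
    ∃ x : X, (x : K) ∈ A ∧ QuotientGroup.mk x = y := by
  classical
  have hs := L.sz hX
  by_cases hy1 : y = 1
  · exact ⟨1, one_mem A, by rw [hy1, QuotientGroup.mk_one]⟩
  obtain ⟨a, ha, hac⟩ := SetLike.not_le_iff_exists.mp hmv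
  obtain ⟨r, hrT, hrz, hc⟩ := L.exists_decomp hX ha
  set rb : X ⧸ center X := QuotientGroup.mk r with hrb
  have hr1 : rb ≠ 1 := by
    intro h
    refine hac ?_
    have hrc : (r : K) ∈ centralizer (X : Set K) := mem_centralizer_iff.mpr fun x hx =>
      congrArg Subtype.val (Subgroup.mem_center_iff.mp ((QuotientGroup.eq_one_iff r).mp h) ⟨x, hx⟩)
    simpa using mul_mem hrc hc
  -- some conjugate of `rb` differs from it
  obtain ⟨z, hz, hz1, hzr⟩ : ∃ z ∈ cen (pBar (T : Subgroup K) X), z ≠ 1 ∧ z ≠ rb := by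
    by_contra hcon
    push Not at hcon
    haveI : Fintype (cen (pBar (T : Subgroup K) X)) := Fintype.ofFinite _
    have h2 : Nat.card (cen (pBar (T : Subgroup K) X)) ≤ 2 := by
      rw [Nat.card_eq_fintype_card, ← Finset.card_univ]
      refine le_trans (Finset.card_le_card (t := {1, ⟨rb, hrz⟩}) fun z _ => ?_) Finset.card_le_two
      rw [Finset.mem_insert, Finset.mem_singleton]
      by_cases h : (z : X ⧸ center X) = 1
      · exact Or.inl (Subtype.ext h)
      · exact Or.inr (Subtype.ext (hcon _ z.2 h))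
    have := hs.eight
    omega
  obtain ⟨g, hg, hge⟩ := hs.trans rb hrz hr1 z hz hz1
  obtain ⟨g, rfl, hgP⟩ := L.lift_normalizer hX hg
  -- the commutator of `g` and `a`
  have hgA : (g : K) * a * (g : K)⁻¹ * a⁻¹ ∈ A :=
    mul_mem ((mem_normalizer_iff.mp (L.mem_normalizer_A hX g.2 hgP) a).mp ha) (inv_mem ha)
  have he : (g : K) * a * (g : K)⁻¹ * a⁻¹ = ((g * r * g⁻¹ * r⁻¹ : X) : K) := by
    have h1 : (g : K) * a * (g : K)⁻¹ = (g : K) * r * (g : K)⁻¹ * ((r : K)⁻¹ * a) := by
      calc (g : K) * a * (g : K)⁻¹ = g * (r : K) * ((r : K)⁻¹ * a * (g : K)⁻¹) := by group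
        _ = g * (r : K) * ((g : K)⁻¹ * ((r : K)⁻¹ * a)) := by
            rw [mem_centralizer_iff.mp hc (g : K)⁻¹ (inv_mem g.2)]
        _ = _ := by group
    rw [h1]
    push_cast
    group
  rw [he] at hgA
  set i : X ⧸ center X := QuotientGroup.mk (g * r * g⁻¹ * r⁻¹) with hi
  have hi1 : i ≠ 1 := by
    rw [hi, QuotientGroup.mk_mul, QuotientGroup.mk_mul, QuotientGroup.mk_mul, QuotientGroup.mk_inv,
      QuotientGroup.mk_inv, hge, Ne, mul_inv_eq_one]
    exact hzr
  have hiz := L.mk_mem_cen hX hgA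
  obtain ⟨g', hg', hge'⟩ := hs.trans i hiz hi1 y hy hy1
  obtain ⟨g', rfl, hgP'⟩ := L.lift_normalizer hX hg'
  refine ⟨g' * (g * r * g⁻¹ * r⁻¹) * g'⁻¹, ?_, ?_⟩
  · exact (mem_normalizer_iff.mp (L.mem_normalizer_A hX g'.2 hgP') _).mp hgA
  · rw [QuotientGroup.mk_mul, QuotientGroup.mk_mul, QuotientGroup.mk_inv, ← hi, hge']

theorem card_A_le :
    Nat.card A ≤ Nat.card (cen (pBar (T : Subgroup K) X)) *
      Nat.card ↥(A ⊓ centralizer (X : Set K)) := by
  let φ : A →* MulAut (X ⧸ center X) :=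
    (autBar X).comp (inclusion (L.le_normalizer_comp hX))
  have hrange : (φ.range : Set (MulAut (X ⧸ center X))) ⊆
      ((cen (pBar (T : Subgroup K) X)).map MulAut.conj : Subgroup _) := by
    rintro _ ⟨a, rfl⟩
    obtain ⟨r, -, hrz, hc⟩ := L.exists_decomp hX a.2
    refine ⟨_, hrz, ?_⟩
    have h : autBar X ((⟨(r : K), le_normalizer r.2⟩ : normalizer (X : Set K))⁻¹ *
        inclusion (L.le_normalizer_comp hX) a) = 1 :=
      (autBar_eq_one (L.perfect hX) _).mpr hc
    rw [map_mul, map_inv, autBar_of_mem X r.2, inv_mul_eq_one] at h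
    exact h
  have h1 : Nat.card φ.range ≤ Nat.card (cen (pBar (T : Subgroup K) X)) := by
    refine le_trans (Subgroup.card_le_of_le hrange) ?_
    exact Nat.le_of_dvd Nat.card_pos (card_map_dvd _ _)
  have h2 : φ.ker.map A.subtype = A ⊓ centralizer (X : Set K) := by
    ext x
    constructor
    · rintro ⟨y, hy, rfl⟩
      exact ⟨y.2, (autBar_eq_one (L.perfect hX) _).mp (MonoidHom.mem_ker.mp hy)⟩
    · rintro ⟨hxA, hxc⟩
      exact ⟨⟨x, hxA⟩, MonoidHom.mem_ker.mpr ((autBar_eq_one (L.perfect hX) _).mpr hxc), rfl⟩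
  rw [← h2, card_map_of_injective A.subtype_injective, φ.ker.card_eq_card_quotient_mul_card_subgroup,
    Nat.card_congr (QuotientGroup.quotientKerEquivRange φ).toEquiv]
  exact Nat.mul_le_mul_right _ h1

theorem cen_le_card_A (hmv : ¬ A ≤ centralizer (X : Set K)) :
    Nat.card (cen (pBar (T : Subgroup K) X)) ≤ Nat.card A := by
  choose f hf hfe using fun y : cen (pBar (T : Subgroup K) X) => L.exists_mem_A hX hmv y.2
  exact Nat.card_le_card_of_injective (fun y => (⟨f y, hf y⟩ : A)) fun y z h => by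
    have h1 : ((f y : X) : K) = ((f z : X) : K) := congrArg (fun a : A => (a : K)) h
    have h' : f y = f z := Subtype.ext h1
    exact Subtype.ext (by rw [← hfe y, ← hfe z, h'])

end Loc

namespace Loc

variable {T : Sylow 2 K} {A : Subgroup K} (L : Loc T A)

include L

theorem inf_layer_le_centralizer
    (h : ∀ X : Subgroup K, Cfsg.IsComponent X → (T : Subgroup K) ⊓ X ≤ centralizer (A : Set K)) :
    (T : Subgroup K) ⊓ Cfsg.layer K ≤ centralizer (A : Set K) := by
  haveI : Fact (Nat.Prime 2) := ⟨Nat.prime_two⟩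
  have hfin : {X : Subgroup K | Cfsg.IsComponent X}.Finite := Set.toFinite _
  suffices H : ∀ s : Set (Subgroup K), s ⊆ {X : Subgroup K | Cfsg.IsComponent X} →
      (T : Subgroup K) ⊓ sSup s ≤ centralizer (A : Set K) from H _ subset_rfl
  intro s hs
  refine Set.Finite.induction_on_subset (motive := fun t _ =>
    (T : Subgroup K) ⊓ sSup t ≤ centralizer (A : Set K)) s (hfin.subset hs) ?_ ?_
  · rw [sSup_empty, inf_bot_eq]
    exact bot_le
  intro X t hX hts hXt ih
  have hXc : Cfsg.IsComponent X := hs hX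
  have hcent : sSup t ≤ centralizer (X : Set K) := sSup_le fun Y hY =>
    Subgroup.commutator_eq_bot_iff_le_centralizer.mp
      (components_commute (hs (hts hY)) hXc fun e => hXt (e ▸ hY))
  rw [sSup_insert]
  intro y hy
  obtain ⟨hyT, hyX⟩ := mem_inf.mp hy
  rw [sup_comm] at hyX
  have hyX' : y ∈ ((sSup t ⊔ X : Subgroup K) : Set K) := hyX
  rw [Subgroup.coe_mul_of_left_le_normalizer_right _ _ (hcent.trans (centralizer_le_normalizer _))] at hyX'
  obtain ⟨e, he, x, hx, hyex⟩ := hyX'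
  obtain rfl : e * x = y := hyex
  have hc : Commute e x := (mem_centralizer_iff.mp (hcent he) x hx).symm
  obtain ⟨k, hk⟩ := T.isPGroup' ⟨e * x, hyT⟩
  obtain ⟨n, l, hsplit, -, hx2⟩ := exists_two_split hc (congrArg Subtype.val hk)
  have hen : e ^ n ∈ sSup t := pow_mem he n
  have hxn : x ^ n ∈ X := pow_mem hx n
  have hxT : x ^ n ∈ (T : Subgroup K) := by
    have hN : (⟨x ^ n, hxn⟩ : X) ∈ normalizer ((sylowSub T hXc.1 : Subgroup X) : Set X) := by
      refine mem_normalizer_of_forall fun p hp => ?_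
      rw [mem_sylowSub] at hp ⊢
      have h1 : e * x * (p : K) * (e * x)⁻¹ = x ^ n * p * (x ^ n)⁻¹ := by
        rw [hsplit, show e ^ n * x ^ n * (p : K) * (e ^ n * x ^ n)⁻¹ =
          e ^ n * (x ^ n * p * (x ^ n)⁻¹) * (e ^ n)⁻¹ by group,
          ← mem_centralizer_iff.mp (hcent hen) _ (mul_mem (mul_mem hxn p.2) (inv_mem hxn)),
          mul_inv_cancel_right]
      show x ^ n * (p : K) * (x ^ n)⁻¹ ∈ (T : Subgroup K)
      rw [← h1]
      exact mul_mem (mul_mem hyT hp) (inv_mem hyT)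
    have hpg : IsPGroup 2 (zpowers (⟨x ^ n, hxn⟩ : X)) := by
      rintro ⟨z, hz⟩
      obtain ⟨j, rfl⟩ := mem_zpowers_iff.mp hz
      refine ⟨l, Subtype.ext ?_⟩
      rw [SubmonoidClass.coe_pow, OneMemClass.coe_one, ← zpow_natCast, ← zpow_mul, mul_comm, zpow_mul,
        zpow_natCast, show (⟨x ^ n, hxn⟩ : X) ^ 2 ^ l = 1 from Subtype.ext hx2, one_zpow]
    have h2 := (mem_inf (G := X)).mpr ⟨mem_zpowers _, hN⟩
    have h3 : zpowers (⟨x ^ n, hxn⟩ : X) ⊓ normalizer ((sylowSub T hXc.1 : Subgroup X) : Set X) =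
        zpowers (⟨x ^ n, hxn⟩ : X) ⊓ (sylowSub T hXc.1 : Subgroup X) :=
      hpg.inf_normalizer_sylow (sylowSub T hXc.1)
    rw [h3] at h2
    exact (mem_sylowSub T hXc.1 _).mp h2.2
  have heT : e ^ n ∈ (T : Subgroup K) := by
    have h3 := mul_mem hyT (inv_mem hxT)
    rwa [hsplit, mul_inv_cancel_right] at h3
  rw [hsplit]
  exact mul_mem (ih ⟨heT, hen⟩) (h X hXc ⟨hxT, hxn⟩)

/-- If `A` centralises the Sylow subgroup of every component then `K = E(K) N(A)`. -/
theorem layer_sup_normalizer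
    (h : ∀ X : Subgroup K, Cfsg.IsComponent X → (T : Subgroup K) ⊓ X ≤ centralizer (A : Set K)) :
    Cfsg.layer K ⊔ normalizer (A : Set K) = ⊤ := by
  haveI : Fact (Nat.Prime 2) := ⟨Nat.prime_two⟩
  haveI hEn : (Cfsg.layer K).Normal := layer_normal
  set P := (T : Subgroup K) ⊓ Cfsg.layer K with hP
  set H := centralizer (P : Set K) with hH
  have hAH : A ≤ H := le_centralizer_iff.mp (L.inf_layer_le_centralizer h)
  have hTN : (T : Subgroup K) ≤ normalizer (P : Set K) := fun t ht =>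
    mem_normalizer_of_forall fun x hx =>
      mem_inf.mpr ⟨mul_mem (mul_mem ht hx.1) (inv_mem ht), hEn.conj_mem x hx.2 t⟩
  have hNH : normalizer (P : Set K) ≤ normalizer (H : Set K) := fun g hg =>
    mem_normalizer_of_forall fun x hx => mem_centralizer_iff.mpr fun p hp => by
      have h1 := mem_centralizer_iff.mp hx (g⁻¹ * p * g) ((mem_normalizer_iff''.mp hg p).mp hp)
      calc p * (g * x * g⁻¹) = g * (g⁻¹ * p * g * x) * g⁻¹ := by group
        _ = g * (x * (g⁻¹ * p * g)) * g⁻¹ := by rw [h1]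
        _ = g * x * g⁻¹ * p := by group
  set Q := (Cfsg.pCore 2 H).map H.subtype with hQ
  have hNQ : normalizer (P : Set K) ≤ normalizer (Q : Set K) := fun g hg =>
    mem_normalizer_of_forall fun x hx => by
      obtain ⟨y, hy, rfl⟩ := hx
      set e := H.normalizerMonoidHom ⟨g, hNH hg⟩
      have h1 : e y ∈ Cfsg.pCore 2 H := pCore_map_le 2 e ⟨y, hy, rfl⟩
      exact ⟨e y, h1, rfl⟩
  have hQp : IsPGroup 2 Q := (pCore_isPGroup 2).map _
  have hQT : Q ≤ (T : Subgroup K) := by
    have h1 : IsPGroup 2 ((T : Subgroup K) ⊔ Q : Subgroup K) :=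
      IsPGroup.to_sup_of_normal_right' T.isPGroup' hQp (hTN.trans hNQ)
    rw [← T.is_maximal' h1 le_sup_left]
    exact le_sup_right
  -- `C_H(O₂(H))` is a 2-group
  have hcon : centralizer (Cfsg.pCore 2 H : Set H) ≤ Cfsg.pCore 2 H := by
    haveI : (Cfsg.pCore 2 H).Normal := pCore_normal 2
    refine le_pCore inferInstance (isPGroup_of_odd_trivial fun y hy hyo => ?_)
    have hcomp : ∀ X : Subgroup K, Cfsg.IsComponent X → (y : K) ∈ centralizer (X : Set K) := by
      intro X hX
      have hfix : ∀ p ∈ (T : Subgroup K) ⊓ X, (y : K) * p * (y : K)⁻¹ = p := fun p hp => by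
        rw [← mem_centralizer_iff.mp y.2 p ⟨hp.1, le_layer hX hp.2⟩, mul_inv_cancel_right]
      have hyN : (y : K) ∈ normalizer (X : Set K) := by
        apply mem_normalizer_iff_map_conj_eq.2
        by_contra hne
        set X' := X.map (MulAut.conj (y : K)).toMonoidHom with hX'
        have hcom := Subgroup.commutator_eq_bot_iff_le_centralizer.mp
          (components_commute (isComponent_map_equiv (MulAut.conj (y : K)) hX) hX hne)
        have h8 := (L.sz hX).eight
        have hbot : pBar (T : Subgroup K) X = ⊥ := by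
          rw [eq_bot_iff]
          rintro _ ⟨p, hp, rfl⟩
          rw [mem_bot, QuotientGroup.mk'_apply, QuotientGroup.eq_one_iff, Subgroup.mem_center_iff]
          intro g
          refine Subtype.ext ?_
          have hpX' : (p : K) ∈ X' := ⟨p, p.2, hfix p (mem_subgroupOf.mp hp)⟩
          exact mem_centralizer_iff.mp (hcom hpX') g g.2
        have h1 : cen (pBar (T : Subgroup K) X) = ⊥ := by rw [cen, hbot, bot_inf_eq]
        rw [h1, card_bot] at h8
        omega
      obtain ⟨p, hp, hpe⟩ := (L.sz hX).fix (autBar X ⟨y, hyN⟩) (by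
        rintro z ⟨⟨x, hx, rfl⟩, -⟩
        rw [QuotientGroup.mk'_apply, autBar_mk]
        congr 1
        exact Subtype.ext (hfix x (mem_subgroupOf.mp hx)))
      refine (autBar_eq_one (L.perfect hX) ⟨y, hyN⟩).mp ?_
      have hP2 : IsPGroup 2 (pBar (T : Subgroup K) X) :=
        ((T.isPGroup'.to_le inf_le_left).comap_subtype (H := (T : Subgroup K) ⊓ X) (K := X)).map _
      obtain ⟨k, hk⟩ := hP2 ⟨p, hp⟩
      refine orderOf_eq_one_of_two_of_odd (k := k) ?_ ?_
      · rw [hpe, ← map_pow, show p ^ 2 ^ k = 1 from congrArg Subtype.val hk, map_one]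
      · refine Odd.of_dvd_nat ?_ (orderOf_map_dvd (autBar X) _)
        rw [← Subgroup.orderOf_coe]
        exact (Subgroup.orderOf_coe y).symm ▸ hyo
    have hO2 : (y : K) ∈ centralizer (Cfsg.pCore 2 K : Set K) := by
      rw [mem_centralizer_iff]
      intro z hz
      have hzH : z ∈ H := by
        have h1 : Cfsg.layer K ≤ centralizer (Cfsg.fittingSubgroup K : Set K) :=
          Subgroup.commutator_eq_bot_iff_le_centralizer.mp layer_commutes_fitting
        exact mem_centralizer_iff.mpr fun p hp =>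
          (mem_centralizer_iff.mp (h1 hp.2) z (pCore_le_fitting 2 hz)).symm
      haveI := pCore_normal (G := K) 2
      have h2 : (⟨z, hzH⟩ : H) ∈ Cfsg.pCore 2 H :=
        le_pCore (p := 2) (inferInstance : ((Cfsg.pCore 2 K).subgroupOf H).Normal)
          ((pCore_isPGroup 2).comap_subtype) (mem_subgroupOf.mpr hz)
      exact congrArg Subtype.val (mem_centralizer_iff.mp hy _ h2)
    have hFs : (y : K) ∈ centralizer (Cfsg.generalizedFittingSubgroup K : Set K) := by
      rw [mem_centralizer_iff]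
      intro z hz
      have hle : Cfsg.generalizedFittingSubgroup K ≤ centralizer ({(y : K)} : Set K) := by
        refine sup_le (layer_le_iff.mpr fun X hX x hx => ?_) ?_
        · exact mem_centralizer_singleton_iff.mpr (mem_centralizer_iff.mp (hcomp X hX) x hx)
        · rw [fitting_eq_pCore_of_core_bot (p := 2) L.core]
          exact fun x hx => mem_centralizer_singleton_iff.mpr (mem_centralizer_iff.mp hO2 x hx)
      exact mem_centralizer_singleton_iff.mp (hle hz)
    haveI := gFitting_normal (G := K)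
    set F := Cfsg.generalizedFittingSubgroup K
    have hab : IsMulCommutative ↥(centralizer (F : Set K)) := ⟨⟨fun a b => Subtype.ext
      (mem_centralizer_iff.mp b.2 a (centralizer_gFitting_le a.2))⟩⟩
    have h4 : centralizer (F : Set K) ≤ Cfsg.fittingSubgroup K :=
      le_fitting inferInstance (by
        letI : CommGroup ↥(centralizer (F : Set K)) :=
          { (inferInstance : Group ↥(centralizer (F : Set K))) with mul_comm := hab.1.comm }
        exact inferInstance)
    have h5 := h4 hFs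
    rw [fitting_eq_pCore_of_core_bot (p := 2) L.core] at h5
    exact Subtype.ext (eq_one_of_odd (pCore_isPGroup 2) h5 ((Subgroup.orderOf_coe y).symm ▸ hyo))
  -- the key lemma
  have hAQ : A ≤ Q := by
    have h1 : A.subgroupOf H ≤ Cfsg.pCore 2 H := by
      refine le_pCore_of_closed hcon (T := (T : Subgroup K).subgroupOf H) ?_ ?_
        fun x hx => hQT ⟨x, hx, rfl⟩
      · exact ⟨⟨⟨fun a b => Subtype.ext (Subtype.ext (elem_comm L.elem a.2 b.2))⟩⟩,
          fun a ha => Subtype.ext (L.elem.2 _ ha)⟩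
      · exact ⟨fun x hx => L.closed.1 hx, fun x hx g hg => L.closed.2 _ hx g hg⟩
    exact fun a ha => ⟨⟨a, hAH ha⟩, h1 (mem_subgroupOf.mpr ha), rfl⟩
  have hNA : normalizer (P : Set K) ≤ normalizer (A : Set K) := fun g hg =>
    mem_normalizer_of_forall fun a ha =>
      L.closed.2 a ha g (hQT ((mem_normalizer_iff.mp (hNQ hg) a).mp (hAQ ha)))
  rw [eq_top_iff]
  have hF := Sylow.normalizer_sup_eq_top (sylowSub T hEn.isSubnormal)
  rw [map_sylowSub, sup_comm] at hF
  rw [← hF]
  exact sup_le_sup_left hNA _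

theorem inf_layer_centralizer_normal
    (h : ∀ X : Subgroup K, Cfsg.IsComponent X → (T : Subgroup K) ⊓ X ≤ centralizer (A : Set K)) :
    (A ⊓ centralizer (Cfsg.layer K : Set K)).Normal := by
  haveI hEn : (Cfsg.layer K).Normal := layer_normal
  refine ⟨fun x hx g => ?_⟩
  have hg : g ∈ normalizer ((A ⊓ centralizer (Cfsg.layer K : Set K) : Subgroup K) : Set K) := by
    have htop : g ∈ Cfsg.layer K ⊔ normalizer (A : Set K) := L.layer_sup_normalizer h ▸ mem_top g
    refine (show Cfsg.layer K ⊔ normalizer (A : Set K) ≤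
      normalizer ((A ⊓ centralizer (Cfsg.layer K : Set K) : Subgroup K) : Set K) from sup_le ?_ ?_) htop
    · exact le_trans (fun e he => mem_centralizer_iff.mpr fun y hy =>
        (mem_centralizer_iff.mp hy.2 e he).symm) (centralizer_le_normalizer _)
    · intro n hn
      refine mem_normalizer_of_forall fun y hy => ⟨(mem_normalizer_iff.mp hn y).mp hy.1, ?_⟩
      exact (inferInstance : (centralizer (Cfsg.layer K : Set K)).Normal).conj_mem y hy.2 n
  exact (mem_normalizer_iff.mp hg x).mp hx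

end Loc

end CfsgLib.ThreePrime.Comp
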