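import Cfsg.Agent.Lib.ThreePrime.Base
import Cfsg.Agent.Lib.ThreePrime.Comp.Loc
import Cfsg.Agent.Lib.Signalizer.Involutions
import Cfsg.Agent.Lib.PLocal.PConstrained

/-!
Owner: helper13. Passing to the quotient by the core.
-/

set_option autoImplicit false
set_option linter.style.haveILetI false

namespace CfsgLib.ThreePrime.Comp

open Subgroup

universe u

theorem odd_oddCore (H : Type u) [Group H] [Finite H] : Odd (Nat.card (Cfsg.oddCore H)) :=
  Nat.coprime_two_right.mp (CfsgLib.Core.coprime_card_pPrimeCore 2 H)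

variable {H : Type u} [Group H] [Finite H]

/-- The projection modulo the core is injective on 2-subgroups. -/
theorem eq_one_of_mk {U : Subgroup H} (hU : IsPGroup 2 U) {x : H} (hx : x ∈ U)
    (h : QuotientGroup.mk' (Cfsg.oddCore H) x = 1) : x = 1 :=
  eq_one_of_odd hU hx ((odd_oddCore H).of_dvd_nat
    (Subgroup.orderOf_dvd_natCard _ ((QuotientGroup.eq_one_iff _).mp h)))

theorem mk_injOn {U : Subgroup H} (hU : IsPGroup 2 U) {x y : H} (hx : x ∈ U) (hy : y ∈ U)
    (h : QuotientGroup.mk' (Cfsg.oddCore H) x = QuotientGroup.mk' (Cfsg.oddCore H) y) : x = y :=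
  inv_mul_eq_one.mp (eq_one_of_mk hU (mul_mem (inv_mem hx) hy)
    (by rw [map_mul, map_inv, h, inv_mul_cancel]))

theorem elem_map {H' : Type*} [Group H'] (f : H →* H') {D : Subgroup H} (hD : Cfsg.IsElementaryAbelian 2 D) :
    Cfsg.IsElementaryAbelian 2 (D.map f) := by
  refine ⟨⟨⟨?_⟩⟩, ?_⟩
  · rintro ⟨_, x, hx, rfl⟩ ⟨_, y, hy, rfl⟩
    refine Subtype.ext ?_
    show f x * f y = f y * f x
    rw [← map_mul, ← map_mul, elem_comm hD hx hy]
  · rintro _ ⟨x, hx, rfl⟩
    rw [← map_pow, hD.2 _ hx, map_one]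

/-- Strong closure passes to the quotient by the core. -/
theorem closed_map {U D : Subgroup H} (hU : IsPGroup 2 U) (hD : Cfsg.IsElementaryAbelian 2 D)
    (hcl : Cfsg.IsStronglyClosed D U) :
    Cfsg.IsStronglyClosed (D.map (QuotientGroup.mk' (Cfsg.oddCore H)))
      (U.map (QuotientGroup.mk' (Cfsg.oddCore H))) := by
  set π := QuotientGroup.mk' (Cfsg.oddCore H)
  refine ⟨map_mono hcl.1, ?_⟩
  rintro _ ⟨x, hx, rfl⟩ k hk
  obtain ⟨g, rfl⟩ := QuotientGroup.mk'_surjective _ k
  obtain ⟨t, ht, hte⟩ := hk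
  by_cases hx1 : x = 1
  · rw [hx1, map_one, mul_one, mul_inv_cancel]
    exact one_mem _
  set z := g * x * g⁻¹ with hz
  have hze : π t = π z := by rw [hz, map_mul, map_mul, map_inv]; exact hte
  have hxo : orderOf x = 2 := Signalizer.orderOf_eq_two_of hx1 (sq_one hD hx)
  have hzo : orderOf z = 2 := by rw [hz, Signalizer.orderOf_conj, hxo]
  have hz2 : z * z = 1 := Signalizer.involution_sq hzo
  have ht2 : t * t = 1 :=
    eq_one_of_mk hU (mul_mem ht ht) (by rw [map_mul, hze, ← map_mul, hz2, map_one])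
  have ht1 : t ≠ 1 := by
    intro e
    rw [e, map_one] at hze
    have h1 := (odd_oddCore H).of_dvd_nat
      (Subgroup.orderOf_dvd_natCard _ ((QuotientGroup.eq_one_iff _).mp hze.symm))
    rw [hzo] at h1
    exact Nat.not_odd_iff_even.mpr even_two h1
  have hto : orderOf t = 2 := Signalizer.orderOf_eq_two_of ht1 ht2
  have hodd : Odd (orderOf (z * t)) := by
    refine (odd_oddCore H).of_dvd_nat (Subgroup.orderOf_dvd_natCard _ ?_)
    rw [← QuotientGroup.eq_one_iff]
    show π (z * t) = 1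
    rw [map_mul, hze, ← map_mul, hz2, map_one]
  obtain ⟨d, -, hde⟩ := Signalizer.exists_conj_of_odd hzo hto hodd
  have e : t = (d * g) * x * (d * g)⁻¹ := by rw [← hde, hz]; group
  have hmem := hcl.2 x hx (d * g) (e ▸ ht)
  rw [← e] at hmem
  exact ⟨t, hmem, hte⟩

theorem loc_quot (T : Sylow 2 H) {D : Subgroup H} (hD : Cfsg.IsElementaryAbelian 2 D)
    (hcl : Cfsg.IsStronglyClosed D (T : Subgroup H))
    (hcomp : ∀ X : Subgroup (H ⧸ Cfsg.oddCore H), Cfsg.IsComponent X → Cfsg.Lie.IsoSuzuki (X ⧸ center X))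
    (Tq : Sylow 2 (H ⧸ Cfsg.oddCore H))
    (hTq : (Tq : Subgroup (H ⧸ Cfsg.oddCore H)) = (T : Subgroup H).map (QuotientGroup.mk' _)) :
    Loc Tq (D.map (QuotientGroup.mk' (Cfsg.oddCore H))) :=
  ⟨elem_map _ hD, hTq ▸ closed_map T.isPGroup' hD hcl,
    CfsgLib.Core.pPrimeCore_quotient_pPrimeCore 2 _, hcomp⟩

omit [Finite H] in
/-- The components of a proper section are Suzuki groups modulo their centres. -/
theorem isoSuzuki_of_proper {G : Type u} [Group G] [Finite G] (h : Hyp G) {C : Subgroup G} (hC : C ≠ ⊤)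
    (N : Subgroup C) [N.Normal] {X : Subgroup (C ⧸ N)} (hX : Cfsg.IsComponent X) :
    Cfsg.Lie.IsoSuzuki (X ⧸ center X) := by
  haveI := hX.2.2
  have hd : Nat.card (X ⧸ center X) ∣ Nat.card C :=
    (card_quotient_dvd_card _).trans ((card_subgroup_dvd_card X).trans (card_quotient_dvd_card _))
  refine h.small _ inferInstance ?_ (fun h3 => h.three (h3.trans (hd.trans (card_subgroup_dvd_card _)))) ?_
  · intro hcomm
    have h1 : commutator (X ⧸ center X) = ⊥ := by
      rw [_root_.commutator_def, Subgroup.commutator_eq_bot_iff_le_centralizer]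
      exact fun x _ => mem_centralizer_iff.mpr fun y _ => hcomm.1.comm y x
    have h2 : commutator (X ⧸ center X) = ⊤ := by
      have h3 := Subgroup.map_commutator (⊤ : Subgroup X) ⊤ (QuotientGroup.mk' (center X))
      have h4 : commutator X = ⊤ := Group.isPerfect_def.mp hX.2.1
      rw [← _root_.commutator_def, h4, Subgroup.map_top_of_surjective _ (QuotientGroup.mk'_surjective _),
        ← _root_.commutator_def] at h3
      exact h3.symm
    haveI : Nontrivial (X ⧸ center X) := IsSimpleGroup.toNontrivial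
    exact top_ne_bot (h2.symm.trans h1)
  · refine lt_of_le_of_lt (Nat.le_of_dvd Nat.card_pos hd) ?_
    exact lt_of_le_of_ne (card_le_card_group _) fun e => hC (eq_top_of_card_eq _ e)

end CfsgLib.ThreePrime.Comp
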