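import Cfsg.Agent.Lib.ThreePrime.Comp.Basic
import Cfsg.Agent.Lib.ThreePrime.Comp.SzFacts

/-!
Owner: helper13. Splittings of a Sylow 2-subgroup of `C(A)` with a factor like the Sylow subgroup of a
Suzuki group: two of them have equal or orthogonal parts in `A`.
-/

set_option autoImplicit false
set_option linter.style.haveILetI false

namespace CfsgLib.ThreePrime.Comp

open Subgroup
open scoped commutatorElement

universe u

variable {G : Type u} [Group G]

/-- `R = P × C` is a maximal 2-subgroup of `C(A)`, `Z = Z(P) = P'` and `A = Z B`, `B = A ∩ C`. -/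
structure SplitData (A R P C Z B : Subgroup G) : Prop where
  cent : R ≤ centralizer (A : Set G)
  pgroup : IsPGroup 2 R
  maximal : ∀ Q : Subgroup G, IsPGroup 2 Q → R ≤ Q → Q ≤ centralizer (A : Set G) → Q = R
  le_P : P ≤ R
  le_C : C ≤ R
  comm : ∀ p ∈ P, ∀ c ∈ C, p * c = c * p
  disj : ∀ x ∈ P, x ∈ C → x = 1
  gen : ∀ r ∈ R, ∃ p ∈ P, ∃ c ∈ C, r = p * c
  cen_eq : cen P = Z
  derived : ⁅P, P⁆ = Z
  centr : ∀ w ∈ P, w ∉ Z → ∀ v ∈ P, Commute v w → v ∈ Z ∨ v * w⁻¹ ∈ Z
  Z_le : Z ≤ A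
  eight : 8 ≤ Nat.card Z
  B_eq : B = A ⊓ C
  A_le : ∀ a ∈ A, ∃ z ∈ Z, ∃ b ∈ B, a = z * b

/-- `Z` and `B` are the parts in `A` of some splitting. -/
def Split (A Z B : Subgroup G) : Prop := ∃ R P C : Subgroup G, SplitData A R P C Z B

namespace SplitData

variable {A R P C Z B : Subgroup G} (h : SplitData A R P C Z B)

include h

theorem Z_le_P : Z ≤ P := h.cen_eq ▸ inf_le_left

theorem B_le : B ≤ A := h.B_eq ▸ inf_le_left

theorem decomp_unique {p p' c c' : G} (hp : p ∈ P) (hp' : p' ∈ P) (hc : c ∈ C) (hc' : c' ∈ C)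
    (e : p * c = p' * c') : p = p' ∧ c = c' := by
  have h1 : p'⁻¹ * p = c' * c⁻¹ := by
    calc p'⁻¹ * p = p'⁻¹ * (p * c) * c⁻¹ := by group
      _ = p'⁻¹ * (p' * c') * c⁻¹ := by rw [e]
      _ = c' * c⁻¹ := by group
  have h2 := h.disj _ (mul_mem (inv_mem hp') hp) (h1 ▸ mul_mem hc' (inv_mem hc))
  rw [inv_mul_eq_one] at h2
  subst h2
  exact ⟨rfl, mul_left_cancel e⟩

theorem comm_mul {p p' c c' : G} (hp' : p' ∈ P) (hc : c ∈ C) :
    p * c * (p' * c') = p * p' * (c * c') := by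
  calc p * c * (p' * c') = p * (c * p') * c' := by group
    _ = p * (p' * c) * c' := by rw [h.comm p' hp' c hc]
    _ = p * p' * (c * c') := by group

theorem commute_of_commute {p p' c c' : G} (hp : p ∈ P) (hp' : p' ∈ P) (hc : c ∈ C) (hc' : c' ∈ C)
    (e : p * c * (p' * c') = p' * c' * (p * c)) : p * p' = p' * p ∧ c * c' = c' * c := by
  rw [h.comm_mul hp' hc, h.comm_mul hp hc'] at e
  exact h.decomp_unique (mul_mem hp hp') (mul_mem hp' hp) (mul_mem hc hc') (mul_mem hc' hc) e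

theorem Z_ne_bot : Z ≠ ⊥ := fun e => by
  have := h.eight
  rw [e, card_bot] at this
  omega

theorem Z_inf_B {x : G} (hz : x ∈ Z) (hb : x ∈ B) : x = 1 :=
  h.disj x (h.Z_le_P hz) (h.B_eq ▸ hb).2

theorem Z_comm {z p : G} (hz : z ∈ Z) (hp : p ∈ P) : z * p = p * z :=
  (mem_centralizer_iff.mp (h.cen_eq ▸ hz : z ∈ cen P).2 p hp).symm

theorem mem_inf_iff {x : G} (hxA : x ∈ A) : x ∈ P ↔ x ∈ Z := by
  refine ⟨fun hx => ?_, fun hx => h.Z_le_P hx⟩
  obtain ⟨z, hz, b, hb, rfl⟩ := h.A_le x hxA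
  have hb' : b ∈ P := by
    have := mul_mem (inv_mem (h.Z_le_P hz)) hx
    rwa [inv_mul_cancel_left] at this
  rw [h.disj b hb' (h.B_eq ▸ hb).2, mul_one]
  exact hz

/-- The part of `R` whose `P`-component is central. -/
theorem mem_zc {r : G} (hr : r ∈ R) (hP : ∀ p ∈ P, ∀ c ∈ C, r = p * c → p ∈ Z) :
    ∃ z ∈ Z, ∃ c ∈ C, r = z * c := by
  obtain ⟨p, hp, c, hc, e⟩ := h.gen r hr
  exact ⟨p, hP p hp c hc e, c, hc, e⟩

end SplitData

/-- The first projection of `C'` is central, for the second splitting. -/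
def Small (Z C C' : Subgroup G) : Prop := ∀ r ∈ C', ∃ z ∈ Z, ∃ c ∈ C, r = z * c

variable {A R P C Z B P' C' Z' B' : Subgroup G}

theorem small_or_orth (h : SplitData A R P C Z B) (h' : SplitData A R P' C' Z' B') :
    Small Z C C' ∨ (Small Z C P' ∧ Z' ≤ B) := by
  by_cases hP' : Small Z C P'
  · refine Or.inr ⟨hP', ?_⟩
    rw [h.B_eq]
    refine le_inf h'.Z_le ?_
    rw [← h'.derived, Subgroup.commutator_le]
    intro x hx y hy
    obtain ⟨z, hz, c, hc, rfl⟩ := hP' x hx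
    obtain ⟨w, hw, d, hd, rfl⟩ := hP' y hy
    have hcz : ∀ c ∈ C, z * c = c * z := fun c hc => h.comm z (h.Z_le_P hz) c hc
    have hcw : ∀ c ∈ C, w * c = c * w := fun c hc => h.comm w (h.Z_le_P hw) c hc
    have hzw : z * w = w * z := h.Z_comm hz (h.Z_le_P hw)
    have e1 : z * c * (w * d) = z * w * (c * d) := h.comm_mul (h.Z_le_P hw) hc
    have e2 : w * d * (z * c) = z * w * (d * c) := by rw [h.comm_mul (h.Z_le_P hz) hd, hzw]
    have e3 : ⁅z * c, w * d⁆ = c * d * (d * c)⁻¹ := by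
      calc ⁅z * c, w * d⁆ = z * c * (w * d) * (w * d * (z * c))⁻¹ := by
            rw [commutatorElement_def]; group
        _ = z * w * (c * d * (d * c)⁻¹) * (z * w)⁻¹ := by rw [e1, e2]; group
        _ = c * d * (d * c)⁻¹ := by
            rw [h.comm _ (mul_mem (h.Z_le_P hz) (h.Z_le_P hw)) _
              (mul_mem (mul_mem hc hd) (inv_mem (mul_mem hd hc))), mul_inv_cancel_right]
    rw [e3]
    exact mul_mem (mul_mem hc hd) (inv_mem (mul_mem hd hc))
  refine Or.inl ?_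
  by_contra hC'
  unfold Small at hP' hC'
  push Not at hP' hC'
  obtain ⟨p0, hp0, hp0'⟩ := hP'
  obtain ⟨d0, hd0, hd0'⟩ := hC'
  obtain ⟨x, hx, c, hc, rfl⟩ := h.gen p0 (h'.le_P hp0)
  obtain ⟨y, hy, e, he, rfl⟩ := h.gen d0 (h'.le_C hd0)
  have hxZ : x ∉ Z := fun hh => hp0' x hh c hc rfl
  have hyZ : y ∉ Z := fun hh => hd0' y hh e he rfl
  -- every element of `R` centralises `x`
  have hxy : x * y = y * x := (h.commute_of_commute hx hy hc he (h'.comm _ hp0 _ hd0)).1
  have hall : ∀ r ∈ R, r * x = x * r := by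
    intro r hr
    obtain ⟨p, hp, d, hd, rfl⟩ := h'.gen r hr
    obtain ⟨x1, hx1, c1, hc1, rfl⟩ := h.gen p (h'.le_P hp)
    obtain ⟨y1, hy1, e1, he1, rfl⟩ := h.gen d (h'.le_C hd)
    have h2 : x * y1 = y1 * x := (h.commute_of_commute hx hy1 hc he1 (h'.comm _ hp0 _ hd)).1
    have h1 : x1 * x = x * x1 := by
      have h3 : x1 * y = y * x1 := (h.commute_of_commute hx1 hy hc1 he (h'.comm _ hp _ hd0)).1
      rcases h.centr y hy hyZ x1 hx1 h3 with hz | hz
      · exact h.Z_comm hz hx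
      · rcases h.centr y hy hyZ x hx hxy with hz' | hz'
        · exact absurd hz' hxZ
        · calc x1 * x = (x1 * y⁻¹) * (y * (x * y⁻¹)) * y := by group
            _ = (x1 * y⁻¹) * ((x * y⁻¹) * y) * y := by rw [h.Z_comm hz' hy]
            _ = ((x1 * y⁻¹) * (x * y⁻¹)) * y * y := by group
            _ = ((x * y⁻¹) * (x1 * y⁻¹)) * y * y := by
                rw [h.Z_comm hz (h.Z_le_P hz')]
            _ = (x * y⁻¹) * ((x1 * y⁻¹) * y) * y := by group
            _ = (x * y⁻¹) * (y * (x1 * y⁻¹)) * y := by rw [h.Z_comm hz hy]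
            _ = x * x1 := by group
    have hcx : ∀ c ∈ C, c * x = x * c := fun c hc => (h.comm x hx c hc).symm
    calc x1 * c1 * (y1 * e1) * x = x1 * c1 * y1 * (e1 * x) := by group
      _ = x1 * c1 * (y1 * x) * e1 := by rw [hcx e1 he1]; group
      _ = x1 * (c1 * x) * y1 * e1 := by rw [← h2]; group
      _ = (x1 * x) * c1 * y1 * e1 := by rw [hcx c1 hc1]; group
      _ = x * (x1 * c1 * (y1 * e1)) := by rw [h1]; group
  refine hxZ (h.cen_eq ▸ ⟨hx, mem_centralizer_iff.mpr fun p hp => hall p (h.le_P hp)⟩)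

/-- Two splittings of one Sylow subgroup. -/
theorem eq_or_orth (h : SplitData A R P C Z B) (h' : SplitData A R P' C' Z' B') :
    Z = Z' ∨ (Z' ≤ B ∧ Z ≤ B') := by
  -- a mixed pair of conditions is impossible
  have hmixed : ∀ {P C Z B P' C' Z' B' : Subgroup G}, SplitData A R P C Z B →
      SplitData A R P' C' Z' B' → Small Z C C' → Small Z' C' P → False := by
    intro P C Z B P' C' Z' B' h h' h1 h2
    refine h.Z_ne_bot ?_
    rw [← h.derived, Subgroup.commutator_eq_bot_iff_le_centralizer]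
    intro x hx
    rw [mem_centralizer_iff]
    intro y hy
    obtain ⟨z, hz, c, hc, exc⟩ := h2 x hx
    obtain ⟨w, hw, d, hd, eyd⟩ := h2 y hy
    -- the commutator lies in `P` and is a commutator of elements of `C'`
    have e1 : y * x * (x * y)⁻¹ = d * c * (c * d)⁻¹ := by
      rw [exc, eyd]
      have e1 : w * d * (z * c) = w * z * (d * c) := h'.comm_mul (h'.Z_le_P hz) hd
      have e2 : z * c * (w * d) = w * z * (c * d) := by
        rw [h'.comm_mul (h'.Z_le_P hw) hc, h'.Z_comm hz (h'.Z_le_P hw)]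
      rw [e1, e2]
      calc w * z * (d * c) * (w * z * (c * d))⁻¹
          = w * z * (d * c * (c * d)⁻¹) * (w * z)⁻¹ := by group
        _ = d * c * (c * d)⁻¹ := by
            rw [h'.comm _ (mul_mem (h'.Z_le_P hw) (h'.Z_le_P hz)) _
              (mul_mem (mul_mem hd hc) (inv_mem (mul_mem hc hd))), mul_inv_cancel_right]
    -- which lies in `C`
    obtain ⟨u, hu, a, ha, rfl⟩ := h1 c hc
    obtain ⟨v, hv, b, hb, rfl⟩ := h1 d hd
    have e2 : v * b * (u * a) * (u * a * (v * b))⁻¹ = b * a * (a * b)⁻¹ := by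
      rw [h.comm_mul (h.Z_le_P hu) hb, h.comm_mul (h.Z_le_P hv) ha, ← h.Z_comm hv (h.Z_le_P hu)]
      calc v * u * (b * a) * (v * u * (a * b))⁻¹ = v * u * (b * a * (a * b)⁻¹) * (v * u)⁻¹ := by group
        _ = b * a * (a * b)⁻¹ := by
            rw [h.comm _ (mul_mem (h.Z_le_P hv) (h.Z_le_P hu)) _
              (mul_mem (mul_mem hb ha) (inv_mem (mul_mem ha hb))), mul_inv_cancel_right]
    rw [e2] at e1
    have h3 := h.disj _ (mul_mem (mul_mem hy hx) (inv_mem (mul_mem hx hy)))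
      (e1 ▸ mul_mem (mul_mem hb ha) (inv_mem (mul_mem ha hb)))
    exact mul_inv_eq_one.mp h3
  -- both conditions give equality
  have hsub : ∀ {P C Z B P' C' Z' B' : Subgroup G}, SplitData A R P C Z B →
      SplitData A R P' C' Z' B' → Small Z' C' C → Z' ≤ Z := by
    intro P C Z B P' C' Z' B' h h' h2
    rw [← h'.derived, ← h.derived, Subgroup.commutator_le]
    intro p hp q hq
    obtain ⟨x, hx, c, hc, rfl⟩ := h.gen p (h'.le_P hp)
    obtain ⟨y, hy, d, hd, rfl⟩ := h.gen q (h'.le_P hq)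
    obtain ⟨z, hz, a, ha, rfl⟩ := h2 c hc
    obtain ⟨w, hw, b, hb, rfl⟩ := h2 d hd
    -- `y` commutes with `z a`
    have hab : a * b = b * a := by
      have e0 : y * (z * a) = z * a * y := h.comm y hy _ hc
      have ey : y = (y * (w * b)) * w⁻¹ * b⁻¹ := by
        calc y = y * (w * b) * (b⁻¹ * w⁻¹) := by group
          _ = _ := by rw [← h'.comm _ (inv_mem (h'.Z_le_P hw)) _ (inv_mem hb)]; group
      rw [ey] at e0
      have := (h'.commute_of_commute (mul_mem hq (inv_mem (h'.Z_le_P hw))) (h'.Z_le_P hz) (inv_mem hb) ha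
        e0).2
      calc a * b = b * (b⁻¹ * a) * b := by group
        _ = b * (a * b⁻¹) * b := by rw [this]
        _ = b * a := by group
    have hcd : z * a * (w * b) = w * b * (z * a) := by
      rw [h'.comm_mul (h'.Z_le_P hw) ha, h'.comm_mul (h'.Z_le_P hz) hb,
        h'.Z_comm hz (h'.Z_le_P hw), hab]
    have e : ⁅x * (z * a), y * (w * b)⁆ = ⁅x, y⁆ := by
      have e1 := h.comm_mul (p := x) (c' := w * b) hy hc
      have e2 := h.comm_mul (p := y) (c' := z * a) hx hd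
      rw [← hcd] at e2
      calc ⁅x * (z * a), y * (w * b)⁆
          = x * (z * a) * (y * (w * b)) * (y * (w * b) * (x * (z * a)))⁻¹ := by
            rw [commutatorElement_def]; group
        _ = ⁅x, y⁆ := by rw [e1, e2, commutatorElement_def]; group
    rw [e]
    exact Subgroup.commutator_mem_commutator hx hy
  rcases small_or_orth h h' with h1 | ⟨h1, h1'⟩
  · rcases small_or_orth h' h with h2 | ⟨h2, -⟩
    · exact Or.inl (le_antisymm (hsub h' h h1) (hsub h h' h2))
    · exact (hmixed h h' h1 h2).elim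
  · rcases small_or_orth h' h with h2 | ⟨-, h2'⟩
    · exact (hmixed h' h h2 h1).elim
    · exact Or.inr ⟨h1', h2'⟩

theorem SplitData.map {R P C Z B : Subgroup G} (h : SplitData A R P C Z B) (g : G) :
    SplitData (A.map (MulAut.conj g).toMonoidHom) (R.map (MulAut.conj g).toMonoidHom)
      (P.map (MulAut.conj g).toMonoidHom) (C.map (MulAut.conj g).toMonoidHom)
      (Z.map (MulAut.conj g).toMonoidHom) (B.map (MulAut.conj g).toMonoidHom) := by
  set e := MulAut.conj g with he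
  have hm : ∀ (Q : Subgroup G) (z : G), e z ∈ Q.map e.toMonoidHom ↔ z ∈ Q := fun Q z =>
    Subgroup.mem_map_iff_mem (f := e.toMonoidHom) e.injective
  have hcm : ∀ Q : Subgroup G, (centralizer (Q : Set G)).map e.toMonoidHom =
      centralizer ((Q.map e.toMonoidHom : Subgroup G) : Set G) := fun Q => by
    ext y
    obtain ⟨x, rfl⟩ := e.surjective y
    rw [hm]
    simp only [mem_centralizer_iff, SetLike.mem_coe]
    refine ⟨fun h p hp => ?_, fun h p hp => e.injective ?_⟩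
    · obtain ⟨p, rfl⟩ := e.surjective p
      rw [← map_mul, ← map_mul, h p ((hm Q p).mp hp)]
    · rw [map_mul, map_mul]; exact h _ ((hm Q p).mpr hp)
  refine
    { cent := hcm A ▸ map_mono h.cent, pgroup := h.pgroup.map _, maximal := ?_
      le_P := map_mono h.le_P, le_C := map_mono h.le_C
      comm := ?_, disj := ?_, gen := ?_
      cen_eq := by rw [cen_map, h.cen_eq]
      derived := by rw [← map_commutator, h.derived]
      centr := ?_
      Z_le := map_mono h.Z_le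
      eight := by rw [card_map_of_injective e.injective]; exact h.eight
      B_eq := by rw [h.B_eq, map_inf _ _ _ e.injective]
      A_le := ?_ }
  · intro Q hQ hRQ hQA
    have h1 := h.maximal (Q.comap e.toMonoidHom) (hQ.comap_of_injective _ e.injective)
      (map_le_iff_le_comap.mp hRQ) (fun x hx => (hm _ x).mp (hcm A ▸ hQA hx))
    rw [← h1, map_comap_eq_self_of_surjective e.surjective]
  · rintro _ ⟨p, hp, rfl⟩ _ ⟨c, hc, rfl⟩
    rw [← map_mul, ← map_mul, h.comm p hp c hc]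
  · rintro _ ⟨p, hp, rfl⟩ hxC
    rw [h.disj p hp ((hm C p).mp hxC), map_one]
  · rintro _ ⟨r, hr, rfl⟩
    obtain ⟨p, hp, c, hc, rfl⟩ := h.gen r hr
    exact ⟨e p, (hm P p).mpr hp, e c, (hm C c).mpr hc, map_mul e.toMonoidHom p c⟩
  · rintro _ ⟨w, hw, rfl⟩ hwZ _ ⟨v, hv, rfl⟩ hvw
    refine (h.centr w hw (fun hh => hwZ ((hm Z w).mpr hh)) v hv
      (e.injective (by rw [map_mul, map_mul]; exact hvw.eq))).imp (hm Z v).mpr fun h2 => ?_
    exact ⟨_, h2, by rw [map_mul, map_inv]⟩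
  · rintro _ ⟨a, ha, rfl⟩
    obtain ⟨z, hz, b, hb, rfl⟩ := h.A_le a ha
    exact ⟨e z, (hm Z z).mpr hz, e b, (hm B b).mpr hb, map_mul e.toMonoidHom z b⟩

variable [Finite G]

theorem Split.eq_or_orth {A Z B Z' B' : Subgroup G} (h : Split A Z B) (h' : Split A Z' B') :
    Z = Z' ∨ (Z' ≤ B ∧ Z ≤ B') := by
  obtain ⟨R, P, C, h⟩ := h
  obtain ⟨R', P', C', h'⟩ := h'
  haveI : Fact (Nat.Prime 2) := ⟨Nat.prime_two⟩
  -- both `R` and `R'` are Sylow subgroups of `C(A)`
  set N := centralizer (A : Set G)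
  obtain ⟨T, hT⟩ := (h.pgroup.comap_subtype (K := N)).exists_le_sylow
  obtain ⟨T', hT'⟩ := (h'.pgroup.comap_subtype (K := N)).exists_le_sylow
  have hR : (T : Subgroup N).map N.subtype = R :=
    h.maximal _ (T.isPGroup'.map _) (fun x hx => ⟨⟨x, h.cent hx⟩, hT hx, rfl⟩) (map_subtype_le _)
  have hR' : (T' : Subgroup N).map N.subtype = R' :=
    h'.maximal _ (T'.isPGroup'.map _) (fun x hx => ⟨⟨x, h'.cent hx⟩, hT' hx, rfl⟩) (map_subtype_le _)
  obtain ⟨n, hn⟩ := MulAction.exists_smul_eq N T' T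
  have hfix : ∀ Q ≤ A, Q.map (MulAut.conj (n : G)).toMonoidHom = Q := by
    intro Q hQ
    have hx : ∀ x ∈ Q, (n : G) * x * (n : G)⁻¹ = x := fun x hx => by
      rw [← mem_centralizer_iff.mp n.2 x (hQ hx), mul_inv_cancel_right]
    ext y
    constructor
    · rintro ⟨x, hx', rfl⟩
      show (n : G) * x * (n : G)⁻¹ ∈ Q
      rwa [hx x hx']
    · exact fun hy => ⟨y, hy, hx y hy⟩
  have hmove : R'.map (MulAut.conj (n : G)).toMonoidHom = R := by
    rw [← hR, ← hR', ← hn, Sylow.coe_subgroup_smul]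
    ext y
    constructor
    · rintro ⟨_, ⟨x, hx, rfl⟩, rfl⟩
      exact ⟨n * x * n⁻¹, Subgroup.smul_mem_pointwise_smul x (MulAut.conj n) _ hx, rfl⟩
    · rintro ⟨z, hz, rfl⟩
      rw [SetLike.mem_coe, Subgroup.mem_pointwise_smul_iff_inv_smul_mem] at hz
      refine ⟨_, ⟨_, hz, rfl⟩, ?_⟩
      simp [MulAut.smul_def, mul_assoc]
  have h'' := h'.map (n : G)
  rw [hfix A le_rfl, hmove, hfix Z' h'.Z_le, hfix B' h'.B_le] at h''
  exact Comp.eq_or_orth h h''

end CfsgLib.ThreePrime.Comp
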