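import Cfsg.Agent.Lib.ThreePrime.Comp.Moved
import Cfsg.Agent.Lib.ThreePrime.Comp.Quot
import Cfsg.Agent.Lib.ThreePrime.Comp.Offend
import Cfsg.Agent.Lib.ThreePrime.Comp.Split
import Cfsg.Agent.Lib.Core.Coprime
import Cfsg.Agent.Lib.Transfer.Conj
import Cfsg.Agent.Lib.Signalizer.Involutions
import Cfsg.Agent.Lib.PLocal.PConstrained

/-!
Owner: helper13. The centraliser of an element of `A` modulo its core.
-/

set_option autoImplicit false
set_option linter.style.haveILetI false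
set_option linter.unusedSectionVars false

namespace CfsgLib.ThreePrime.Comp

open Subgroup

universe u

variable {G : Type u} [Group G]

/-- `C(a)` modulo its core. -/
abbrev Kq (a : G) : Type u := ↥(centralizer ({a} : Set G)) ⧸ Cfsg.oddCore ↥(centralizer ({a} : Set G))

/-- The projection onto `C(a)` modulo its core. -/
abbrev piK (a : G) : ↥(centralizer ({a} : Set G)) →* Kq a := QuotientGroup.mk' _

/-- The image of `A`. -/
abbrev AK (A : Subgroup G) (a : G) : Subgroup (Kq a) :=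
  (A.subgroupOf (centralizer ({a} : Set G))).map (piK a)

/-- The preimage in `G` of a subgroup of `C(a)` modulo its core. -/
abbrev low (a : G) (Y : Subgroup (Kq a)) : Subgroup G :=
  (Y.comap (piK a)).map (centralizer ({a} : Set G)).subtype

theorem le_cent {A : Subgroup G} (hA : Cfsg.IsElementaryAbelian 2 A) {a : G} (ha : a ∈ A) :
    A ≤ centralizer ({a} : Set G) :=
  fun _ hx => mem_centralizer_singleton_iff.mpr (elem_comm hA hx ha)

theorem mem_low {a x : G} {Y : Subgroup (Kq a)} :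
    x ∈ low a Y ↔ ∃ hx : x ∈ centralizer ({a} : Set G), piK a ⟨x, hx⟩ ∈ Y := by
  constructor
  · rintro ⟨y, hy, rfl⟩; exact ⟨y.2, hy⟩
  · rintro ⟨hx, hy⟩; exact ⟨⟨x, hx⟩, hy, rfl⟩

variable [Finite G]

theorem core_le_W0 {A : Subgroup G} {a : G} (ha : a ∈ A) (ha1 : a ≠ 1) : core a ≤ W0 A :=
  le_iSup (fun b : {b : G // b ∈ A ∧ b ≠ 1} => core (b : G)) ⟨a, ha, ha1⟩

theorem mem_core_of_piK {a x : G} (hx : x ∈ centralizer ({a} : Set G)) (h : piK a ⟨x, hx⟩ = 1) :
    x ∈ core a := ⟨⟨x, hx⟩, (QuotientGroup.eq_one_iff _).mp h, rfl⟩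

/-- The projection is injective on 2-subgroups. -/
theorem eq_one_of_piK {a : G} (T : Sylow 2 ↥(centralizer ({a} : Set G))) {x : centralizer ({a} : Set G)}
    (hx : x ∈ (T : Subgroup ↥(centralizer ({a} : Set G)))) (h : piK a x = 1) : x = 1 :=
  eq_one_of_mk T.isPGroup' hx h

theorem piK_injOn {a : G} (T : Sylow 2 ↥(centralizer ({a} : Set G))) {x y : centralizer ({a} : Set G)}
    (hx : x ∈ (T : Subgroup ↥(centralizer ({a} : Set G)))) (hy : y ∈ (T : Subgroup ↥(centralizer ({a} : Set G))))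
    (h : piK a x = piK a y) : x = y :=
  inv_mul_eq_one.mp (eq_one_of_piK T (mul_mem (inv_mem hx) hy) (by rw [map_mul, map_inv, h, inv_mul_cancel]))

/-- The image of `T`. -/
noncomputable abbrev TK {a : G} (T : Sylow 2 ↥(centralizer ({a} : Set G))) : Sylow 2 (Kq a) :=
  haveI : Fact (Nat.Prime 2) := ⟨Nat.prime_two⟩
  T.mapSurjective (QuotientGroup.mk'_surjective _)

variable {S : Sylow 2 G} {A : Subgroup G}

/-- A maximal 2-subgroup of `C(A)`. -/
structure MaxTwo (A R : Subgroup G) : Prop where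
  cent : R ≤ centralizer (A : Set G)
  pgroup : IsPGroup 2 R
  maximal : ∀ Q : Subgroup G, IsPGroup 2 Q → R ≤ Q → Q ≤ centralizer (A : Set G) → Q = R

theorem MaxTwo.le {R : Subgroup G} (h : MaxTwo A R) (hA : Cfsg.IsElementaryAbelian 2 A) : A ≤ R := by
  haveI : Fact (Nat.Prime 2) := ⟨Nat.prime_two⟩
  have h1 : IsPGroup 2 (R ⊔ A : Subgroup G) :=
    IsPGroup.to_sup_of_normal_right' h.pgroup (isPGroup_elem hA)
      (h.cent.trans (centralizer_le_normalizer _))
  have h2 := h.maximal _ h1 le_sup_left (sup_le h.cent (le_centralizer_self hA))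
  rw [← h2]
  exact le_sup_right

theorem exists_maxTwo (A : Subgroup G) : ∃ R : Subgroup G, MaxTwo A R := by
  haveI : Fact (Nat.Prime 2) := ⟨Nat.prime_two⟩
  set N := centralizer (A : Set G)
  have T : Sylow 2 N := Classical.choice inferInstance
  refine ⟨(T : Subgroup N).map N.subtype, map_subtype_le _, T.isPGroup'.map _, fun Q hQ hle hQN => ?_⟩
  have h1 := T.is_maximal' (hQ.comap_subtype (K := N)) (fun x hx => hle ⟨x, hx, rfl⟩)
  rw [← h1]
  exact (map_subgroupOf_eq_of_le hQN).symm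

theorem exists_sylow_ge (hA : Cfsg.IsElementaryAbelian 2 A) {a : G} (ha : a ∈ A) {R : Subgroup G}
    (hR : MaxTwo A R) :
    ∃ T : Sylow 2 ↥(centralizer ({a} : Set G)),
      R.subgroupOf (centralizer ({a} : Set G)) ≤ (T : Subgroup ↥(centralizer ({a} : Set G))) ∧
        A.subgroupOf (centralizer ({a} : Set G)) ≤ (T : Subgroup ↥(centralizer ({a} : Set G))) := by
  obtain ⟨T, hT⟩ := (hR.pgroup.comap_subtype (K := centralizer ({a} : Set G))).exists_le_sylow
  exact ⟨T, hT, fun x hx => hT (hR.le hA hx)⟩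

variable (hs : Setting S A) {a : G} (ha : a ∈ A) (ha1 : a ≠ 1)

include hs ha ha1

theorem centralizer_ne_top : centralizer ({a} : Set G) ≠ ⊤ := by
  intro h
  haveI := hs.hyp.simple
  have hc : a ∈ center G := Subgroup.mem_center_iff.mpr fun g =>
    mem_centralizer_singleton_iff.mp (h ▸ mem_top g)
  rcases IsSimpleGroup.eq_bot_or_eq_top_of_normal (center G) inferInstance with h1 | h1
  · rw [h1, mem_bot] at hc; exact ha1 hc
  · exact hs.hyp.nonab ⟨⟨fun x y => Subgroup.mem_center_iff.mp (h1 ▸ mem_top y) x⟩⟩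

theorem isoSuzuki_of_component {X : Subgroup (Kq a)} (hX : Cfsg.IsComponent X) :
    Cfsg.Lie.IsoSuzuki (X ⧸ center X) :=
  isoSuzuki_of_proper hs.hyp (centralizer_ne_top hs ha ha1) _ hX

section WithSylow

variable (T : Sylow 2 ↥(centralizer ({a} : Set G)))
  (hT : A.subgroupOf (centralizer ({a} : Set G)) ≤ (T : Subgroup ↥(centralizer ({a} : Set G))))

include hT

theorem conj_mem_A {t : centralizer ({a} : Set G)} (ht : t ∈ (T : Subgroup ↥(centralizer ({a} : Set G))))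
    {x : G} (hx : x ∈ A) : (t : G) * x * (t : G)⁻¹ ∈ A := by
  have hC := le_cent hs.elem ha
  have hcl : Cfsg.IsStronglyClosed A
      ((T : Subgroup ↥(centralizer ({a} : Set G))).map (centralizer ({a} : Set G)).subtype) :=
    closed_mono hs.closed (fun x hx => ⟨⟨x, hC hx⟩, hT (mem_subgroupOf.mpr hx), rfl⟩)
      (T.isPGroup'.map _)
  exact hcl.2 x hx t ⟨t * ⟨x, hC hx⟩ * t⁻¹, mul_mem (mul_mem ht (hT (mem_subgroupOf.mpr hx))) (inv_mem ht), rfl⟩

theorem commute_iff {t : centralizer ({a} : Set G)} (ht : t ∈ (T : Subgroup ↥(centralizer ({a} : Set G)))) :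
    piK a t ∈ centralizer (AK A a : Set (Kq a)) ↔ (t : G) ∈ centralizer (A : Set G) := by
  have hC := le_cent hs.elem ha
  rw [mem_centralizer_iff, mem_centralizer_iff]
  constructor
  · intro h x hx
    set y : centralizer ({a} : Set G) := ⟨x, hC hx⟩
    have hy : y ∈ (T : Subgroup ↥(centralizer ({a} : Set G))) := hT (mem_subgroupOf.mpr hx)
    have h1 := piK_injOn T (mul_mem hy ht) (mul_mem ht hy)
      (by rw [map_mul, map_mul]; exact h _ ⟨y, mem_subgroupOf.mpr hx, rfl⟩)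
    exact congrArg Subtype.val h1
  · rintro h _ ⟨y, hy, rfl⟩
    rw [← map_mul, ← map_mul]
    congr 1
    exact Subtype.ext (h y hy)

theorem loc : Loc (TK T) (AK A a) := by
  have hC := le_cent hs.elem ha
  refine loc_quot T ⟨⟨⟨fun x y => Subtype.ext (Subtype.ext (elem_comm hs.elem x.2 y.2))⟩⟩,
    fun x hx => Subtype.ext (hs.elem.2 _ hx)⟩ ⟨hT, fun x hx g hg => ?_⟩
    (fun X hX => isoSuzuki_of_component hs ha ha1 hX) (TK T) rfl
  have hcl : Cfsg.IsStronglyClosed A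
      ((T : Subgroup ↥(centralizer ({a} : Set G))).map (centralizer ({a} : Set G)).subtype) :=
    closed_mono hs.closed (fun x hx => ⟨⟨x, hC hx⟩, hT (mem_subgroupOf.mpr hx), rfl⟩)
      (T.isPGroup'.map _)
  exact hcl.2 _ hx g ⟨_, hg, rfl⟩

/-- `A` centralises the Sylow subgroup of every component. -/
theorem centralP {X : Subgroup (Kq a)} (hX : Cfsg.IsComponent X) :
    (TK T : Subgroup (Kq a)) ⊓ X ≤ centralizer (AK A a : Set (Kq a)) := by
  haveI : Fact (Nat.Prime 2) := ⟨Nat.prime_two⟩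
  have L := loc hs ha ha1 T hT
  have hC := le_cent hs.elem ha
  by_cases hmv : AK A a ≤ centralizer (X : Set (Kq a))
  · exact le_trans inf_le_right (le_centralizer_iff.mp hmv)
  have hsz := L.sz hX
  set Pb := pBar (TK T : Subgroup (Kq a)) X with hPb
  -- every element of `T ∩ X` off the centre centralises `A` or none does
  by_contra hnot
  have hkey : ∀ x : X, (x : Kq a) ∈ (TK T : Subgroup (Kq a)) →
      (x : Kq a) ∈ centralizer (AK A a : Set (Kq a)) → QuotientGroup.mk x ∈ cen Pb := by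
    intro x hxT hxA
    by_contra hxz
    refine hnot fun y hy => ?_
    obtain ⟨hyT, hyX⟩ := mem_inf.mp hy
    set y' : X := ⟨y, hyX⟩ with hy'
    by_cases hyz : (QuotientGroup.mk y' : X ⧸ center X) ∈ cen Pb
    · exact mem_centralizer_iff.mpr fun b hb => (L.commute_of_mem_cen hX hyz hb).symm
    obtain ⟨t, ht, w, -, -, -, htr⟩ := hsz.torus
    obtain ⟨g, rfl, hgP⟩ := L.lift_normalizer hX ht
    obtain ⟨i, hi⟩ := htr _ (L.mk_mem_pBar hX hxT) hxz _ (L.mk_mem_pBar hX (x := y') hyT) hyz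
    rw [← QuotientGroup.mk_pow, ← QuotientGroup.mk_inv, ← QuotientGroup.mk_inv,
      ← QuotientGroup.mk_mul, ← QuotientGroup.mk_mul, ← QuotientGroup.mk_mul] at hi
    set d := g ^ i * x * (g ^ i)⁻¹ * y'⁻¹ with hd
    have hgN : (g : Kq a) ^ i ∈ normalizer (AK A a : Set (Kq a)) :=
      pow_mem (L.mem_normalizer_A hX g.2 hgP) i
    have h1 : ((g ^ i * x * (g ^ i)⁻¹ : X) : Kq a) ∈ centralizer (AK A a : Set (Kq a)) := by
      refine mem_centralizer_iff.mpr fun b hb => ?_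
      have h := mem_centralizer_iff.mp hxA _ ((mem_normalizer_iff''.mp hgN b).mp hb)
      push_cast
      calc b * ((g : Kq a) ^ i * x * ((g : Kq a) ^ i)⁻¹)
          = (g : Kq a) ^ i * (((g : Kq a) ^ i)⁻¹ * b * (g : Kq a) ^ i * x) * ((g : Kq a) ^ i)⁻¹ := by group
        _ = (g : Kq a) ^ i * (x * (((g : Kq a) ^ i)⁻¹ * b * (g : Kq a) ^ i)) * ((g : Kq a) ^ i)⁻¹ := by rw [h]
        _ = _ := by group
    have h2 : (d : Kq a) ∈ centralizer (AK A a : Set (Kq a)) :=
      mem_centralizer_iff.mpr fun b hb => (L.commute_of_mem_cen hX hi hb).symm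
    have e : y = (((d : X))⁻¹ * (g ^ i * x * (g ^ i)⁻¹) : X) := by
      rw [hd, hy']; push_cast; group
    rw [e]
    exact mul_mem (inv_mem h2) h1
  -- the group `R0` of `T` over `T ∩ X`
  set R' := (T : Subgroup ↥(centralizer ({a} : Set G))) ⊓ X.comap (piK a) with hR'
  set R0 := R'.map (centralizer ({a} : Set G)).subtype with hR0
  have hmemX : ∀ r : R', piK a r ∈ X := fun r => (mem_inf.mp r.2).2
  have hmemT : ∀ r : R', piK a r ∈ (TK T : Subgroup (Kq a)) := fun r => ⟨r, (mem_inf.mp r.2).1, rfl⟩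
  let ψ : R' →* Pb := MonoidHom.mk'
    (fun r => ⟨QuotientGroup.mk (⟨piK a r, hmemX r⟩ : X), L.mk_mem_pBar hX (hmemT r)⟩)
    (fun r s => Subtype.ext (by
      show (QuotientGroup.mk (⟨piK a (r * s : R'), hmemX _⟩ : X) : X ⧸ center X) =
        QuotientGroup.mk (⟨piK a r, hmemX r⟩ : X) * QuotientGroup.mk (⟨piK a s, hmemX s⟩ : X)
      rw [← QuotientGroup.mk_mul]
      rfl))
  have hψ : Function.Surjective ψ := by
    rintro ⟨_, x, hx, rfl⟩
    obtain ⟨hxT, -⟩ := mem_inf.mp (mem_subgroupOf.mp hx)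
    obtain ⟨t, ht, hte⟩ := hxT
    have htX : piK a t ∈ X := by rw [hte]; exact x.2
    exact ⟨⟨t, mem_inf.mpr ⟨ht, htX⟩⟩,
      Subtype.ext (congrArg QuotientGroup.mk (Subtype.ext hte))⟩
  have hkerψ : ((centralizer (A : Set G)).subgroupOf R0).comap
      (R'.equivMapOfInjective _ (centralizer ({a} : Set G)).subtype_injective).toMonoidHom =
        ((cen Pb).subgroupOf Pb).comap ψ := by
    ext r
    show ((r : centralizer ({a} : Set G)) : G) ∈ centralizer (A : Set G) ↔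
      (QuotientGroup.mk (⟨piK a r, hmemX r⟩ : X) : X ⧸ center X) ∈ cen Pb
    rw [← commute_iff hs ha ha1 T hT (mem_inf.mp r.2).1]
    exact ⟨fun h => hkey _ (hmemT r) h,
      fun h => mem_centralizer_iff.mpr fun b hb => (L.commute_of_mem_cen hX h hb).symm⟩
  have hindex : ((centralizer (A : Set G)).subgroupOf R0).index = Nat.card (cen Pb) := by
    have h1 := congrArg Subgroup.index hkerψ
    rw [index_comap_of_surjective _ hψ, index_comap_of_surjective _ (MulEquiv.surjective _)] at h1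
    rw [h1]
    exact L.index_cen hX
  have hN : R0 ≤ normalizer (A : Set G) := by
    rintro _ ⟨r, hr, rfl⟩
    exact mem_normalizer_of_forall fun x hx => conj_mem_A hs ha ha1 T hT (mem_inf.mp hr).1 hx
  have hsq : ∀ x ∈ R0, x * x ∈ centralizer (A : Set G) := by
    rintro _ ⟨r, hr, rfl⟩
    obtain ⟨hrT, hrX⟩ := mem_inf.mp hr
    show ((r * r : centralizer ({a} : Set G)) : G) ∈ _
    rw [← commute_iff hs ha ha1 T hT (mul_mem hrT hrT)]
    have h1 : (QuotientGroup.mk (⟨piK a r, hrX⟩ * ⟨piK a r, hrX⟩ : X) : X ⧸ center X) ∈ cen Pb := by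
      rw [QuotientGroup.mk_mul]; exact L.sq_mem_cen hX (L.mk_mem_pBar hX ⟨r, hrT, rfl⟩)
    refine mem_centralizer_iff.mpr fun b hb => ?_
    rw [map_mul]
    exact (L.commute_of_mem_cen hX h1 hb).symm
  have hbound := hs.offender_le R0 hN hsq
  rw [hindex] at hbound
  have hcA : Nat.card (AK A a) = Nat.card A := by
    refine (Nat.card_eq_of_bijective (fun x : A => (⟨piK a ⟨x, hC x.2⟩, ⟨_, x.2, rfl⟩⟩ : AK A a))
      ⟨fun x y e => ?_, ?_⟩).symm
    · have h1 := piK_injOn T (x := ⟨x, hC x.2⟩) (y := ⟨y, hC y.2⟩) (hT x.2) (hT y.2)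
        (congrArg Subtype.val e)
      exact Subtype.ext (congrArg (fun z : centralizer ({a} : Set G) => (z : G)) h1)
    · rintro ⟨_, x, hx, rfl⟩
      exact ⟨⟨x, hx⟩, rfl⟩
  have hle : Nat.card ↥(AK A a ⊓ centralizer (X : Set (Kq a))) ≤ Nat.card ↥(A ⊓ centralizer (R0 : Set G)) := by
    have hlift : ∀ y : ↥(AK A a ⊓ centralizer (X : Set (Kq a))), ∃ x : ↥(A ⊓ centralizer (R0 : Set G)),
        piK a ⟨x, hC x.2.1⟩ = (y : Kq a) := by
      rintro ⟨_, ⟨x, hx, rfl⟩, hc⟩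
      refine ⟨⟨x, hx, mem_centralizer_iff.mpr ?_⟩, rfl⟩
      rintro _ ⟨r, hr, rfl⟩
      obtain ⟨hrT, hrX⟩ := mem_inf.mp hr
      exact congrArg Subtype.val (piK_injOn T (mul_mem hrT (hT hx)) (mul_mem (hT hx) hrT)
        (by rw [map_mul, map_mul]; exact mem_centralizer_iff.mp hc _ hrX))
    choose f hf using hlift
    refine Nat.card_le_card_of_injective f fun y z e => Subtype.ext ?_
    rw [← hf y, ← hf z]
    congr 1
    exact Subtype.ext (congrArg (fun x : ↥(A ⊓ centralizer (R0 : Set G)) => (x : G)) e)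
  have h1 := L.card_A_le hX
  rw [hcA] at h1
  set q := Nat.card (cen Pb)
  set m := Nat.card ↥(AK A a ⊓ centralizer (X : Set (Kq a)))
  have hm : 0 < m := Nat.card_pos
  have h2 : q ^ 2 * m ≤ q * m := le_trans (le_trans (Nat.mul_le_mul_left _ hle) hbound) h1
  have h3 := Nat.le_of_mul_le_mul_right h2 hm
  have h8 : 8 ≤ q := hsz.eight
  nlinarith

theorem center_eq_bot_of_moved {X : Subgroup (Kq a)} (hX : Cfsg.IsComponent X)
    (hmv : ¬ AK A a ≤ centralizer (X : Set (Kq a))) : center X = ⊥ :=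
  (loc hs ha ha1 T hT).center_eq_bot hX (centralP hs ha ha1 T hT hX) hmv

end WithSylow

/-- A subgroup containing the core, `N(A)` and the preimages of the components contains `C(a)`. -/
theorem cent_le_of {M : Subgroup G} (hc : core a ≤ M)
    (hN : ∀ g ∈ normalizer (A : Set G), g ∈ centralizer ({a} : Set G) → g ∈ M)
    (hcomp : ∀ X : Subgroup (Kq a), Cfsg.IsComponent X → low a X ≤ M) :
    centralizer ({a} : Set G) ≤ M := by
  haveI : Fact (Nat.Prime 2) := ⟨Nat.prime_two⟩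
  obtain ⟨R, hR⟩ := exists_maxTwo A
  obtain ⟨T, -, hT⟩ := exists_sylow_ge hs.elem ha hR
  have L := loc hs ha ha1 T hT
  have hC := le_cent hs.elem ha
  have htop := L.layer_sup_normalizer fun X hX => centralP hs ha ha1 T hT hX
  set C := centralizer ({a} : Set G) with hCdef
  set MK := (M.subgroupOf C).map (piK a) with hMK
  have hker : ∀ x : C, piK a x = 1 → (x : G) ∈ M := fun x hx => hc (mem_core_of_piK x.2 hx)
  have h1 : Cfsg.layer (Kq a) ≤ MK := CfsgLib.Components.layer_le_iff.mpr fun X hX k hk => by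
    obtain ⟨g, rfl⟩ := QuotientGroup.mk'_surjective _ k
    exact ⟨g, mem_subgroupOf.mpr (hcomp X hX (mem_low.mpr ⟨g.2, hk⟩)), rfl⟩
  have h2 : normalizer (AK A a : Set (Kq a)) ≤ MK := by
    intro k hk
    obtain ⟨g, rfl⟩ := QuotientGroup.mk'_surjective _ k
    refine ⟨g, mem_subgroupOf.mpr ?_, rfl⟩
    -- `g A g⁻¹ ≤ A O`
    set O := core a with hO
    set N := A ⊔ O with hNdef
    have hAO : A ≤ normalizer (O : Set G) := by
      refine fun x hx => mem_normalizer_of_forall ?_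
      rintro _ ⟨o, ho, rfl⟩
      exact ⟨⟨x, hC hx⟩ * o * ⟨x, hC hx⟩⁻¹,
        (inferInstance : (Cfsg.oddCore ↥C).Normal).conj_mem o ho _, rfl⟩
    have hsub : A.map (MulAut.conj (g : G)).toMonoidHom ≤ N := by
      rintro _ ⟨x, hx, rfl⟩
      obtain ⟨y, hy, hye⟩ := (mem_normalizer_iff.mp hk (piK a ⟨x, hC hx⟩)).mp ⟨_, hx, rfl⟩
      have h3 : piK a (y⁻¹ * (g * ⟨x, hC hx⟩ * g⁻¹)) = 1 := by
        rw [map_mul, map_inv, hye, map_mul, map_mul, map_inv, inv_mul_cancel]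
      have h4 := mem_core_of_piK (y⁻¹ * (g * ⟨x, hC hx⟩ * g⁻¹)).2 h3
      have h5 := mul_mem (mem_sup_left (mem_subgroupOf.mp hy) : (y : G) ∈ N) (mem_sup_right h4)
      simpa [mul_assoc] using h5
    have hidx : ¬ 2 ∣ A.relIndex N := by
      intro hd
      have h3 : Nat.card A * A.relIndex N = Nat.card N := by
        rw [← relIndex_bot_left, ← relIndex_bot_left N]
        exact relIndex_mul_relIndex ⊥ _ _ bot_le le_sup_left
      have h4 : Nat.card N ∣ Nat.card A * Nat.card O := by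
        rw [hNdef, sup_comm, mul_comm]
        exact CfsgLib.Components.card_sup_dvd_mul hAO
      rw [← h3] at h4
      have hodd : Odd (Nat.card O) := by
        rw [hO, core, Cfsg.centralizerPPrimeCore, card_map_of_injective C.subtype_injective]
        exact odd_oddCore _
      exact Nat.not_even_iff_odd.mpr hodd
        (even_iff_two_dvd.mpr (hd.trans (Nat.dvd_of_mul_dvd_mul_left Nat.card_pos h4)))
    obtain ⟨n, hn, hne⟩ := CfsgLib.Transfer.exists_conj_le (isPGroup_elem hs.elem) hidx hsub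
      ((isPGroup_elem hs.elem).map _)
    have hnA : n⁻¹ * (g : G) ∈ normalizer (A : Set G) := mem_normalizer_of_forall fun x hx => by
      have h6 := hne _ ⟨x, hx, rfl⟩
      simpa [mul_assoc] using h6
    have hnC : n ∈ C := (sup_le hC (map_subtype_le _) : N ≤ C) hn
    have hnM : n ∈ M := (sup_le (fun x hx => hN x (le_normalizer hx) (hC hx)) hc : N ≤ M) hn
    have := mul_mem hnM (hN _ hnA (mul_mem (inv_mem hnC) g.2))
    rwa [mul_inv_cancel_left] at this
  intro x hx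
  have h6 : piK a ⟨x, hx⟩ ∈ MK := (htop ▸ sup_le h1 h2 : (⊤ : Subgroup (Kq a)) ≤ MK) (mem_top _)
  obtain ⟨m, hm, hme⟩ := h6
  have h7 := hker (m⁻¹ * ⟨x, hx⟩) (by rw [map_mul, map_inv, hme, inv_mul_cancel])
  have h8 := mul_mem (mem_subgroupOf.mp hm) h7
  simpa using h8

/-- The preimage of a component centralised by the image of `V ≤ A` is covered by `C(V)`. -/
theorem low_le_sup_centralizer {X : Subgroup (Kq a)} {V : Subgroup G} (hV : V ≤ A)
    (h : ∀ v ∈ V, ∀ hv : v ∈ centralizer ({a} : Set G), piK a ⟨v, hv⟩ ∈ centralizer (X : Set (Kq a))) :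
    low a X ≤ core a ⊔ centralizer (V : Set G) := by
  haveI : Fact (Nat.Prime 2) := ⟨Nat.prime_two⟩
  have hC := le_cent hs.elem ha
  intro x hx
  obtain ⟨hxC, hxX⟩ := mem_low.mp hx
  have hVN : V ≤ normalizer (core a : Set G) := by
    refine fun v hv => mem_normalizer_of_forall ?_
    rintro _ ⟨o, ho, rfl⟩
    exact ⟨⟨v, hC (hV hv)⟩ * o * ⟨v, hC (hV hv)⟩⁻¹,
      (inferInstance : (Cfsg.oddCore ↥(centralizer ({a} : Set G))).Normal).conj_mem o ho _, rfl⟩
  have hcop : (Nat.card V).Coprime (Nat.card (core a)) := by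
    obtain ⟨k, hk⟩ := ((isPGroup_elem hs.elem).to_le hV).exists_card_eq
    rw [hk]
    refine Nat.Coprime.pow_left k (Nat.coprime_two_left.mpr ?_)
    rw [core, Cfsg.centralizerPPrimeCore, card_map_of_injective (centralizer ({a} : Set G)).subtype_injective]
    exact odd_oddCore _
  have hVs : Group.IsSolvable V := by
    haveI : IsMulCommutative V :=
      ⟨⟨fun x y => Subtype.ext (elem_comm hs.elem (hV x.2) (hV y.2))⟩⟩
    exact Group.isSolvable_of_comm fun x y => (inferInstance : IsMulCommutative V).1.comm x y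
  obtain ⟨n, hn, hc⟩ := CfsgLib.Core.exists_centralizing_in_coset hVN hcop (Or.inl hVs) (k := x)
    (by
      intro v hv
      set x' : centralizer ({a} : Set G) := ⟨x, hxC⟩
      set v' : centralizer ({a} : Set G) := ⟨v, hC (hV hv)⟩
      have h1 : piK a (x'⁻¹ * (v' * x' * v'⁻¹)) = 1 := by
        rw [map_mul, map_mul, map_mul, map_inv, map_inv,
          ← mem_centralizer_iff.mp (h v hv (hC (hV hv))) _ hxX, mul_inv_cancel_right, inv_mul_cancel]
      exact mem_core_of_piK (x'⁻¹ * (v' * x' * v'⁻¹)).2 h1)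
  rw [show x = x * n * n⁻¹ by group]
  exact mul_mem (mem_sup_right hc) (mem_sup_left (inv_mem hn))

/-- A moved component gives a splitting. -/
theorem exists_split {X : Subgroup (Kq a)} (hX : Cfsg.IsComponent X)
    (hmv : ¬ AK A a ≤ centralizer (X : Set (Kq a))) :
    Split A (A ⊓ low a X) (A ⊓ low a (centralizer (X : Set (Kq a)))) ∧
      (core a = ⊥ → IsSimpleGroup ↥(low a X) ∧
        Nat.card ↥(low a X) = szOrd (Nat.card ↥(A ⊓ low a X))) := by
  haveI : Fact (Nat.Prime 2) := ⟨Nat.prime_two⟩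
  obtain ⟨R, hR⟩ := exists_maxTwo A
  obtain ⟨T, hRT, hT⟩ := exists_sylow_ge hs.elem ha hR
  have L := loc hs ha ha1 T hT
  have hC := le_cent hs.elem ha
  have hc := center_eq_bot_of_moved hs ha ha1 T hT hX hmv
  have hsz := L.sz hX
  have hinjX := Loc.mk_injective hX hc
  set Pb := pBar (TK T : Subgroup (Kq a)) X
  have hRC : R ≤ centralizer ({a} : Set G) := fun r hr =>
    mem_centralizer_singleton_iff.mpr (mem_centralizer_iff.mp (hR.cent hr) a ha).symm
  set P := R ⊓ low a X with hP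
  set C := R ⊓ low a (centralizer (X : Set (Kq a))) with hCdef
  set Z := A ⊓ low a X with hZ
  have hAR := hR.le hs.elem
  -- lifting
  have hlift : ∀ y : X, (y : Kq a) ∈ (TK T : Subgroup (Kq a)) →
      ∃ r, ∃ hr : r ∈ R, piK a ⟨r, hRC hr⟩ = y := by
    rintro y ⟨t, ht, hte⟩
    have htA : (t : G) ∈ centralizer (A : Set G) := by
      rw [← commute_iff hs ha ha1 T hT ht, show piK a t = y from hte]
      exact centralP hs ha ha1 T hT hX (mem_inf.mpr ⟨⟨t, ht, hte⟩, y.2⟩)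
    set Q := ((T : Subgroup ↥(centralizer ({a} : Set G))).map
      (centralizer ({a} : Set G)).subtype) ⊓ centralizer (A : Set G)
    have hQ : Q = R := hR.maximal Q ((T.isPGroup'.map _).to_le inf_le_left)
      (le_inf (fun r hr => ⟨⟨r, hRC hr⟩, hRT hr, rfl⟩) hR.cent) inf_le_right
    exact ⟨t, hQ ▸ mem_inf.mpr ⟨⟨t, ht, rfl⟩, htA⟩, hte⟩
  have hinj : ∀ r s (hr : r ∈ R) (hs : s ∈ R), piK a ⟨r, hRC hr⟩ = piK a ⟨s, hRC hs⟩ → r = s :=
    fun r s hr hs e => congrArg Subtype.val (piK_injOn T (hRT hr) (hRT hs) e)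
  -- the map to `X ⧸ Z(X)`
  let φ : ∀ p ∈ P, X ⧸ center X := fun p hp =>
    QuotientGroup.mk (⟨piK a ⟨p, hRC (mem_inf.mp hp).1⟩,
      (mem_low.mp (mem_inf.mp hp).2).2⟩ : X)
  have hφmem : ∀ p hp, φ p hp ∈ Pb := fun p hp =>
    L.mk_mem_pBar hX ⟨⟨p, hRC (mem_inf.mp hp).1⟩, hRT (mem_inf.mp hp).1, rfl⟩
  have hφinj : ∀ p q hp hq, φ p hp = φ q hq → p = q := fun p q hp hq e =>
    hinj p q (mem_inf.mp hp).1 (mem_inf.mp hq).1 (congrArg (fun z : X => (z : Kq a)) (hinjX e))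
  have hφmul : ∀ p q hp hq, φ (p * q) (mul_mem hp hq) = φ p hp * φ q hq := fun p q hp hq => by
    show _ = QuotientGroup.mk _ * QuotientGroup.mk _
    rw [← QuotientGroup.mk_mul]
    rfl
  have hφcongr : ∀ p q hp hq, p = q → φ p hp = φ q hq := fun p q hp hq e => by subst e; rfl
  have hφsurj : ∀ y ∈ Pb, ∃ p hp, φ p hp = y := by
    rintro _ ⟨x, hx, rfl⟩
    obtain ⟨r, hr, hre⟩ := hlift x (mem_inf.mp (mem_subgroupOf.mp hx)).1
    exact ⟨r, mem_inf.mpr ⟨hr, mem_low.mpr ⟨hRC hr, by rw [hre]; exact x.2⟩⟩,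
      congrArg QuotientGroup.mk (Subtype.ext hre)⟩
  have hAcen : ∀ p hp, p ∈ A → φ p hp ∈ cen Pb := fun p hp hpA =>
    L.mk_mem_cen hX (⟨_, hpA, rfl⟩ : piK a ⟨p, hRC (mem_inf.mp hp).1⟩ ∈ AK A a)
  have hcenA : ∀ p hp, φ p hp ∈ cen Pb → p ∈ A := by
    intro p hp h
    obtain ⟨x, ⟨b, hb, hbe⟩, hxe⟩ := L.exists_mem_A hX hmv h
    have e := congrArg (fun z : X => (z : Kq a)) (hinjX hxe)
    have h1 := hinj b p (hAR hb) (mem_inf.mp hp).1 (hbe.trans e)
    exact h1 ▸ hb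
  have hZmem : ∀ p, p ∈ Z ↔ ∃ hp : p ∈ P, φ p hp ∈ cen Pb := by
    intro p
    constructor
    · intro hp
      have hp' : p ∈ P := mem_inf.mpr ⟨hAR (mem_inf.mp hp).1, (mem_inf.mp hp).2⟩
      exact ⟨hp', hAcen p hp' (mem_inf.mp hp).1⟩
    · rintro ⟨hp, h⟩
      exact mem_inf.mpr ⟨hcenA p hp h, (mem_inf.mp hp).2⟩
  have hcardZ : Nat.card Z = Nat.card (cen Pb) := by
    refine Nat.card_eq_of_bijective
      (fun p : Z => (⟨φ p ((hZmem p).mp p.2).1, ((hZmem p).mp p.2).2⟩ : cen Pb))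
      ⟨fun p q e => Subtype.ext (hφinj _ _ ((hZmem p).mp p.2).1 ((hZmem q).mp q.2).1
        (congrArg Subtype.val e)), fun y => ?_⟩
    obtain ⟨p, hp, hpe⟩ := hφsurj y y.2.1
    exact ⟨⟨p, (hZmem p).mpr ⟨hp, hpe ▸ y.2⟩⟩, Subtype.ext hpe⟩
  refine ⟨⟨R, P, C, hR.cent, hR.pgroup, hR.maximal, inf_le_left, inf_le_left, ?_, ?_, ?_, ?_, ?_, ?_,
    inf_le_left, hcardZ ▸ hsz.eight, ?_, ?_⟩, fun hcore => ?_⟩
  · intro p hp c hc'
    obtain ⟨hpR, hpX⟩ := mem_inf.mp hp
    obtain ⟨hcR, hcX⟩ := mem_inf.mp hc'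
    refine hinj _ _ (mul_mem hpR hcR) (mul_mem hcR hpR) ?_
    show piK a (⟨p, hRC hpR⟩ * ⟨c, hRC hcR⟩) = piK a (⟨c, hRC hcR⟩ * ⟨p, hRC hpR⟩)
    rw [map_mul, map_mul]
    exact mem_centralizer_iff.mp (mem_low.mp hcX).2 _ (mem_low.mp hpX).2
  · intro x hxP hxC
    obtain ⟨hxR, hxX⟩ := mem_inf.mp hxP
    obtain ⟨hx', hxX'⟩ := mem_low.mp hxX
    obtain ⟨_, hxC'⟩ := mem_low.mp (mem_inf.mp hxC).2
    have h1 : (⟨piK a ⟨x, hx'⟩, hxX'⟩ : X) ∈ center X :=
      Subgroup.mem_center_iff.mpr fun g => Subtype.ext (mem_centralizer_iff.mp hxC' g g.2)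
    rw [hc, mem_bot] at h1
    exact hinj x 1 hxR (one_mem R) ((congrArg Subtype.val h1).trans (map_one (piK a)).symm)
  · intro r hr
    obtain ⟨y, hy, hye⟩ := L.exists_split hX hmv (k := piK a ⟨r, hRC hr⟩)
      ((commute_iff hs ha ha1 T hT (hRT hr)).mpr (hR.cent hr))
    obtain ⟨p, hp, hpe⟩ := hlift ⟨y, (mem_inf.mp hy).2⟩ (mem_inf.mp hy).1
    refine ⟨p, mem_inf.mpr ⟨hp, mem_low.mpr ⟨hRC hp, by rw [hpe]; exact (mem_inf.mp hy).2⟩⟩, p⁻¹ * r,
      mem_inf.mpr ⟨mul_mem (inv_mem hp) hr, mem_low.mpr ⟨hRC (mul_mem (inv_mem hp) hr), ?_⟩⟩,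
      (mul_inv_cancel_left p r).symm⟩
    rw [show (⟨p⁻¹ * r, hRC (mul_mem (inv_mem hp) hr)⟩ : centralizer ({a} : Set G)) =
      ⟨p, hRC hp⟩⁻¹ * ⟨r, hRC hr⟩ from rfl, map_mul, map_inv, hpe]
    exact hye
  · ext p
    rw [hZmem]
    constructor
    · intro hp
      refine ⟨(mem_inf.mp hp).1, mem_inf.mpr ⟨hφmem p (mem_inf.mp hp).1,
        mem_centralizer_iff.mpr fun y hy => ?_⟩⟩
      obtain ⟨q, hq, rfl⟩ := hφsurj y hy
      have hpP := (mem_inf.mp hp).1
      rw [← hφmul q p hq hpP, ← hφmul p q hpP hq]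
      exact hφcongr _ _ (mul_mem hq hpP) (mul_mem hpP hq) (mem_centralizer_iff.mp (mem_inf.mp hp).2 q hq)
    · rintro ⟨hp, h⟩
      refine mem_inf.mpr ⟨hp, mem_centralizer_iff.mpr fun q hq => ?_⟩
      refine hφinj _ _ (mul_mem hq hp) (mul_mem hp hq) ?_
      rw [hφmul q p hq hp, hφmul p q hp hq]
      exact mem_centralizer_iff.mp h.2 _ (hφmem q hq)
  · -- the derived subgroup, computed in `X ⧸ Z(X)`
    let Φ : P →* X ⧸ center X := MonoidHom.mk' (fun p => φ p p.2) fun p q => hφmul p q p.2 q.2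
    have hΦr : (⊤ : Subgroup P).map Φ = Pb := by
      ext y
      constructor
      · rintro ⟨p, -, rfl⟩; exact hφmem p p.2
      · intro hy
        obtain ⟨p, hp, rfl⟩ := hφsurj y hy
        exact ⟨⟨p, hp⟩, mem_top _, rfl⟩
    rw [← Subgroup.map_subtype_commutator]
    ext p
    rw [hZmem]
    constructor
    · rintro ⟨q, hq, rfl⟩
      refine ⟨q.2, ?_⟩
      rw [← hsz.comm, ← hΦr, ← Subgroup.map_commutator, ← _root_.commutator_def]
      exact ⟨q, hq, rfl⟩
    · rintro ⟨hp, h⟩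
      rw [← hsz.comm, ← hΦr, ← Subgroup.map_commutator, ← _root_.commutator_def] at h
      obtain ⟨q, hq, hqe⟩ := h
      exact ⟨q, hq, hφinj _ _ q.2 hp hqe⟩
  · intro w hw hwZ v hv hvw
    have hcomm : Commute (φ v hv) (φ w hw) := by
      show φ v hv * φ w hw = φ w hw * φ v hv
      rw [← hφmul v w hv hw, ← hφmul w v hw hv]
      exact hφcongr _ _ (mul_mem hv hw) (mul_mem hw hv) hvw.eq
    rcases hsz.centr (φ w hw) (hφmem w hw) (fun hh => hwZ ((hZmem w).mpr ⟨hw, hh⟩)) (φ v hv)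
      (hφmem v hv) hcomm with h1 | h1
    · exact Or.inl ((hZmem v).mpr ⟨hv, h1⟩)
    · refine Or.inr ((hZmem _).mpr ⟨mul_mem hv (inv_mem hw), ?_⟩)
      have h2 := hφmul v w⁻¹ hv (inv_mem hw)
      rw [h2]
      exact h1
  · ext x
    simp only [hCdef, mem_inf]
    exact ⟨fun h => ⟨h.1, hAR h.1, h.2⟩, fun h => ⟨h.1, h.2.2⟩⟩
  · intro x hx
    obtain ⟨r, hrT, hrz, hrc⟩ := L.exists_decomp hX (⟨⟨x, hC hx⟩, hx, rfl⟩ : piK a ⟨x, hC hx⟩ ∈ AK A a)
    obtain ⟨p, hp, hpe⟩ := hlift r hrT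
    have hpP : p ∈ P := mem_inf.mpr ⟨hp, mem_low.mpr ⟨hRC hp, by rw [hpe]; exact r.2⟩⟩
    have hpA : p ∈ A := by
      refine hcenA p hpP ?_
      show QuotientGroup.mk _ ∈ _
      rw [show (⟨piK a ⟨p, hRC hp⟩, (mem_low.mp (mem_inf.mp hpP).2).2⟩ : X) = r from Subtype.ext hpe]
      exact hrz
    refine ⟨p, mem_inf.mpr ⟨hpA, (mem_inf.mp hpP).2⟩, p⁻¹ * x,
      mem_inf.mpr ⟨mul_mem (inv_mem hpA) hx, mem_low.mpr ⟨hC (mul_mem (inv_mem hpA) hx), ?_⟩⟩,
      (mul_inv_cancel_left p x).symm⟩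
    rw [show (⟨p⁻¹ * x, hC (mul_mem (inv_mem hpA) hx)⟩ : centralizer ({a} : Set G)) =
      ⟨p, hRC hp⟩⁻¹ * ⟨x, hC hx⟩ from rfl, map_mul, map_inv, hpe]
    exact hrc
  · -- trivial core: the component is simple
    have hinjC : Function.Injective (piK a) := by
      refine (injective_iff_map_eq_one _).mpr fun x hx => Subtype.ext ?_
      have h1 := mem_core_of_piK x.2 hx
      rw [hcore, mem_bot] at h1
      exact h1
    let e1 : ↥(low a X) ≃* ↥(X.comap (piK a)) :=
      ((X.comap (piK a)).equivMapOfInjective _ (centralizer ({a} : Set G)).subtype_injective).symm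
    let f : ↥(X.comap (piK a)) →* X ⧸ center X :=
      (QuotientGroup.mk' (center X)).comp (((piK a).domRestrict (X.comap (piK a))).codRestrict X fun x => x.2)
    have hf : Function.Bijective f := by
      refine ⟨fun x y e => Subtype.ext (hinjC (congrArg Subtype.val (hinjX e))), fun y => ?_⟩
      obtain ⟨x, rfl⟩ := QuotientGroup.mk_surjective y
      obtain ⟨g, hg⟩ := QuotientGroup.mk'_surjective _ (x : Kq a)
      exact ⟨⟨g, show piK a g ∈ X by rw [hg]; exact x.2⟩, congrArg QuotientGroup.mk (Subtype.ext hg)⟩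
    let e : ↥(low a X) ≃* X ⧸ center X := e1.trans (MulEquiv.ofBijective f hf)
    haveI := hsz.simple
    haveI : Nontrivial (X ⧸ center X) := IsSimpleGroup.toNontrivial
    haveI : Nontrivial ↥(low a X) := e.toEquiv.nontrivial
    exact ⟨IsSimpleGroup.isSimpleGroup_of_surjective e.symm.toMonoidHom e.symm.surjective,
      by rw [Nat.card_congr e.toEquiv, hcardZ]; exact hsz.card_group⟩

end CfsgLib.ThreePrime.Comp
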