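import Cfsg.Agent.Lib.ThreePrime.Comp.Loc

/-!
Owner: helper13. The components moved by a strongly closed elementary subgroup: the Sylow subgroup of
the component and, once `A` centralises it, the triviality of the centre of the component.
-/

set_option autoImplicit false
set_option linter.style.haveILetI false
set_option linter.unusedSectionVars false

namespace CfsgLib.ThreePrime.Comp

open Subgroup
open CfsgLib.Components
open scoped commutatorElement

universe u

variable {K : Type u} [Group K] [Finite K]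

namespace Loc

variable {T : Sylow 2 K} {A : Subgroup K} (L : Loc T A) {X : Subgroup K} (hX : Cfsg.IsComponent X)

include L hX

theorem sq_mem_cen {y : X ⧸ center X} (hy : y ∈ pBar (T : Subgroup K) X) :
    y * y ∈ cen (pBar (T : Subgroup K) X) := by
  by_cases h : y ∈ cen (pBar (T : Subgroup K) X)
  · exact mul_mem h h
  rcases (L.sz hX).centr y hy h (y * y) (mul_mem hy hy) ((Commute.refl y).mul_left (Commute.refl y)) with
    h1 | h1
  · exact h1
  · rw [mul_inv_cancel_right] at h1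
    exact absurd h1 h

theorem mk_mem_pBar {x : X} (hx : (x : K) ∈ (T : Subgroup K)) :
    (QuotientGroup.mk x : X ⧸ center X) ∈ pBar (T : Subgroup K) X := (L.mem_T_iff hX x).mpr hx

/-- An element over the centre of the Sylow subgroup of `X ⧸ Z(X)` commutes with `A`. -/
theorem commute_of_mem_cen {x : X}
    (hx : (QuotientGroup.mk x : X ⧸ center X) ∈ cen (pBar (T : Subgroup K) X)) {a : K} (ha : a ∈ A) :
    (x : K) * a = a * x := by
  obtain ⟨r, hrT, hrz, hc⟩ := L.exists_decomp hX ha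
  have hc' : ∀ y : X, (y : K) * ((r : K)⁻¹ * a) = (r : K)⁻¹ * a * y := fun y =>
    mem_centralizer_iff.mp hc y y.2
  suffices h : x * r = r * x by
    have h' : (x : K) * r = r * x := congrArg Subtype.val h
    calc (x : K) * a = (x * r) * ((r : K)⁻¹ * a) := by group
      _ = r * (x * ((r : K)⁻¹ * a)) := by rw [h']; group
      _ = r * ((r : K)⁻¹ * a * x) := by rw [hc']
      _ = a * x := by group
  set π := QuotientGroup.mk' (center X) with hπ
  set P := (pBar (T : Subgroup K) X).comap π with hP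
  -- commutators with `r` are central
  have hz : ∀ p ∈ P, p * r * p⁻¹ * r⁻¹ ∈ center X := by
    intro p hp
    rw [← QuotientGroup.eq_one_iff]
    show π (p * r * p⁻¹ * r⁻¹) = 1
    have h1 : π p * π r = π r * π p := mem_centralizer_iff.mp hrz.2 _ hp
    rw [map_mul, map_mul, map_mul, map_inv, map_inv, h1, mul_inv_cancel_right, mul_inv_cancel]
  have hder : ⁅P, P⁆ ≤ centralizer ({r} : Set X) := by
    rw [Subgroup.commutator_le]
    intro p hp q hq
    rw [mem_centralizer_singleton_iff]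
    obtain ⟨z, hzc, hzp⟩ : ∃ z ∈ center X, p * r * p⁻¹ = z * r :=
      ⟨_, hz p hp, by group⟩
    obtain ⟨w, hwc, hwq⟩ : ∃ w ∈ center X, q * r * q⁻¹ = w * r :=
      ⟨_, hz q hq, by group⟩
    have cz := Subgroup.mem_center_iff.mp hzc
    have cw := Subgroup.mem_center_iff.mp hwc
    have hzp' : p⁻¹ * r * p = z⁻¹ * r := by
      calc p⁻¹ * r * p = p⁻¹ * (z⁻¹ * (z * r)) * p := by group
        _ = (p⁻¹ * z⁻¹) * (p * r * p⁻¹) * p := by rw [← hzp]; group
        _ = (z⁻¹ * p⁻¹) * (p * r * p⁻¹) * p := by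
            rw [Subgroup.mem_center_iff.mp (inv_mem hzc) p⁻¹]
        _ = z⁻¹ * r := by group
    have hwq' : q⁻¹ * r * q = w⁻¹ * r := by
      calc q⁻¹ * r * q = q⁻¹ * (w⁻¹ * (w * r)) * q := by group
        _ = (q⁻¹ * w⁻¹) * (q * r * q⁻¹) * q := by rw [← hwq]; group
        _ = (w⁻¹ * q⁻¹) * (q * r * q⁻¹) * q := by
            rw [Subgroup.mem_center_iff.mp (inv_mem hwc) q⁻¹]
        _ = w⁻¹ * r := by group
    have e : ⁅p, q⁆ * r * ⁅p, q⁆⁻¹ = r := by
      rw [commutatorElement_def]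
      calc p * q * p⁻¹ * q⁻¹ * r * (p * q * p⁻¹ * q⁻¹)⁻¹
          = p * (q * (p⁻¹ * (q⁻¹ * r * q) * p) * q⁻¹) * p⁻¹ := by group
        _ = p * (q * (p⁻¹ * w⁻¹ * (r * p)) * q⁻¹) * p⁻¹ := by rw [hwq']; group
        _ = p * (q * (w⁻¹ * (p⁻¹ * r * p)) * q⁻¹) * p⁻¹ := by
            rw [Subgroup.mem_center_iff.mp (inv_mem hwc) p⁻¹]; group
        _ = p * (q * (w⁻¹ * z⁻¹) * (r * q⁻¹)) * p⁻¹ := by rw [hzp']; group
        _ = p * ((w⁻¹ * z⁻¹) * q * (r * q⁻¹)) * p⁻¹ := by
            rw [Subgroup.mem_center_iff.mp (mul_mem (inv_mem hwc) (inv_mem hzc)) q]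
        _ = p * (w⁻¹ * z⁻¹) * (q * r * q⁻¹) * p⁻¹ := by group
        _ = (w⁻¹ * z⁻¹) * p * (w * r) * p⁻¹ := by
            rw [Subgroup.mem_center_iff.mp (mul_mem (inv_mem hwc) (inv_mem hzc)) p, hwq]
        _ = w⁻¹ * z⁻¹ * (p * w) * (r * p⁻¹) := by group
        _ = w⁻¹ * z⁻¹ * (w * p) * (r * p⁻¹) := by rw [cw p]
        _ = w⁻¹ * (z⁻¹ * w) * (p * r * p⁻¹) := by group
        _ = w⁻¹ * (w * z⁻¹) * (z * r) := by rw [cw z⁻¹, hzp]
        _ = r := by group
    exact mul_inv_eq_iff_eq_mul.mp e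
  have hx' : π x ∈ ⁅pBar (T : Subgroup K) X, pBar (T : Subgroup K) X⁆ := (L.sz hX).comm.symm ▸ hx
  rw [← map_comap_eq_self_of_surjective (f := π) (QuotientGroup.mk'_surjective _)
    (pBar (T : Subgroup K) X), ← map_commutator] at hx'
  obtain ⟨d, hd, hde⟩ := hx'
  have h1 : d⁻¹ * x ∈ center X := QuotientGroup.eq.mp hde
  have h2 := mem_centralizer_singleton_iff.mp (hder hd)
  calc x * r = d * (d⁻¹ * x * r) := by group
    _ = (d * r) * (d⁻¹ * x) := by
        rw [← Subgroup.mem_center_iff.mp h1 r]; group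
    _ = (r * d) * (d⁻¹ * x) := by rw [h2]
    _ = r * x := by group

/-- The preimage of the centre of the Sylow subgroup has index `q` in the Sylow subgroup. -/
theorem index_cen :
    ((cen (pBar (T : Subgroup K) X)).subgroupOf (pBar (T : Subgroup K) X)).index =
      Nat.card (cen (pBar (T : Subgroup K) X)) := by
  have h1 := ((cen (pBar (T : Subgroup K) X)).subgroupOf (pBar (T : Subgroup K) X)).index_mul_card
  rw [Nat.card_congr (subgroupOfEquivOfLe inf_le_left).toEquiv, (L.sz hX).card, pow_two] at h1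
  exact Nat.eq_of_mul_eq_mul_right Nat.card_pos h1

/-- If `A` centralises the Sylow subgroup of a moved component, the component has trivial centre. -/
theorem center_eq_bot (hP : (T : Subgroup K) ⊓ X ≤ centralizer (A : Set K))
    (hmv : ¬ A ≤ centralizer (X : Set K)) : center X = ⊥ := by
  haveI : Fact (Nat.Prime 2) := ⟨Nat.prime_two⟩
  have hs := L.sz hX
  set π := QuotientGroup.mk' (center X) with hπ
  set D := (cen (pBar (T : Subgroup K) X)).comap π with hD
  set P := ((T : Subgroup K) ⊓ X).subgroupOf X with hPdef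
  have hmemP : ∀ x : X, x ∈ P ↔ (x : K) ∈ (T : Subgroup K) := fun x =>
    ⟨fun h => (mem_inf.mp (mem_subgroupOf.mp h)).1, fun h => mem_subgroupOf.mpr (mem_inf.mpr ⟨h, x.2⟩)⟩
  have hDP : D ≤ P := fun x hx => (hmemP x).mpr ((L.mem_T_iff hX x).mp (mem_inf.mp hx).1)
  have hDc : ∀ d ∈ D, ∀ x ∈ P, d * x = x * d := by
    intro d hd x hx
    obtain ⟨b, hbA, hbe⟩ := L.exists_mem_A hX hmv hd
    have h1 : b⁻¹ * d ∈ center X := QuotientGroup.eq.mp hbe
    have h2 : b * x = x * b := Subtype.ext (mem_centralizer_iff.mp (hP (mem_subgroupOf.mp hx)) b hbA)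
    calc d * x = b * ((b⁻¹ * d) * x) := by group
      _ = b * x * (b⁻¹ * d) := by rw [← Subgroup.mem_center_iff.mp h1 x]; group
      _ = x * b * (b⁻¹ * d) := by rw [h2]
      _ = x * d := by group
  have hsq : ∀ x ∈ P, x * x ∈ D := fun x hx => by
    rw [hD, mem_comap, map_mul]
    exact L.sq_mem_cen hX ((L.mem_T_iff hX x).mpr ((hmemP x).mp hx))
  have hcomD : ∀ x ∈ P, ∀ y ∈ P, ⁅x, y⁆ ∈ D ∧ ⁅x, y⁆ * ⁅x, y⁆ = 1 := by
    intro x hx y hy
    have h1 : ⁅x, y⁆ ∈ D := by
      rw [commutatorElement_def,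
        show x * y * x⁻¹ * y⁻¹ = (x * x) * ((x⁻¹ * y) * (x⁻¹ * y)) * (y * y)⁻¹ by group]
      exact mul_mem (mul_mem (hsq x hx) (hsq _ (mul_mem (inv_mem hx) hy))) (inv_mem (hsq y hy))
    refine ⟨h1, ?_⟩
    have h2 : ⁅x * x, y⁆ = 1 := by
      rw [commutatorElement_def, hDc _ (hsq x hx) y hy, mul_inv_cancel_right, mul_inv_cancel]
    calc ⁅x, y⁆ * ⁅x, y⁆ = x * ⁅x, y⁆ * x⁻¹ * ⁅x, y⁆ := by
          rw [← hDc _ h1 x hx, mul_inv_cancel_right]
      _ = ⁅x * x, y⁆ := by rw [commutatorElement_def, commutatorElement_def]; group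
      _ = 1 := h2
  have hder : ∀ w ∈ ⁅P, P⁆, w ∈ D ∧ w * w = 1 := by
    intro w hw
    rw [Subgroup.commutator_def] at hw
    refine closure_induction ?_ ⟨one_mem D, one_mul 1⟩ ?_ ?_ hw
    · rintro _ ⟨x, hx, y, hy, rfl⟩; exact hcomD x hx y hy
    · rintro u v _ _ ⟨hu, h1⟩ ⟨hv, h2⟩
      refine ⟨mul_mem hu hv, ?_⟩
      calc u * v * (u * v) = u * (v * u) * v := by group
        _ = u * (u * v) * v := by rw [hDc v hv u (hDP hu)]
        _ = (u * u) * (v * v) := by group
        _ = 1 := by rw [h1, h2, one_mul]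
    · rintro u _ ⟨hu, h1⟩
      exact ⟨inv_mem hu, by rw [← mul_inv_rev, h1, inv_one]⟩
  have hcz : ∀ z ∈ center X, z ∈ ⁅P, P⁆ := fun z hz =>
    center_le_commutator_sylow (L.perfect hX) (sylowSub T hX.1) hz
      ((mem_sylowSub T hX.1 z).mpr (L.center_le hX z hz))
  have hD2 : ∀ d ∈ D, d * d = 1 := by
    intro d hd
    obtain ⟨b, hbA, hbe⟩ := L.exists_mem_A hX hmv hd
    have h1 : b⁻¹ * d ∈ center X := QuotientGroup.eq.mp hbe
    have h2 : b * b = 1 := Subtype.ext (sq_one L.elem hbA)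
    calc d * d = b * ((b⁻¹ * d) * b) * (b⁻¹ * d) := by group
      _ = (b * b) * ((b⁻¹ * d) * (b⁻¹ * d)) := by rw [← Subgroup.mem_center_iff.mp h1 b]; group
      _ = 1 := by rw [h2, (hder _ (hcz _ h1)).2, one_mul]
  obtain ⟨t, ht, w, -, hodd, -, htr⟩ := hs.torus
  obtain ⟨g, rfl, hgP⟩ := L.lift_normalizer hX ht
  have hgn : g ^ orderOf (QuotientGroup.mk g : X ⧸ center X) ∈ center X := by
    rw [← QuotientGroup.eq_one_iff, QuotientGroup.mk_pow, pow_orderOf_eq_one]
  have hgP' : ∀ x ∈ P, g * x * g⁻¹ ∈ P := fun x hx =>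
    mem_subgroupOf.mpr (hgP x (mem_subgroupOf.mp hx))
  have hgD : ∀ d ∈ D, g * d * g⁻¹ ∈ D := by
    intro d hd
    refine mem_comap.mpr (mem_inf.mpr ⟨(L.mem_T_iff hX _).mpr ((hmemP _).mp (hgP' d (hDP hd))), ?_⟩)
    refine mem_centralizer_iff.mpr fun p hp => ?_
    have h1 := mem_centralizer_iff.mp (mem_inf.mp hd).2 _ ((mem_normalizer_iff''.mp ht p).mp hp)
    rw [map_mul, map_mul, map_inv]
    show p * ((QuotientGroup.mk g : X ⧸ center X) * π d * (QuotientGroup.mk g : X ⧸ center X)⁻¹) =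
      (QuotientGroup.mk g : X ⧸ center X) * π d * (QuotientGroup.mk g : X ⧸ center X)⁻¹ * p
    set s : X ⧸ center X := QuotientGroup.mk g
    calc p * (s * π d * s⁻¹) = s * (s⁻¹ * p * s * π d) * s⁻¹ := by group
      _ = s * (π d * (s⁻¹ * p * s)) * s⁻¹ := by rw [h1]
      _ = s * π d * s⁻¹ * p := by group
  have htr' : ∀ x ∈ P, x ∉ D → ∀ y ∈ P, y ∉ D → ∃ i : ℕ, g ^ i * x * (g ^ i)⁻¹ * y⁻¹ ∈ D := by
    intro x hx hxD y hy hyD
    obtain ⟨i, hi⟩ := htr (π x) ((L.mem_T_iff hX x).mpr ((hmemP x).mp hx)) hxD (π y)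
      ((L.mem_T_iff hX y).mpr ((hmemP y).mp hy)) hyD
    refine ⟨i, ?_⟩
    rw [hD, mem_comap, map_mul, map_mul, map_mul, map_inv, map_inv, map_pow]
    exact hi
  have hbig : 8 * Nat.card D ≤ Nat.card P := by
    have h1 := (D.subgroupOf P).index_mul_card
    rw [Nat.card_congr (subgroupOfEquivOfLe hDP).toEquiv] at h1
    have h2 : (D.subgroupOf P).index = Nat.card (cen (pBar (T : Subgroup K) X)) := by
      have e : D.subgroupOf P = ((cen (pBar (T : Subgroup K) X)).subgroupOf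
          (pBar (T : Subgroup K) X)).comap (π.subgroupMap P) := rfl
      rw [e, index_comap_of_surjective _ (π.subgroupMap_surjective P)]
      exact L.index_cen hX
    rw [h2] at h1
    rw [← h1]
    exact Nat.mul_le_mul_right _ hs.eight
  refine (eq_bot_iff_forall _).mpr fun z hz => ?_
  exact fixed_commutator_eq_one P D hDP hDc hD2 hsq g hgP' hgD hodd
    (fun d _ => (Subgroup.mem_center_iff.mp hgn d).symm) htr' hbig (hcz z hz)
    (Subgroup.mem_center_iff.mp hz g)

omit L in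
theorem mk_injective (hc : center X = ⊥) :
    Function.Injective (QuotientGroup.mk : X → X ⧸ center X) := fun x y h => by
  have h1 := QuotientGroup.eq.mp h
  rw [hc, mem_bot] at h1
  exact inv_mul_eq_one.mp h1

/-- The elements of `T` centralising `A` split along a moved component with trivial centre. -/
theorem exists_split (hmv : ¬ A ≤ centralizer (X : Set K)) {k : K}
    (hkA : k ∈ centralizer (A : Set K)) :
    ∃ p ∈ (T : Subgroup K) ⊓ X, p⁻¹ * k ∈ centralizer (X : Set K) := by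
  have hs := L.sz hX
  have hkN : k ∈ normalizer (X : Set K) := by
    apply mem_normalizer_iff_map_conj_eq.2
    by_contra hne
    have hcom := Subgroup.commutator_eq_bot_iff_le_centralizer.mp
      (components_commute (isComponent_map_equiv (MulAut.conj k) hX) hX hne)
    have h8 := hs.eight
    have hbot : cen (pBar (T : Subgroup K) X) = ⊥ := by
      refine (eq_bot_iff_forall _).mpr fun y hy => ?_
      obtain ⟨x, hxA, rfl⟩ := L.exists_mem_A hX hmv hy
      refine (QuotientGroup.eq_one_iff x).mpr (Subgroup.mem_center_iff.mpr fun g => Subtype.ext ?_)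
      have hx' : (x : K) ∈ X.map (MulAut.conj k).toMonoidHom := ⟨x, x.2, by
        show k * (x : K) * k⁻¹ = x
        rw [← mem_centralizer_iff.mp hkA x hxA, mul_inv_cancel_right]⟩
      exact mem_centralizer_iff.mp (hcom hx') g g.2
    rw [hbot, card_bot] at h8
    omega
  obtain ⟨_, ⟨p, hp, rfl⟩, hpe⟩ := hs.fix (autBar X ⟨k, hkN⟩) (by
    intro y hy
    obtain ⟨x, hxA, rfl⟩ := L.exists_mem_A hX hmv hy
    rw [autBar_mk]
    congr 1
    refine Subtype.ext ?_
    show k * (x : K) * k⁻¹ = x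
    rw [← mem_centralizer_iff.mp hkA x hxA, mul_inv_cancel_right])
  refine ⟨p, mem_subgroupOf.mp hp, ?_⟩
  have h : (⟨(p : K), le_normalizer p.2⟩ : normalizer (X : Set K))⁻¹ * ⟨k, hkN⟩ ∈ (autBar X).ker := by
    rw [MonoidHom.mem_ker, map_mul, map_inv, hpe, autBar_of_mem X p.2]
    exact inv_mul_cancel _
  exact (autBar_eq_one (L.perfect hX) _).mp h

end Loc

end CfsgLib.ThreePrime.Comp
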