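import Cfsg.Agent.Lib.ThreePrime.Base
import Cfsg.Agent.Lib.ThreePrime.Comp.Basic
import Cfsg.Agent.Lib.Signalizer.Involutions

/-!
Owner: helper13. A proper subgroup containing `N(A)` and the centralisers of the elements of `A` leaves a
single class of elements of `A`.
-/

set_option autoImplicit false
set_option linter.style.haveILetI false

namespace CfsgLib.ThreePrime.Comp

open Subgroup

universe u

variable {G : Type u} [Group G] [Finite G] {S : Sylow 2 G} {A : Subgroup G}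

/-- The conjugates of `A` through an element of `A` are conjugate under its centraliser. -/
theorem exists_mem_normalizer_of_mem_conj (hA : Cfsg.IsElementaryAbelian 2 A)
    (hcl : Cfsg.IsStronglyClosed A (S : Subgroup G)) {a g : G} (ha : a ∈ A) (hag : g⁻¹ * a * g ∈ A) :
    ∃ μ ∈ centralizer ({a} : Set G), μ * g ∈ normalizer (A : Set G) := by
  haveI : Fact (Nat.Prime 2) := ⟨Nat.prime_two⟩
  set C := centralizer ({a} : Set G) with hC
  set A' := A.map (MulAut.conj g).toMonoidHom with hA'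
  have hAC : A ≤ C := fun x hx => mem_centralizer_singleton_iff.mpr (elem_comm hA hx ha)
  have hA'C : A' ≤ C := by
    rintro _ ⟨x, hx, rfl⟩
    refine mem_centralizer_singleton_iff.mpr ?_
    show g * x * g⁻¹ * a = a * (g * x * g⁻¹)
    calc g * x * g⁻¹ * a = g * (x * (g⁻¹ * a * g)) * g⁻¹ := by group
      _ = g * ((g⁻¹ * a * g) * x) * g⁻¹ := by rw [elem_comm hA hx hag]
      _ = a * (g * x * g⁻¹) := by group
  obtain ⟨T, hT⟩ := ((isPGroup_elem hA).comap_subtype (K := C)).exists_le_sylow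
  obtain ⟨T', hT'⟩ := (((isPGroup_elem hA).map (MulAut.conj g).toMonoidHom).comap_subtype
    (K := C)).exists_le_sylow
  obtain ⟨μ, hμ⟩ := MulAction.exists_smul_eq C T' T
  have hclT : Cfsg.IsStronglyClosed A ((T : Subgroup C).map C.subtype) :=
    closed_mono hcl (fun x hx => ⟨⟨x, hAC hx⟩, hT (mem_subgroupOf.mpr hx), rfl⟩) (T.isPGroup'.map _)
  refine ⟨μ, μ.2, mem_normalizer_of_forall fun x hx => ?_⟩
  refine hclT.2 x hx _ ?_
  have h1 : g * x * g⁻¹ ∈ A' := ⟨x, hx, rfl⟩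
  refine ⟨μ * ⟨g * x * g⁻¹, hA'C h1⟩ * μ⁻¹, ?_, by simp [mul_assoc]⟩
  rw [← hμ, Sylow.coe_subgroup_smul]
  exact Subgroup.smul_mem_pointwise_smul _ (MulAut.conj μ) _ (hT' (mem_subgroupOf.mpr h1))

theorem false_of_two_classes (hs : Setting S A) {M : Subgroup G} (hM : M ≠ ⊤)
    (hN : normalizer (A : Set G) ≤ M) (hCM : ∀ x ∈ A, x ≠ 1 → centralizer ({x} : Set G) ≤ M)
    {a b : G} (ha : a ∈ A) (hb : b ∈ A) (ha1 : a ≠ 1) (hb1 : b ≠ 1)
    (hne : ∀ g ∈ normalizer (A : Set G), g * a * g⁻¹ ≠ b) : False := by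
  haveI : Fact (Nat.Prime 2) := ⟨Nat.prime_two⟩
  haveI := hs.hyp.simple
  suffices hall : ∀ g : G, g * b * g⁻¹ ∈ M by
    have hle : Subgroup.normalClosure {b} ≤ M := by
      rw [Subgroup.normalClosure, closure_le]
      intro x hx
      obtain ⟨y, hy, hxy⟩ := Group.mem_conjugatesOfSet_iff.1 hx
      obtain ⟨z, rfl⟩ := isConj_iff.1 hxy
      rw [Set.mem_singleton_iff.mp hy]
      exact hall z
    rcases IsSimpleGroup.eq_bot_or_eq_top_of_normal (Subgroup.normalClosure {b}) inferInstance with h | h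
    · exact hb1 (mem_bot.mp (h ▸ Subgroup.subset_normalClosure (Set.mem_singleton b)))
    · exact hM (top_le_iff.mp (h ▸ hle))
  intro g
  set y := g * b * g⁻¹ with hy
  have hao : orderOf a = 2 := Signalizer.orderOf_eq_two_of ha1 (sq_one hs.elem ha)
  have hbo : orderOf b = 2 := Signalizer.orderOf_eq_two_of hb1 (sq_one hs.elem hb)
  have hyo : orderOf y = 2 := by rw [hy, Signalizer.orderOf_conj, hbo]
  have hnc : ∀ d : G, d * a * d⁻¹ ≠ y := by
    intro d hd
    have e : (g⁻¹ * d) * a * (g⁻¹ * d)⁻¹ = b := by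
      calc (g⁻¹ * d) * a * (g⁻¹ * d)⁻¹ = g⁻¹ * (d * a * d⁻¹) * g := by group
        _ = b := by rw [hd, hy]; group
    obtain ⟨m, hm, hme⟩ := hs.ctrl a (hs.le ha) (g⁻¹ * d) (e ▸ hs.le hb)
    exact hne m hm (hme.trans e)
  rcases Nat.even_or_odd (orderOf (a * y)) with he | ho
  swap
  · obtain ⟨d, -, hd⟩ := Signalizer.exists_conj_of_odd hao hyo ho
    exact absurd hd (hnc d)
  obtain ⟨hco, hca, hcy⟩ := Signalizer.central_involution hao hyo he
  set n := orderOf (a * y) / 2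
  set c := (a * y) ^ n with hc
  have hai : a⁻¹ = a := inv_self hs.elem ha
  have hyi : y⁻¹ = y := Signalizer.involution_inv hyo
  -- `c a` is conjugate to `a` or to `y`
  have hconj : ∃ x, x ∈ A ∧ ∃ d : G, d * x * d⁻¹ = c * a := by
    set x := a * y with hx
    set u := a * y * a with hu
    have hxa : a * x * a⁻¹ = x⁻¹ := by
      rw [hx, mul_inv_rev, hyi, hai, ← mul_assoc a a y, sq_one hs.elem ha, one_mul]
    have huu : u * x * u⁻¹ = x⁻¹ := by
      rw [hu, show a * y * a * x * (a * y * a)⁻¹ = a * y * (a * x * a⁻¹) * (a * y)⁻¹ by group, hxa, hx]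
      group
    rcases Nat.even_or_odd' n with ⟨j, hj | hj⟩
    · refine ⟨a, ha, x ^ (j : ℤ), ?_⟩
      calc x ^ (j : ℤ) * a * (x ^ (j : ℤ))⁻¹
          = x ^ (j : ℤ) * (a * (x ^ (j : ℤ))⁻¹ * a⁻¹) * a := by group
        _ = x ^ (j : ℤ) * x ^ (j : ℤ) * a := by
            rw [← zpow_neg, Signalizer.conj_zpow_of_inverts hxa, neg_neg]
        _ = c * a := by rw [← zpow_add, hc, ← zpow_natCast, hj]; push_cast; ring_nf
    · refine ⟨b, hb, x ^ (j : ℤ) * (a * g), ?_⟩
      calc x ^ (j : ℤ) * (a * g) * b * (x ^ (j : ℤ) * (a * g))⁻¹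
          = x ^ (j : ℤ) * u * (x ^ (j : ℤ))⁻¹ := by
            rw [hu, hy]; nth_rewrite 2 [← hai]; group
        _ = x ^ (j : ℤ) * (u * (x ^ (j : ℤ))⁻¹ * u⁻¹) * u := by group
        _ = x ^ (j : ℤ) * x ^ (j : ℤ) * u := by
            rw [← zpow_neg, Signalizer.conj_zpow_of_inverts huu, neg_neg]
        _ = c * a := by
            rw [hc, hj, hu, pow_succ, pow_mul, pow_two, ← zpow_natCast (x * x) j,
              (Commute.refl x).mul_zpow, ← hx]
            group
  obtain ⟨x0, hx0, d0, hd0⟩ := hconj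
  -- `⟨a, c⟩` goes into `S`, hence into `A`
  have hac : Commute a c := hca.symm
  have hc2 : c * c = 1 := Signalizer.involution_sq hco
  have hV : IsPGroup 2 (zpowers a ⊔ zpowers c : Subgroup G) := by
    refine IsPGroup.to_sup_of_normal_right' ?_ ?_ ?_
    · exact IsPGroup.of_card (n := 1) (by rw [Nat.card_zpowers, hao, pow_one])
    · exact IsPGroup.of_card (n := 1) (by rw [Nat.card_zpowers, hco, pow_one])
    · refine zpowers_le.mpr (mem_normalizer_of_forall fun z hz => ?_)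
      obtain ⟨i, rfl⟩ := mem_zpowers_iff.mp hz
      rw [(hac.zpow_right i).eq, mul_inv_cancel_right]
      exact zpow_mem (mem_zpowers c) i
  obtain ⟨P, hP⟩ := hV.exists_le_sylow
  obtain ⟨k, hk⟩ := MulAction.exists_smul_eq G P S
  have hmem : ∀ z ∈ (zpowers a ⊔ zpowers c : Subgroup G), k * z * k⁻¹ ∈ (S : Subgroup G) := by
    intro z hz
    rw [← hk, Sylow.coe_subgroup_smul, Subgroup.mem_pointwise_smul_iff_inv_smul_mem]
    simpa [MulAut.smul_def, mul_assoc] using hP hz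
  have hka : k * a * k⁻¹ ∈ A := hs.closed.2 a ha k (hmem a (mem_sup_left (mem_zpowers a)))
  have hkca : k * (c * a) * k⁻¹ ∈ A := by
    have e : k * (c * a) * k⁻¹ = (k * d0) * x0 * (k * d0)⁻¹ := by rw [← hd0]; group
    have h1 := hmem (c * a) (mul_mem (mem_sup_right (mem_zpowers c)) (mem_sup_left (mem_zpowers a)))
    rw [e] at h1 ⊢
    exact hs.closed.2 x0 hx0 _ h1
  have hkc : k * c * k⁻¹ ∈ A := by
    have h1 := mul_mem hkca (inv_mem hka)
    rwa [show k * (c * a) * k⁻¹ * (k * a * k⁻¹)⁻¹ = k * c * k⁻¹ by group] at h1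
  obtain ⟨μ, hμ, hμk⟩ := exists_mem_normalizer_of_mem_conj hs.elem hs.closed ha
    (g := k⁻¹) (by rwa [inv_inv])
  have hμc : μ * c * μ⁻¹ ∈ A := by
    have h1 := (mem_normalizer_iff.mp hμk _).mp hkc
    rwa [show μ * k⁻¹ * (k * c * k⁻¹) * (μ * k⁻¹)⁻¹ = μ * c * μ⁻¹ by group] at h1
  have hμc1 : μ * c * μ⁻¹ ≠ 1 := by
    intro h
    rw [conj_eq_one_iff] at h
    exact Signalizer.involution_ne_one hco h
  have hμM : μ ∈ M := hCM a ha ha1 hμ
  have hyM : μ * y * μ⁻¹ ∈ M := hCM _ hμc hμc1 (mem_centralizer_singleton_iff.mpr (by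
    calc μ * y * μ⁻¹ * (μ * c * μ⁻¹) = μ * (y * c) * μ⁻¹ := by group
      _ = μ * (c * y) * μ⁻¹ := by rw [hcy.eq]
      _ = μ * c * μ⁻¹ * (μ * y * μ⁻¹) := by group))
  have := mul_mem (mul_mem (inv_mem hμM) hyM) hμM
  simpa [mul_assoc] using this

end CfsgLib.ThreePrime.Comp
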