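import Cfsg.Agent.Lib.ThreePrime.Comp.Lift
import Cfsg.Agent.Lib.ThreePrime.Comp.Two
import Cfsg.Agent.Lib.Bender.Dichotomy.Setup

/-!
Owner: helper13. The parts of `A` cut out by the moved components.
-/

set_option autoImplicit false
set_option linter.style.haveILetI false
set_option linter.unusedSectionVars false

namespace CfsgLib.ThreePrime.Comp

open Subgroup

universe u

variable {G : Type u} [Group G]

theorem szOrd_pos {q : ℕ} (hq : 2 ≤ q) : q ≤ szOrd q := by
  unfold szOrd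
  calc q ≤ q ^ 2 := Nat.le_self_pow (by norm_num) q
    _ = q ^ 2 * 1 * 1 := by ring
    _ ≤ q ^ 2 * (q ^ 2 + 1) * (q - 1) :=
        Nat.mul_le_mul (Nat.mul_le_mul_left _ (by omega)) (by omega)

/-- The data of a part when the cores vanish. -/
structure HasX (Z B X : Subgroup G) : Prop where
  cent : X ≤ centralizer (B : Set G)
  le : Z ≤ X
  simple : IsSimpleGroup X
  card : Nat.card X = szOrd (Nat.card Z)

/-- A part of `A`. -/
structure IsPart (A Z B : Subgroup G) : Prop where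
  split : Split A Z B
  hasX : W0 A = ⊥ → ∃ X : Subgroup G, HasX Z B X

theorem HasX.map {Z B X : Subgroup G} (h : HasX Z B X) (g : G) :
    HasX (Z.map (MulAut.conj g).toMonoidHom) (B.map (MulAut.conj g).toMonoidHom)
      (X.map (MulAut.conj g).toMonoidHom) := by
  refine ⟨?_, map_mono h.le, ?_, ?_⟩
  · rintro _ ⟨x, hx, rfl⟩
    refine mem_centralizer_iff.mpr ?_
    rintro _ ⟨b, hb, rfl⟩
    rw [← map_mul, ← map_mul, mem_centralizer_iff.mp (h.cent hx) b hb]
  · haveI := h.simple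
    let e := X.equivMapOfInjective (MulAut.conj g).toMonoidHom (MulAut.conj g).injective
    haveI : Nontrivial X := IsSimpleGroup.toNontrivial
    haveI : Nontrivial ↥(X.map (MulAut.conj g).toMonoidHom) := e.toEquiv.symm.nontrivial
    exact IsSimpleGroup.isSimpleGroup_of_surjective e.toMonoidHom e.surjective
  · rw [card_map_of_injective (MulAut.conj g).injective, card_map_of_injective (MulAut.conj g).injective,
      h.card]

variable [Finite G] {S : Sylow 2 G} {A : Subgroup G}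

theorem map_conj_eq {H : Subgroup G} {g : G} (hg : g ∈ normalizer (H : Set G)) :
    H.map (MulAut.conj g).toMonoidHom = H := Bender.Dichotomy.cj_of_mem_normalizer hg

theorem IsPart.conj {Z B : Subgroup G} (h : IsPart A Z B) {g : G} (hg : g ∈ normalizer (A : Set G)) :
    IsPart A (Z.map (MulAut.conj g).toMonoidHom) (B.map (MulAut.conj g).toMonoidHom) := by
  refine ⟨?_, fun hW => ?_⟩
  · obtain ⟨R, P, C, hs⟩ := h.split
    have h1 := hs.map g
    rw [map_conj_eq hg] at h1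
    exact ⟨_, _, _, h1⟩
  · obtain ⟨X, hX⟩ := h.hasX hW
    exact ⟨_, hX.map g⟩

theorem Split.Z_le {Z B : Subgroup G} (h : Split A Z B) : Z ≤ A := by
  obtain ⟨R, P, C, hs⟩ := h; exact hs.Z_le

theorem Split.B_le {Z B : Subgroup G} (h : Split A Z B) : B ≤ A := by
  obtain ⟨R, P, C, hs⟩ := h; exact hs.B_le

theorem Split.eight {Z B : Subgroup G} (h : Split A Z B) : 8 ≤ Nat.card Z := by
  obtain ⟨R, P, C, hs⟩ := h; exact hs.eight

theorem Split.exists_ne_one {Z B : Subgroup G} (h : Split A Z B) : ∃ z ∈ Z, z ≠ 1 := by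
  by_contra hcon
  push Not at hcon
  have h8 := h.eight
  rw [(eq_bot_iff_forall Z).mpr hcon, card_bot] at h8
  omega

theorem Split.eq_one {Z B : Subgroup G} (h : Split A Z B) {x : G} (hz : x ∈ Z) (hb : x ∈ B) : x = 1 := by
  obtain ⟨R, P, C, hs⟩ := h; exact hs.Z_inf_B hz hb

theorem Split.le_other {Z B Z' B' : Subgroup G} (h : Split A Z B) (h' : Split A Z' B') (hne : Z' ≠ Z) :
    Z' ≤ B :=
  ((h.eq_or_orth h').resolve_left fun e => hne e.symm).1

theorem Split.eq_of_mem {Z B Z' B' : Subgroup G} (h : Split A Z B) (h' : Split A Z' B') {x : G}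
    (hx : x ∈ Z) (hx' : x ∈ Z') (hx1 : x ≠ 1) : Z' = Z := by
  by_contra hne
  exact hx1 (h.eq_one hx (h.le_other h' hne hx'))

/-- The Zs of the parts other than `Z` generate the complement. -/
abbrev others (A Z : Subgroup G) : Subgroup G := sSup {Z' | (∃ B', IsPart A Z' B') ∧ Z' ≠ Z}

theorem others_le {Z B : Subgroup G} (h : Split A Z B) : others A Z ≤ B :=
  sSup_le fun _ ⟨⟨_, h'⟩, hne⟩ => h.le_other h'.split hne

variable (hs : Setting S A)

include hs

theorem sSup_parts_eq {Z B : Subgroup G} (h : IsPart A Z B) :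
    sSup {Z' | ∃ B', IsPart A Z' B'} = A := by
  refine hs.irred _ (sSup_le fun _ ⟨_, h'⟩ => h'.split.Z_le) ?_ fun g hg b hb => ?_
  · intro e
    obtain ⟨z, hz, hz1⟩ := h.split.exists_ne_one
    exact hz1 (mem_bot.mp (e ▸ le_sSup (s := {Z' | ∃ B', IsPart A Z' B'}) ⟨B, h⟩ hz))
  · have hle : sSup {Z' | ∃ B', IsPart A Z' B'} ≤
        (sSup {Z' | ∃ B', IsPart A Z' B'}).comap (MulAut.conj g).toMonoidHom :=
      sSup_le fun Z' ⟨B', h'⟩ z hz =>
        le_sSup (s := {Z' | ∃ B', IsPart A Z' B'}) ⟨_, h'.conj hg⟩ ⟨z, hz, rfl⟩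
    exact hle hb

theorem B_eq {Z B : Subgroup G} (h : IsPart A Z B) : B = others A Z := by
  refine le_antisymm (fun b hb => ?_) (others_le h.split)
  have hOA : others A Z ≤ A := (others_le h.split).trans h.split.B_le
  have hsup : A ≤ Z ⊔ others A Z := by
    conv_lhs => rw [← sSup_parts_eq hs h]
    refine sSup_le fun Z' ⟨B', h'⟩ => ?_
    by_cases e : Z' = Z
    · exact e ▸ le_sup_left
    · exact le_sup_of_le_right (le_sSup ⟨⟨B', h'⟩, e⟩)
  have hb' := hsup (h.split.B_le hb)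
  rw [← SetLike.mem_coe, Subgroup.coe_mul_of_left_le_normalizer_right Z (others A Z)
    (((h.split.Z_le.trans (le_centralizer_self hs.elem)).trans (centralizer_le hOA)).trans
      (centralizer_le_normalizer _))] at hb'
  obtain ⟨z, hz, o, ho, hzo⟩ := hb'
  obtain rfl : z * o = b := hzo
  have h1 : z ∈ B := by
    have h2 := mul_mem hb (inv_mem (others_le h.split ho))
    rwa [mul_inv_cancel_right] at h2
  rw [h.split.eq_one hz h1, one_mul]
  exact ho

theorem B_unique {Z B B' : Subgroup G} (h : IsPart A Z B) (h' : IsPart A Z B') : B' = B :=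
  (B_eq hs h').trans (B_eq hs h).symm

/-- A moved component gives a part, and its `B` contains `a`. -/
theorem isPart_of_moved {a : G} (ha : a ∈ A) (ha1 : a ≠ 1) {X : Subgroup (Kq a)}
    (hX : Cfsg.IsComponent X) (hmv : ¬ AK A a ≤ centralizer (X : Set (Kq a))) :
    IsPart A (A ⊓ low a X) (A ⊓ low a (centralizer (X : Set (Kq a)))) ∧
      a ∈ A ⊓ low a (centralizer (X : Set (Kq a))) ∧
      (W0 A = ⊥ → HasX (A ⊓ low a X) (A ⊓ low a (centralizer (X : Set (Kq a)))) (low a X)) := by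
  obtain ⟨h1, h2⟩ := exists_split hs ha ha1 hX hmv
  have hcx : W0 A = ⊥ → HasX (A ⊓ low a X) (A ⊓ low a (centralizer (X : Set (Kq a)))) (low a X) := by
    intro hW
    have hc : core a = ⊥ := le_bot_iff.mp (hW ▸ core_le_W0 ha ha1)
    obtain ⟨hsimp, hcard⟩ := h2 hc
    refine ⟨fun x hx => mem_centralizer_iff.mpr fun b hb => ?_, inf_le_right, hsimp, hcard⟩
    obtain ⟨hxC, hxX⟩ := mem_low.mp hx
    obtain ⟨hbC, hbX⟩ := mem_low.mp hb.2
    have e : piK a (⟨x, hxC⟩ * ⟨b, hbC⟩) = piK a (⟨b, hbC⟩ * ⟨x, hxC⟩) := by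
      rw [map_mul, map_mul]
      exact mem_centralizer_iff.mp hbX _ hxX
    have h3 : (⟨b, hbC⟩ * ⟨x, hxC⟩ : centralizer ({a} : Set G))⁻¹ * (⟨x, hxC⟩ * ⟨b, hbC⟩) = 1 := by
      refine Subtype.ext ?_
      have h4 := mem_core_of_piK
        ((⟨b, hbC⟩ * ⟨x, hxC⟩ : centralizer ({a} : Set G))⁻¹ * (⟨x, hxC⟩ * ⟨b, hbC⟩)).2
        (by rw [map_mul, map_inv, e, inv_mul_cancel])
      rw [hc, mem_bot] at h4
      exact h4
    exact congrArg Subtype.val (inv_mul_eq_one.mp h3)
  refine ⟨⟨h1, fun hW => ⟨_, hcx hW⟩⟩, mem_inf.mpr ⟨ha, mem_low.mpr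
    ⟨le_cent hs.elem ha ha, mem_centralizer_iff.mpr fun k _ => ?_⟩⟩, hcx⟩
  obtain ⟨g, rfl⟩ := QuotientGroup.mk'_surjective _ k
  rw [← map_mul, ← map_mul]
  congr 1
  exact Subtype.ext (mem_centralizer_singleton_iff.mp g.2)

/-- Every part has a companion, as soon as one part has a non-trivial complement. -/
theorem exists_other {Z0 B0 Z B : Subgroup G} (h0 : IsPart A Z0 B0) {a : G} (ha : a ∈ B0) (ha1 : a ≠ 1)
    (h : IsPart A Z B) : ∃ Z' B', IsPart A Z' B' ∧ Z' ≠ Z := by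
  by_contra hcon
  push Not at hcon
  obtain rfl := hcon Z0 B0 h0
  have hbot : others A Z0 = ⊥ :=
    sSup_eq_bot.mpr fun Z' ⟨⟨B', h'⟩, hne⟩ => absurd (hcon Z' B' h') hne
  rw [B_eq hs h0, hbot, mem_bot] at ha
  exact ha1 ha

theorem eight_le_B {Z0 B0 Z B : Subgroup G} (h0 : IsPart A Z0 B0) {a : G} (ha : a ∈ B0) (ha1 : a ≠ 1)
    (h : IsPart A Z B) : 8 ≤ Nat.card B := by
  obtain ⟨Z', B', h', hne⟩ := exists_other hs h0 ha ha1 h
  exact h'.split.eight.trans (Subgroup.card_le_of_le (h.split.le_other h'.split hne))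

/-- Two parts give two classes of elements of `A`. -/
theorem false_of_proper {Z B Z' B' : Subgroup G} (h : IsPart A Z B) (h' : IsPart A Z' B') (hne : Z' ≠ Z)
    {M : Subgroup G} (hM : M ≠ ⊤) (hN : normalizer (A : Set G) ≤ M)
    (hCM : ∀ x ∈ A, x ≠ 1 → centralizer ({x} : Set G) ≤ M) : False := by
  obtain ⟨z, hz, hz1⟩ := h.split.exists_ne_one
  obtain ⟨z', hz', hz'1⟩ := h'.split.exists_ne_one
  have hzB' : z ∈ B' := h'.split.le_other h.split (Ne.symm hne) hz
  have hz'B : z' ∈ B := h.split.le_other h'.split hne hz'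
  have hzA : z ∈ A := h.split.Z_le hz
  have hz'A : z' ∈ A := h'.split.Z_le hz'
  refine false_of_two_classes hs hM hN hCM hzA (mul_mem hzA hz'A) hz1 ?_ ?_
  · intro e
    have h1 : z ∈ B := by
      rw [mul_eq_one_iff_eq_inv.mp e]; exact inv_mem hz'B
    exact hz1 (h.split.eq_one hz h1)
  intro g hg e
  set Z2 := Z.map (MulAut.conj g).toMonoidHom
  have h2 := h.conj hg
  have hmem : z * z' ∈ Z2 := ⟨z, hz, e⟩
  by_cases e1 : Z2 = Z
  · have h3 : z' ∈ Z := by
      have := mul_mem (inv_mem hz) (e1 ▸ hmem : z * z' ∈ Z)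
      rwa [inv_mul_cancel_left] at this
    exact hz'1 (h.split.eq_one h3 hz'B)
  · have h3 : z ∈ B := by
      have := mul_mem (h.split.le_other h2.split e1 hmem) (inv_mem hz'B)
      rwa [mul_inv_cancel_right] at this
    exact hz1 (h.split.eq_one hz h3)

end CfsgLib.ThreePrime.Comp
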