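import Cfsg.Agent.Lib.ThreePrime.Comp.Parts

/-!
Owner: helper13. The parts when the cores vanish: their simple groups are the moved components.
-/

set_option autoImplicit false
set_option linter.style.haveILetI false
set_option linter.unusedSectionVars false

namespace CfsgLib.ThreePrime.Comp

open Subgroup
open CfsgLib.Components
open scoped commutatorElement

universe u

variable {G : Type u} [Group G]

/-- A subnormal subgroup of a simple group. -/
theorem subnormal_simple {X : Type*} [Group X] [IsSimpleGroup X] {H : Subgroup X} (hH : H.IsSubnormal)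
    (hne : H ≠ ⊥) : H = ⊤ := by
  rcases hH.lt_normal with h | ⟨N, hN, hHN, hlt⟩
  · exact h
  rcases hN.eq_bot_or_eq_top with e | e
  · exact absurd (le_bot_iff.mp (e ▸ hHN)) hne
  · exact absurd e hlt.ne

/-- A simple group with the order of a Suzuki group has trivial centre. -/
theorem center_eq_bot_of_card {X : Subgroup G} [IsSimpleGroup X] [Finite X] {q : ℕ} (hq : 8 ≤ q)
    (hcard : Nat.card X = szOrd q) : center X = ⊥ := by
  rcases (center X).normal_of_characteristic.eq_bot_or_eq_top with h | h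
  · exact h
  exfalso
  haveI : IsMulCommutative X := ⟨⟨fun a b => Subgroup.mem_center_iff.mp (h ▸ mem_top b) a⟩⟩
  letI : CommGroup X := { (inferInstance : Group X) with mul_comm := (inferInstance : IsMulCommutative X).1.comm }
  haveI : Fintype X := Fintype.ofFinite _
  have hp := IsSimpleGroup.prime_card (α := X)
  rw [hcard] at hp
  refine Nat.not_prime_mul (a := q ^ 2 * (q ^ 2 + 1)) (b := q - 1) ?_ (by omega) hp
  have : 1 < q ^ 2 + 1 := by have := Nat.one_le_pow 2 q (by omega); omega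
  have h2 : 0 < q ^ 2 := pow_pos (by omega) 2
  nlinarith

variable [Finite G] {S : Sylow 2 G} {A : Subgroup G}

theorem core_eq_bot (hW : W0 A = ⊥) {a : G} (ha : a ∈ A) (ha1 : a ≠ 1) : core a = ⊥ :=
  le_bot_iff.mp (hW ▸ core_le_W0 ha ha1)

theorem piK_injective (hW : W0 A = ⊥) {a : G} (ha : a ∈ A) (ha1 : a ≠ 1) :
    Function.Injective (piK a) := by
  refine (injective_iff_map_eq_one _).mpr fun x hx => Subtype.ext ?_
  have h1 := mem_core_of_piK x.2 hx
  rw [core_eq_bot hW ha ha1, mem_bot] at h1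
  exact h1

theorem commute_low (hW : W0 A = ⊥) {a : G} (ha : a ∈ A) (ha1 : a ≠ 1) {U V : Subgroup (Kq a)}
    (hUV : U ≤ centralizer (V : Set (Kq a))) {x y : G} (hx : x ∈ low a U) (hy : y ∈ low a V) :
    x * y = y * x := by
  obtain ⟨hxC, hxU⟩ := mem_low.mp hx
  obtain ⟨hyC, hyV⟩ := mem_low.mp hy
  exact congrArg Subtype.val (piK_injective hW ha ha1
    (show piK a (⟨x, hxC⟩ * ⟨y, hyC⟩) = piK a (⟨y, hyC⟩ * ⟨x, hxC⟩) by
      rw [map_mul, map_mul]; exact (mem_centralizer_iff.mp (hUV hxU) _ hyV).symm))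

variable (hs : Setting S A) (hW : W0 A = ⊥)

include hs hW

theorem low_le_centralizer_of_unmoved {a : G} (ha : a ∈ A) (ha1 : a ≠ 1) {Y : Subgroup (Kq a)}
    (h : AK A a ≤ centralizer (Y : Set (Kq a))) : low a Y ≤ centralizer (A : Set G) := by
  intro y hy
  refine mem_centralizer_iff.mpr fun x hx => ?_
  exact commute_low hW ha ha1 h (mem_low.mpr ⟨le_cent hs.elem ha hx, ⟨_, hx, rfl⟩⟩) hy

/-- The simple group of a part is a component in the centraliser of each element of its complement. -/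
theorem part_comp {Z B X : Subgroup G} (h : IsPart A Z B) (hX : HasX Z B X) {b : G} (hb : b ∈ B)
    (hb1 : b ≠ 1) :
    ∃ Y : Subgroup (Kq b), Cfsg.IsComponent Y ∧ ¬ AK A b ≤ centralizer (Y : Set (Kq b)) ∧
      X = low b Y ∧ A ⊓ X = Z ∧ A ⊓ low b (centralizer (Y : Set (Kq b))) = B := by
  haveI : Fact (Nat.Prime 2) := ⟨Nat.prime_two⟩
  have hbA : b ∈ A := h.split.B_le hb
  have hC := le_cent hs.elem hbA
  have hXC : X ≤ centralizer ({b} : Set G) := fun x hx =>
    mem_centralizer_singleton_iff.mpr (mem_centralizer_iff.mp (hX.cent hx) b hb).symm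
  obtain ⟨R, hR⟩ := exists_maxTwo A
  obtain ⟨T, -, hT⟩ := exists_sylow_ge hs.elem hbA hR
  have L := loc hs hbA hb1 T hT
  haveI := hX.simple
  -- some moved component cuts out `Z`
  obtain ⟨Y, hY, hYm, hYZ⟩ : ∃ Y : Subgroup (Kq b), Cfsg.IsComponent Y ∧
      ¬ AK A b ≤ centralizer (Y : Set (Kq b)) ∧ A ⊓ low b Y = Z := by
    by_contra hcon
    push Not at hcon
    -- `π Z` centralises the layer
    have hZ : ∀ z, ∀ hz : z ∈ Z, piK b ⟨z, hC (h.split.Z_le hz)⟩ ∈
        AK A b ⊓ centralizer (Cfsg.layer (Kq b) : Set (Kq b)) := by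
      intro z hz
      have hzA := h.split.Z_le hz
      refine mem_inf.mpr ⟨⟨_, hzA, rfl⟩, ?_⟩
      rw [mem_centralizer_iff]
      intro k hk
      have hle : Cfsg.layer (Kq b) ≤ centralizer ({piK b ⟨z, hC hzA⟩} : Set (Kq b)) := by
        refine layer_le_iff.mpr fun Y hY y hy => mem_centralizer_singleton_iff.mpr ?_
        by_cases hYm : AK A b ≤ centralizer (Y : Set (Kq b))
        · exact mem_centralizer_iff.mp (hYm ⟨_, hzA, rfl⟩) y hy
        · obtain ⟨h1, -, -⟩ := isPart_of_moved hs hbA hb1 hY hYm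
          have h2 := h1.split.le_other h.split (fun e => hcon Y hY hYm e.symm)
          obtain ⟨_, h3⟩ := mem_low.mp (h2 hz).2
          exact mem_centralizer_iff.mp h3 y hy
      exact mem_centralizer_singleton_iff.mp (hle hk)
    set L0 := AK A b ⊓ centralizer (Cfsg.layer (Kq b) : Set (Kq b)) with hL0
    haveI : L0.Normal := L.inf_layer_centralizer_normal fun Y hY => centralP hs hbA hb1 T hT hY
    let f : X →* Kq b := (piK b).comp (inclusion hXC)
    have hne : L0.comap f ≠ ⊥ := by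
      obtain ⟨z, hz, hz1⟩ := h.split.exists_ne_one
      intro e
      have h1 : (⟨z, hX.le hz⟩ : X) ∈ L0.comap f := hZ z hz
      rw [e, mem_bot] at h1
      exact hz1 (congrArg Subtype.val h1)
    have htop := subnormal_simple (Subgroup.Normal.isSubnormal inferInstance : (L0.comap f).IsSubnormal) hne
    have hXA : ∀ x ∈ X, x ∈ A := by
      intro x hx
      have h1 : (⟨x, hx⟩ : X) ∈ L0.comap f := htop ▸ mem_top _
      obtain ⟨y, hy, hye⟩ := h1.1
      have h2 := congrArg Subtype.val (piK_injective hW hbA hb1 hye)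
      exact (show (y : G) = x from h2) ▸ hy
    have hcen := center_eq_bot_of_card h.split.eight hX.card
    obtain ⟨z, hz, hz1⟩ := h.split.exists_ne_one
    have h1 : (⟨z, hX.le hz⟩ : X) ∈ center X := Subgroup.mem_center_iff.mpr fun g =>
      Subtype.ext (elem_comm hs.elem (hXA g g.2) (hXA z (hX.le hz)))
    rw [hcen, mem_bot] at h1
    exact hz1 (congrArg Subtype.val h1)
  obtain ⟨h1, -, hXY⟩ := isPart_of_moved hs hbA hb1 hY hYm
  rw [hYZ] at h1 hXY
  have hsn : ((low b Y).subgroupOf X).IsSubnormal := by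
    have e : (low b Y).subgroupOf X = Y.comap ((piK b).comp (inclusion hXC)) := by
      ext x
      exact ⟨fun hx => (mem_low.mp hx).2, fun hx => mem_low.mpr ⟨hXC x.2, hx⟩⟩
    rw [e]
    exact hY.1.comap _
  have hne : (low b Y).subgroupOf X ≠ ⊥ := by
    obtain ⟨z, hz, hz1⟩ := h.split.exists_ne_one
    intro e
    have h2 : (⟨z, hX.le hz⟩ : X) ∈ (low b Y).subgroupOf X :=
      mem_subgroupOf.mpr (hYZ.symm ▸ hz : z ∈ A ⊓ low b Y).2
    rw [e, mem_bot] at h2
    exact hz1 (congrArg Subtype.val h2)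
  have hle : X ≤ low b Y := fun x hx =>
    mem_subgroupOf.mp (subnormal_simple hsn hne ▸ mem_top (⟨x, hx⟩ : X))
  have heq : X = low b Y :=
    Subgroup.eq_of_le_of_card_ge hle (by rw [(hXY hW).card, hX.card])
  exact ⟨Y, hY, hYm, heq, heq ▸ hYZ, B_unique hs h h1⟩

/-- The simple group of a part is unique. -/
theorem X_unique {Z B X X' : Subgroup G} (h : IsPart A Z B) (hX : HasX Z B X) (hX' : HasX Z B X')
    {b : G} (hb : b ∈ B) (hb1 : b ≠ 1) : X' = X := by
  obtain ⟨Y, hY, -, e, -, -⟩ := part_comp hs hW h hX hb hb1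
  obtain ⟨Y', hY', -, e', -, -⟩ := part_comp hs hW h hX' hb hb1
  rw [e, e']
  rcases components_eq_or_commute hY' hY with h1 | h1
  · rw [h1]
  exfalso
  obtain ⟨z, hz, hz1⟩ := h.split.exists_ne_one
  haveI := hX.simple
  have hcen := center_eq_bot_of_card h.split.eight hX.card
  have h2 : (⟨z, hX.le hz⟩ : X) ∈ center X := Subgroup.mem_center_iff.mpr fun g => Subtype.ext
    (commute_low hW (h.split.B_le hb) hb1 (Subgroup.commutator_eq_bot_iff_le_centralizer.mp h1)
      (e' ▸ hX'.le hz) (e ▸ g.2)).symm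
  rw [hcen, mem_bot] at h2
  exact hz1 (congrArg Subtype.val h2)

/-- The Sylow subgroup of the simple group of a part. -/
theorem exists_frame {Z B X : Subgroup G} (h : IsPart A Z B) (hX : HasX Z B X) {b : G} (hb : b ∈ B)
    (hb1 : b ≠ 1) :
    ∃ P : Sylow 2 X, SzSyl (P : Subgroup X) ∧ (∀ x : X, x ∈ cen (P : Subgroup X) ↔ (x : G) ∈ Z) ∧
      (∀ p : X, p ∈ (P : Subgroup X) → (p : G) ∈ centralizer (A : Set G)) ∧
      (∀ g : X, g ∈ normalizer ((P : Subgroup X) : Set X) → (g : G) ∈ normalizer (A : Set G)) := by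
  haveI : Fact (Nat.Prime 2) := ⟨Nat.prime_two⟩
  obtain ⟨Y, hY, hYm, rfl, hAX, -⟩ := part_comp hs hW h hX hb hb1
  have hbA : b ∈ A := h.split.B_le hb
  have hC := le_cent hs.elem hbA
  have hinj := piK_injective hW hbA hb1
  obtain ⟨R, hR⟩ := exists_maxTwo A
  obtain ⟨T, -, hT⟩ := exists_sylow_ge hs.elem hbA hR
  have L := loc hs hbA hb1 T hT
  have hinjY := Loc.mk_injective hY (center_eq_bot_of_moved hs hbA hb1 T hT hY hYm)
  let j : low b Y →* Y := MonoidHom.mk'
    (fun x => ⟨piK b ⟨x, (mem_low.mp x.2).1⟩, (mem_low.mp x.2).2⟩)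
    (fun x y => Subtype.ext (by
      show piK b _ = piK b _ * piK b _
      rw [← map_mul]
      rfl))
  have hj : Function.Bijective ((QuotientGroup.mk' (center Y)).comp j) := by
    refine ⟨fun x y e => Subtype.ext ?_, fun y => ?_⟩
    · exact congrArg (fun c : centralizer ({b} : Set G) => (c : G))
        (hinj (congrArg Subtype.val (hinjY e)))
    · obtain ⟨x, rfl⟩ := QuotientGroup.mk_surjective y
      obtain ⟨g, hg⟩ := QuotientGroup.mk'_surjective _ (x : Kq b)
      exact ⟨⟨g, mem_low.mpr ⟨g.2, by rw [show piK b ⟨g, g.2⟩ = x from hg]; exact x.2⟩⟩,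
        congrArg QuotientGroup.mk (Subtype.ext hg)⟩
  let e : low b Y ≃* Y ⧸ center Y := MulEquiv.ofBijective _ hj
  set Pb := pBar (TK T : Subgroup (Kq b)) Y with hPb
  let P0 : Sylow 2 (Y ⧸ center Y) :=
    (sylowSub (TK T) hY.1).mapSurjective (QuotientGroup.mk'_surjective (center Y))
  let P : Sylow 2 (low b Y) := P0.mapSurjective (f := e.symm.toMonoidHom) e.symm.surjective
  have hP : ∀ x, x ∈ (P : Subgroup (low b Y)) ↔ e x ∈ Pb := by
    intro x
    constructor
    · rintro ⟨y, hy, rfl⟩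
      exact (e.apply_symm_apply y).symm ▸ hy
    · exact fun hx => ⟨e x, hx, e.symm_apply_apply x⟩
  have hsz : SzSyl (P : Subgroup (low b Y)) := (L.sz hY).map e.symm
  have hcen : ∀ x : low b Y, x ∈ cen (P : Subgroup (low b Y)) ↔ e x ∈ cen Pb := by
    intro x
    have h1 : cen (Pb.map e.symm.toMonoidHom) = (cen Pb).map e.symm.toMonoidHom := cen_map e.symm Pb
    show x ∈ cen (Pb.map e.symm.toMonoidHom) ↔ _
    rw [h1]
    constructor
    · rintro ⟨y, hy, rfl⟩
      exact (e.apply_symm_apply y).symm ▸ hy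
    · exact fun hx => ⟨e x, hx, e.symm_apply_apply x⟩
  refine ⟨P, hsz, fun x => ?_, fun p hp => ?_, fun g hg => ?_⟩
  · rw [hcen]
    constructor
    · intro hx
      obtain ⟨y, ⟨a, ha, hae⟩, hye⟩ := L.exists_mem_A hY hYm hx
      have h2 : y = j x := hinjY hye
      have h3 := congrArg Subtype.val (hinj (hae.trans (congrArg Subtype.val h2)))
      rw [← hAX]
      exact ⟨(show (a : G) = x from h3) ▸ ha, x.2⟩
    · intro hx
      exact L.mk_mem_cen hY (x := j x) ⟨⟨x, hC (h.split.Z_le hx)⟩, h.split.Z_le hx, rfl⟩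
  · obtain ⟨t, ht, hte⟩ := (L.mem_T_iff hY (j p)).mp ((hP p).mp hp)
    have h1 : (t : G) = p := congrArg Subtype.val (hinj hte)
    rw [← h1, ← commute_iff hs hbA hb1 T hT ht]
    exact centralP hs hbA hb1 T hT hY ⟨⟨t, ht, rfl⟩, by rw [show piK b t = _ from hte]; exact (j p).2⟩
  · have hg' : e g ∈ normalizer (Pb : Set (Y ⧸ center Y)) := by
      refine mem_normalizer_of_forall fun y hy => ?_
      obtain ⟨x, rfl⟩ := e.surjective y
      rw [← map_inv, ← map_mul, ← map_mul, ← hP]
      exact (mem_normalizer_iff.mp hg x).mp ((hP x).mpr hy)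
    obtain ⟨g', hge, hgP⟩ := L.lift_normalizer hY hg'
    have h2 : g' = j g := hinjY hge
    subst h2
    have hN := L.mem_normalizer_A hY (j g).2 hgP
    refine mem_normalizer_of_forall fun a ha => ?_
    set g0 : centralizer ({b} : Set G) := ⟨g, (mem_low.mp g.2).1⟩
    obtain ⟨c, hc, hce⟩ := (mem_normalizer_iff.mp hN (piK b ⟨a, hC ha⟩)).mp ⟨_, ha, rfl⟩
    have h3 : c = g0 * ⟨a, hC ha⟩ * g0⁻¹ := hinj (by rw [map_mul, map_mul, map_inv]; exact hce)
    exact (show (c : G) = (g : G) * a * (g : G)⁻¹ by rw [h3]; rfl) ▸ hc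

end CfsgLib.ThreePrime.Comp
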